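import Groth.Agent.AGF.K495.GModPt2
import Groth.Agent.AGF.K495.Chars
import Groth.Agent.Sga3B.RG.SolvLine
import Groth.Agent.Sga3B.RG.Kolchin
import Groth.Agent.Sga3B.RG.UnipRep
import Groth.Agent.Sga3B.RadOpen.PtTorus
import Groth.Agent.Sga3B.RedIso
import Groth.Prelude.Def_Par

/-!
# Semi-invariants of solvable groups in rational modules
-/

set_option autoImplicit false
set_option linter.unusedSectionVars false

universe u v

open CategoryTheory MonoidalCategory CartesianMonoidalCategory MonObj GrpObj AlgebraicGeometry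
open scoped TensorProduct

namespace K498.LieKol

open Groth.Agent.Books.AffBridge Groth.Agent.Books.AffBridge2
open Groth.Agent.Sga3B.RG Groth.Agent.Sga3B.RG.BrPts K495.ObsPt K495.Bridge K495.GModPt

noncomputable section

section finite

variable {k : Type u} [Field k] {C : Type u} [CommRing C] [HopfAlgebra k C]
  {H : Over (Spec (CommRingCat.of k))} [GrpObj H] (e : H ≅ SpecOver k C) [IsMonHom e.hom]
  {M : Type v} [AddCommGroup M] [Module k M] (m : VecGrp.GMod H M)

lemma exists_fd_evT (z : C ⊗[k] M) : ∃ W : Submodule k M, Module.Finite k W ∧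
    ∀ p : Pt k C, evT M p.ofConv z ∈ W := by
  induction z using TensorProduct.induction_on with
  | zero => exact ⟨⊥, inferInstance, fun p => by rw [map_zero]; exact Submodule.zero_mem _⟩
  | tmul a x =>
    refine ⟨Submodule.span k {x}, inferInstance, fun p => ?_⟩
    rw [evT_tmul]
    exact Submodule.smul_mem _ _ (Submodule.mem_span_singleton_self x)
  | add x y hx hy =>
    obtain ⟨W, hW, h⟩ := hx
    obtain ⟨W', hW', h'⟩ := hy
    refine ⟨W ⊔ W', inferInstance, fun p => ?_⟩
    rw [map_add]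
    exact Submodule.add_mem _ (Submodule.mem_sup_left (h p)) (Submodule.mem_sup_right (h' p))

/-- Rational modules are locally finite. -/
theorem exists_fd (x : M) : ∃ V : Submodule k M, Module.Finite k V ∧ x ∈ V ∧
    ∀ p : Pt k C, ∀ y ∈ V, rep e m p y ∈ V := by
  obtain ⟨W, hW, h⟩ := exists_fd_evT (coact e m x)
  refine ⟨Submodule.span k (Set.range fun p : Pt k C => rep e m p x), ?_, ?_, ?_⟩
  · apply Submodule.finiteDimensional_of_le (S₂ := W)
    rw [Submodule.span_le]
    rintro _ ⟨p, rfl⟩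
    simp only [rep_apply]
    exact h p
  · exact Submodule.subset_span ⟨1, by simp only [map_one, Module.End.one_apply]⟩
  · intro p y hy
    induction hy using Submodule.span_induction with
    | mem y hy =>
      obtain ⟨q, rfl⟩ := hy
      refine Submodule.subset_span ⟨p * q, ?_⟩
      simp only [map_mul, Module.End.mul_apply]
    | zero => rw [map_zero]; exact Submodule.zero_mem _
    | add y z _ _ hy hz => rw [map_add]; exact Submodule.add_mem _ hy hz
    | smul c y _ hy => rw [map_smul]; exact Submodule.smul_mem _ _ hy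

/-- A nonzero stable subspace contains a nonzero finite-dimensional one, as a representation. -/
theorem exists_fd_sub {W : Submodule k M} (hW : ∀ p : Pt k C, ∀ x ∈ W, rep e m p x ∈ W)
    (hne : W ≠ ⊥) : ∃ V : Submodule k M, V ≤ W ∧ Module.Finite k V ∧ V ≠ ⊥ ∧
      ∀ p : Pt k C, V ≤ V.comap (rep e m p) := by
  obtain ⟨x, hx, hx0⟩ := Submodule.exists_mem_ne_zero_of_ne_bot hne
  obtain ⟨V, hV1, hV2, hV3⟩ := exists_fd e m x
  refine ⟨V ⊓ W, inf_le_right, inferInstance, ?_, fun p y hy => ⟨hV3 p y hy.1, hW p y hy.2⟩⟩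
  intro h
  have : x ∈ V ⊓ W := ⟨hV2, hx⟩
  rw [h] at this
  exact hx0 this

end finite

section eig

variable {k : Type u} [Field k] [IsAlgClosed k] {C : Type u} [CommRing C] [HopfAlgebra k C]
  [Algebra.FiniteType k C]
  {H : Over (Spec (CommRingCat.of k))} [GrpObj H] (e : H ≅ SpecOver k C) [IsMonHom e.hom]
  {M : Type v} [AddCommGroup M] [Module k M] (m : VecGrp.GMod H M)

/-- A function is a character. -/
structure IsChar (c : C) : Prop where
  one : (1 : Pt k C) c = 1
  mul : ∀ y z : Pt k C, (y * z) c = y c * z c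

lemma IsChar.of_eigen {c : C} {b : M} (hb : b ≠ 0) (h : ∀ p : Pt k C, rep e m p b = p c • b) :
    IsChar (k := k) c where
  one := by
    have h1 := h 1
    rw [map_one, Module.End.one_apply] at h1
    by_contra hne
    apply hb
    have h2 : ((1 : Pt k C) c - 1) • b = 0 := by rw [sub_smul, one_smul, ← h1, sub_self]
    exact (smul_eq_zero.1 h2).resolve_left (sub_ne_zero.2 hne)
  mul y z := by
    have h1 := h (y * z)
    rw [map_mul, Module.End.mul_apply, h z, map_smul, h y, smul_smul] at h1
    by_contra hne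
    apply hb
    have h2 : ((y * z) c - z c * y c) • b = 0 := by rw [sub_smul, ← h1, sub_self]
    exact (smul_eq_zero.1 h2).resolve_left (sub_ne_zero.2 (by rwa [_root_.mul_comm (z c)]))

/-- **Lie–Kolchin** in stable subspaces of rational modules. -/
theorem exists_semi [IsDomain C] [Group.IsSolvable (Pt k C)] {W : Submodule k M}
    (hW : ∀ p : Pt k C, ∀ x ∈ W, rep e m p x ∈ W) (hne : W ≠ ⊥) :
    ∃ b ∈ W, b ≠ 0 ∧ ∃ c : C, IsChar (k := k) c ∧ ∀ p : Pt k C, rep e m p b = p c • b := by
  obtain ⟨V, hVW, hVf, hV0, hVs⟩ := exists_fd_sub e m hW hne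
  have hnt : Nontrivial V := Submodule.nontrivial_iff_ne_bot.2 hV0
  have hρ : IsAlg ((rep e m).subrepresentation V hVs) := (isAlg_rep e m).subrepresentation V hVs
  obtain ⟨v, hv0, hv⟩ := SolvLine.exists_eigenvector hρ
  choose cc hcc using hv
  obtain ⟨f, hf⟩ : ∃ f : Module.Dual k V, f v = 1 := by
    obtain ⟨g, hg⟩ : ∃ g : Module.Dual k V, g v ≠ 0 := by
      by_contra hcon
      push Not at hcon
      exact hv0 ((Module.forall_dual_apply_eq_zero_iff k v).1 hcon)
    exact ⟨(g v)⁻¹ • g, by rw [LinearMap.smul_apply, smul_eq_mul, inv_mul_cancel₀ hg]⟩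
  obtain ⟨c, hc⟩ := hρ f v
  have hcc' : ∀ p, cc p = p c := by
    intro p
    rw [← hc, hcc, map_smul, hf, smul_eq_mul, _root_.mul_one]
  have hb0 : (v : M) ≠ 0 := fun h => hv0 (Subtype.ext h)
  have hb : ∀ p : Pt k C, rep e m p (v : M) = p c • (v : M) := by
    intro p
    have h1 := congrArg Subtype.val (hcc p)
    rw [hcc'] at h1
    exact h1
  exact ⟨v, hVW v.2, hb0, c, IsChar.of_eigen e m hb0 hb, hb⟩

/-- **Kolchin** in stable subspaces of rational modules. -/
theorem exists_fix (hu : ∀ p : Pt k C, IsUnip p) {W : Submodule k M}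
    (hW : ∀ p : Pt k C, ∀ x ∈ W, rep e m p x ∈ W) (hne : W ≠ ⊥) :
    ∃ b ∈ W, b ≠ 0 ∧ ∀ p : Pt k C, rep e m p b = b := by
  obtain ⟨V, hVW, hVf, hV0, hVs⟩ := exists_fd_sub e m hW hne
  have hnt : Nontrivial V := Submodule.nontrivial_iff_ne_bot.2 hV0
  have hρ : IsAlg ((rep e m).subrepresentation V hVs) := (isAlg_rep e m).subrepresentation V hVs
  obtain ⟨v, hv0, hv⟩ := exists_fixed_of_unipotent ((rep e m).subrepresentation V hVs)
    (fun p => IsUnip.rep hρ (hu p))
  exact ⟨v, hVW v.2, fun h => hv0 (Subtype.ext h), fun p => congrArg Subtype.val (hv p)⟩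

variable [_root_.IsReduced C]

lemma IsChar.rTr {c : C} (hc : IsChar (k := k) c) (p : Pt k C) :
    Groth.Agent.Sga3B.RG.rTr p c = p c • c := by
  apply eq_of_forall_pt (K := k)
  intro x
  rw [rTr_apply_pt, hc.mul, Pt.apply_smul, _root_.mul_comm]

/-- Characters are trivial on unipotent points. -/
theorem IsChar.eq_one {c : C} (hc : IsChar (k := k) c) {p : Pt k C} (hp : IsUnip p) : p c = 1 := by
  obtain ⟨n, hn⟩ := hp c
  have h1 : ∀ n : ℕ, (((Groth.Agent.Sga3B.RG.rTr p).toLinearMap - 1) ^ n) c = (p c - 1) ^ n • c := by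
    intro n
    induction n with
    | zero => rw [pow_zero, pow_zero, one_smul, Module.End.one_apply]
    | succ n ih =>
      rw [pow_succ', Module.End.mul_apply, ih, map_smul, LinearMap.sub_apply, Module.End.one_apply,
        AlgHom.toLinearMap_apply, hc.rTr, pow_succ, mul_smul, sub_smul (p c) 1 c, one_smul]
  rw [h1] at hn
  have hc0 : c ≠ 0 := by
    rintro rfl
    have := hc.one
    rw [Pt.apply_zero] at this
    exact zero_ne_one this
  have h2 := (smul_eq_zero.1 hn).resolve_right hc0
  exact sub_eq_zero.1 (_root_.IsReduced.eq_zero _ ⟨n, h2⟩)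

/-- A semi-invariant at the rational points is one at all points. -/
theorem ρ_eq_of_eigen {c : C} {b : M} (h : ∀ p : Pt k C, rep e m p b = p c • b)
    (B : Type u) [CommRing B] [Algebra k B] (g : VecGrp.pt k B ⟶ H) :
    m.ρ B g ((1 : B) ⊗ₜ[k] b) = (ptE e B g).ofConv c • ((1 : B) ⊗ₜ[k] b) := by
  have h1 : coact e m b = c ⊗ₜ[k] b := by
    apply evT_ext
    intro p
    have h2 := h (WithConv.toConv p)
    rw [rep_apply] at h2
    rw [evT_tmul]
    exact h2
  rw [ρ_one_tmul e, h1, VecGrp.Wmap_tmul, TensorProduct.smul_tmul', smul_eq_mul, _root_.mul_one]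

end eig

end

end K498.LieKol
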