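import Groth.Agent.AGF.K498.CompRed
import Groth.Agent.AGF.K498.LieKol
import Groth.Agent.AGF.K497.URadPt
import Groth.Agent.AGF.K495.OpenSub
import Groth.Agent.Sga3B.RG.BrRed2
import Groth.Agent.AGF.K798.LinRed

/-!
# Generation of rational modules by the invariants of the unipotent radical of a Borel subgroup
in characteristic zero
-/

set_option autoImplicit false
set_option linter.unusedSectionVars false

universe u v

open CategoryTheory MonoidalCategory CartesianMonoidalCategory MonObj GrpObj AlgebraicGeometry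
open scoped TensorProduct

namespace K498.CharZero

open Groth.Agent.Books.AffBridge Groth.Agent.Books.AffBridge2
open Groth.Agent.Sga3B.RG Groth.Agent.Sga3B.RG.BrPts K495.ObsPt K495.Bridge K495.GModPt

variable {k : Type u} [Field k] [IsAlgClosed k]

/-- A connected closed subgroup lies in every open subgroup. -/
theorem le_of_isConn {A : Type u} [CommRing A] [HopfAlgebra k A] [Algebra.FiniteType k A]
    [_root_.IsReduced A] {H N : Subgroup (Pt k A)} (hcl : IsCl (H : Set (Pt k A)))
    (hconn : IsConn (H : Set (Pt k A))) (hN : IsCl (N : Set (Pt k A)))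
    (hNo : IsCl ((N : Set (Pt k A))ᶜ)) : H ≤ N := by
  have h1 : N.index ≠ 0 := K495.OpenSub.index_ne_zero hNo
  have h2 : (H ⊓ N).relIndex H ≠ 0 := by
    rw [Subgroup.inf_relIndex_left]
    have h3 : N.FiniteIndex := ⟨h1⟩
    have h4 : (N.subgroupOf H).FiniteIndex := inferInstance
    exact h4.index_ne_zero
  have h3 : H ⊓ N = H := hconn.eq_of_finiteIndex (by
    rw [Subgroup.coe_inf]
    exact hcl.inter hN) inf_le_left h2
  exact inf_eq_left.1 h3

variable {C : Type u} [CommRing C] [HopfAlgebra k C] [Algebra.FiniteType k C] [_root_.IsReduced C]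
  {H : Over (Spec (CommRingCat.of k))} [GrpObj H] (e : H ≅ SpecOver k C) [IsMonHom e.hom]
  {V : Type u} [AddCommGroup V] [Module k V] (m : VecGrp.GMod H V)

/-- For a linearly reductive group, a stable subspace containing the invariants of a unipotent
subgroup is everything. -/
theorem eq_top_of_fixed_le (hlr : HopfRep.IsLinearlyReductive k C) (N : Subgroup (Pt k C))
    (hN : ∀ p ∈ N, IsUnip p) (W : Submodule k V) (hW : ∀ p : Pt k C, ∀ x ∈ W, rep e m p x ∈ W)
    (hfix : ∀ x : V, (∀ p ∈ N, rep e m p x = x) → x ∈ W) : W = ⊤ := by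
  rw [eq_top_iff]
  intro x _
  by_contra hx
  obtain ⟨V₁, hfin, hxV, hV⟩ := LieKol.exists_fd e m x
  have hV' : ∀ p : Pt k C, V₁ ≤ V₁.comap (rep e m p) := fun p y hy => hV p y hy
  have hρ : IsAlg ((rep e m).subrepresentation V₁ hV') := (isAlg_rep e m).subrepresentation V₁ hV'
  obtain ⟨W', hc, hW'⟩ := CompRed.exists_compl hlr hρ (W.comap V₁.subtype)
    (fun p y hy => hW p _ hy)
  have hne : W' ≠ ⊥ := by
    rintro rfl
    have h1 : W.comap V₁.subtype = ⊤ := by
      have := hc.codisjoint.eq_top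
      rwa [sup_bot_eq] at this
    have h2 : (⟨x, hxV⟩ : V₁) ∈ W.comap V₁.subtype := by rw [h1]; trivial
    exact hx h2
  have hnt : Nontrivial W' := Submodule.nontrivial_iff_ne_bot.2 hne
  have hW'' : ∀ p : Pt k C, W' ≤ W'.comap ((rep e m).subrepresentation V₁ hV' p) :=
    fun p y hy => hW' p y hy
  have hρ' : IsAlg (((rep e m).subrepresentation V₁ hV').subrepresentation W' hW'') :=
    hρ.subrepresentation W' hW''
  obtain ⟨v, hv0, hv⟩ := exists_fixed_of_unipotent
    ((((rep e m).subrepresentation V₁ hV').subrepresentation W' hW'').comp N.subtype)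
    (fun p => IsUnip.rep hρ' (hN p.1 p.2))
  apply hv0
  have h1 : ((v : V₁) : V) ∈ W := hfix _ fun p hp =>
    congrArg (fun z : W' => ((z : V₁) : V)) (hv ⟨p, hp⟩)
  have h2 : (v : V₁) ∈ W.comap V₁.subtype ⊓ W' := ⟨h1, v.2⟩
  rw [hc.disjoint.eq_bot] at h2
  exact Subtype.ext h2

/-- In characteristic zero, a stable subspace of a rational module of a group with reductive
identity component containing the invariants of the unipotent radical of a subgroup is
everything. -/
theorem eq_top [CharZero k] {G : Over (Spec (CommRingCat.of k))} [GrpObj G]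
    (hG : VecGrp.IsReductiveGrp k G) {Bo : Over (Spec (CommRingCat.of k))} [GrpObj Bo]
    (iB : Bo ⟶ G) [IsMonHom iB] [IsClosedImmersion iB.left] [Smooth Bo.hom]
    {U : Over (Spec (CommRingCat.of k))} [GrpObj U] (u : U ⟶ Bo) (hU : Par.IsUnipotentRadical u)
    (ρ : VecGrp.GMod G V) (W : Submodule k V) (hUW : ρ.fixedUnder (u ≫ iB) ≤ W)
    (hW : ρ.IsStable (𝟙 G) W) : W = ⊤ := by
  obtain ⟨haff, hsm, G₀, _, j, hj, hjo, hred⟩ := hG
  obtain ⟨A, _, _, eG, heG, hft, hredA⟩ := exists_data G
  have hum : IsMonHom u := K497.URadPt.isMonHom_of_uRad u hU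
  have hus : Smooth U.hom := K497.URadPt.smooth_of_uRad u hU
  have hucl : IsClosedImmersion u.left := hU.2.1
  have hBaff : IsAffine Bo.left := isAffine_of_isAffineHom iB.left
  have hUaff : IsAffine U.left := isAffine_of_isAffineHom u.left
  have hjcl : IsClosedImmersion j.left := K495.OpenSub.isClosedImmersion_of_open j
  have hj0 : IsAffine G₀.left := K495.OpenSub.isAffine_of_open j
  have hjs : Smooth G₀.hom := K495.OpenSub.smooth_of_open j
  obtain ⟨C₀, _, _, e₀, he₀, φ, hft0, hred0, hφ, hi⟩ := exists_hom_data eG j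
  obtain ⟨hdom, hRed⟩ := BrRed.isRedPt_of_isReductiveOver (BrRed2.isReductiveOver_of_iso e₀ hred)
  have hUR := K497.URadPt.isURadIn_psub eG iB u hU
  have hle : psub eG (u ≫ iB) ≤ psub eG j := le_of_isConn hUR.isCl hUR.isConn (isCl_psub eG j)
    (K495.OpenSub.isCl_compl_psub eG j)
  rw [isStable_id_iff W eG] at hW
  refine eq_top_of_fixed_le e₀ (res j ρ) (K798.LinRed.isLinearlyReductive hRed)
    ((psub eG (u ≫ iB)).comap (Pt.map φ)) (fun p hp => ?_) W (fun p x hx => ?_) (fun x hx => ?_)
  · exact (isUnip_map_iff hφ).1 (hUR.isUnip _ hp)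
  · rw [rep_res eG e₀ j φ hi]
    exact hW _ x hx
  · apply hUW
    rw [mem_fixedUnder_iff_psub eG]
    intro p hp
    have h1 := hle hp
    rw [psub_eq_range eG j e₀ φ hi] at h1
    obtain ⟨q, rfl⟩ := h1
    have h2 := hx q hp
    rw [rep_res eG e₀ j φ hi] at h2
    exact h2

end K498.CharZero
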