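import Groth.Prelude.Def_W4bk4grossh1223Act
import Mathlib.RingTheory.Flat.Basic
import Mathlib.RingTheory.Flat.Stability

/-!
# Fractions of invariants of a multiplicative rational action on a domain
-/

set_option autoImplicit false
universe u
open CategoryTheory MonObj AlgebraicGeometry
open scoped TensorProduct

namespace K498.Frac

/-- `1 ⊗ b` is a nonzerodivisor of `B ⊗ A` for `b ≠ 0` in a domain `A` over a field. -/
theorem mul_right_cancel_one_tmul {k : Type u} [Field k] {A : Type u} [CommRing A] [IsDomain A] [Algebra k A]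
    {B : Type u} [CommRing B] [Algebra k B] {b : A} (hb : b ≠ 0) {x y : B ⊗[k] A}
    (h : x * ((1 : B) ⊗ₜ[k] b) = y * ((1 : B) ⊗ₜ[k] b)) : x = y := by
  have hinj : Function.Injective (LinearMap.lTensor B (LinearMap.mulRight k b)) := by
    apply Module.Flat.lTensor_preserves_injective_linearMap
    intro a a' haa
    exact mul_right_cancel₀ hb haa
  have key : ∀ z : B ⊗[k] A, z * ((1 : B) ⊗ₜ[k] b) = LinearMap.lTensor B (LinearMap.mulRight k b) z := by
    intro z
    induction z using TensorProduct.induction_on with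
    | zero => simp
    | tmul c a => simp [Algebra.TensorProduct.tmul_mul_tmul]
    | add z z' hz hz' => rw [add_mul, map_add, hz, hz']
  apply hinj
  rw [← key, ← key, h]

section

variable {k : Type u} [Field k] {G H : Over (Spec (CommRingCat.of k))} [GrpObj G]
  {A : Type u} [CommRing A] [IsDomain A] [Algebra k A] (ρ : VecGrp.GMod G A)

/-- a quotient of invariants which lies in `A` is invariant -/
theorem mem_fixedSubalgebra_of_mul (hρ : ρ.IsMult) (i : H ⟶ G) {y b a : A} (hb : b ≠ 0)
    (hbm : b ∈ ρ.fixedSubalgebra hρ i) (ham : a ∈ ρ.fixedSubalgebra hρ i) (h : y * b = a) :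
    y ∈ ρ.fixedSubalgebra hρ i := by
  intro B _ _ g
  apply mul_right_cancel_one_tmul hb
  have h1 : ((1 : B) ⊗ₜ[k] y) * ((1 : B) ⊗ₜ[k] b) = (1 : B) ⊗ₜ[k] a := by
    rw [Algebra.TensorProduct.tmul_mul_tmul, h, _root_.mul_one]
  rw [h1, ← ham B g, ← h1]
  conv_lhs => rw [← hbm B g]
  exact ((hρ B (g ≫ i)).1 _ _).symm

/-- invariants in an integrally closed domain are integrally closed -/
theorem isIntegrallyClosed_fixedSubalgebra [IsIntegrallyClosed A] (hρ : ρ.IsMult) (i : H ⟶ G) :
    IsIntegrallyClosed ↥(ρ.fixedSubalgebra hρ i) := by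
  rw [isIntegrallyClosed_iff (FractionRing ↥(ρ.fixedSubalgebra hρ i))]
  intro x hx
  obtain ⟨a, b, hb, rfl⟩ := IsFractionRing.div_surjective (A := ↥(ρ.fixedSubalgebra hρ i)) x
  have hb0 : b ≠ 0 := nonZeroDivisors.ne_zero hb
  let j : FractionRing ↥(ρ.fixedSubalgebra hρ i) →+* FractionRing A :=
    IsFractionRing.lift (g := (algebraMap A (FractionRing A)).comp (ρ.fixedSubalgebra hρ i).val.toRingHom)
      (by
        intro x y hxy
        apply Subtype.ext
        exact IsFractionRing.injective A (FractionRing A) hxy)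
  have hj : ∀ z : ↥(ρ.fixedSubalgebra hρ i), j (algebraMap _ _ z) = algebraMap A (FractionRing A) (z : A) := fun z => by
    exact IsFractionRing.lift_algebraMap (A := ↥(ρ.fixedSubalgebra hρ i)) _ z
  have hint : IsIntegral A (j (algebraMap _ _ a / algebraMap _ _ b)) := by
    obtain ⟨p, hp, hp'⟩ := hx
    refine ⟨p.map (ρ.fixedSubalgebra hρ i).val.toRingHom, hp.map _, ?_⟩
    rw [Polynomial.eval₂_map]
    have h1 := congrArg j hp'
    rw [Polynomial.hom_eval₂, map_zero] at h1
    rw [← h1]
    congr 1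
    ext z
    exact (hj z).symm
  obtain ⟨y, hy⟩ := (isIntegrallyClosed_iff (FractionRing A)).1 inferInstance hint
  have hb1 : (b : A) ≠ 0 := fun h => hb0 (Subtype.ext h)
  have hb2 : algebraMap A (FractionRing A) b ≠ 0 := by
    rwa [Ne, IsFractionRing.to_map_eq_zero_iff]
  have h2 : y * (b : A) = a := by
    apply IsFractionRing.injective A (FractionRing A)
    rw [map_mul, hy, map_div₀, hj, hj, div_mul_cancel₀ _ hb2]
  refine ⟨⟨y, mem_fixedSubalgebra_of_mul ρ hρ i hb1 b.2 a.2 h2⟩, ?_⟩
  have hb3 : algebraMap _ (FractionRing ↥(ρ.fixedSubalgebra hρ i)) b ≠ 0 := by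
    rwa [Ne, IsFractionRing.to_map_eq_zero_iff]
  rw [eq_div_iff hb3, ← map_mul]
  congr 1
  exact Subtype.ext h2

end

end K498.Frac
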