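import Groth.Agent.AGF.K498.LieKol
import Groth.Agent.AGF.K498.Frac
import Groth.Agent.AGF.K495.Norm
import Groth.Agent.Sga3B.RG.BrMax

/-!
# Invariant fractions: unipotent and solvable groups
-/

set_option autoImplicit false
set_option linter.unusedSectionVars false

universe u v

open CategoryTheory MonoidalCategory CartesianMonoidalCategory MonObj GrpObj AlgebraicGeometry
open scoped TensorProduct

namespace K498.Denom

open Groth.Agent.Books.AffBridge Groth.Agent.Books.AffBridge2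
open Groth.Agent.Sga3B.RG Groth.Agent.Sga3B.RG.BrPts K495.ObsPt K495.Bridge K495.GModPt
open K498.LieKol

noncomputable section

section main

variable {k : Type u} [Field k] [IsAlgClosed k] {C : Type u} [CommRing C] [HopfAlgebra k C]
  [Algebra.FiniteType k C] [_root_.IsReduced C]
  {H : Over (Spec (CommRingCat.of k))} [GrpObj H] (e : H ≅ SpecOver k C) [IsMonHom e.hom]

/-- Characters as functions. -/
lemma isChar_fn [IsAffine H.left] [Smooth H.hom] (χ : H ⟶ Red.Gm (Spec (CommRingCat.of k))) [IsMonHom χ] :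
    IsChar (k := k) (fn e (Red.gmFn χ)) :=
  ⟨K495.Chars.char_one e χ, K495.Chars.char_mul e χ⟩

/-- the value of a character at a point -/
lemma chiVal_eq (χ : H ⟶ Red.Gm (Spec (CommRingCat.of k))) {B : Type u} [CommRing B] [Algebra k B]
    (g : VecGrp.pt k B ⟶ H) : VecGrp.chiVal χ g = (ptE e B g).ofConv (fn e (Red.gmFn χ)) := by
  rw [← ev_fn e, ev, VecGrp.chiVal, GmPts.gmFn_comp]

/-- The points of a subgroup without subtori are unipotent. -/
theorem isUnip_of_mem_psub {U : Over (Spec (CommRingCat.of k))} [GrpObj U] (j : U ⟶ H) [IsMonHom j]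
    [IsClosedImmersion j.left] [Smooth U.hom] [ConnectedSpace U.left] (hU : Red.HasNoSubtorus k U)
    {p : Pt k C} (hp : p ∈ psub e j) : IsUnip p := by
  have hie : IsIso e.hom.left := (Over.forget _).map_isIso e.hom
  have hcl : IsClosedImmersion (j ≫ e.hom).left := by
    rw [Over.comp_left]
    infer_instance
  have haff : IsAffine H.left := isAffine_of_isAffineHom e.hom.left
  obtain ⟨C', _, _, e', _, φ, _, _, -, hφ⟩ := exists_hom_data e j
  rw [psub_eq_range e j e' φ hφ, ← ptsSub_eq_range (j ≫ e.hom) φ e' hφ.symm] at hp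
  exact Groth.Agent.Sga3B.RadOpen.isUnip_of_hasNoSubtorus (j ≫ e.hom) hU _ hp

/-- The points of the unipotent radical are unipotent. -/
theorem isUnip_of_unipotentRadical {U : Over (Spec (CommRingCat.of k))} [GrpObj U] {j : U ⟶ H}
    [IsMonHom j] (hU : Par.IsUnipotentRadical j) {p : Pt k C} (hp : p ∈ psub e j) : IsUnip p := by
  obtain ⟨-, hcl, -, hsm, -, hfib, -⟩ := hU
  obtain ⟨s⟩ : Nonempty (Spec (CommRingCat.of k)) := inferInstance
  obtain ⟨h1, h2⟩ := hfib s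
  have h3 : Red.HasNoSubtorus k U := 
    Groth.Agent.Sga3B.RedIso.hasNoSubtorus_of_iso (Groth.Agent.Sga3B.RedIso.unbcIso' (Red.geomPt s) U)
      (Groth.Agent.Sga3B.RedIso.hasNoSubtorus_bc (CategoryTheory.inv (Red.geomPt s)) h2)
  have h4 : ConnectedSpace U.left := by
    have h5 : IsIso (Limits.pullback.fst U.hom (Red.geomPt s)) := inferInstance
    exact Groth.Agent.Sga3B.RedIso.connectedSpace_of_iso (Limits.pullback.fst U.hom (Red.geomPt s)) h1
  exact isUnip_of_mem_psub e j h3 hp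

variable {A : Type u} [CommRing A] [IsDomain A] [Algebra k A] (ρ : VecGrp.GMod H A)

/-- The ideal of denominators. -/
def den (a₀ b₀ : A) : Submodule k A where
  carrier := {b | ∃ a, a * b₀ = b * a₀}
  add_mem' := by
    rintro b b' ⟨a, ha⟩ ⟨a', ha'⟩
    exact ⟨a + a', by rw [add_mul, add_mul, ha, ha']⟩
  zero_mem' := ⟨0, by rw [zero_mul, zero_mul]⟩
  smul_mem' := by
    rintro c b ⟨a, ha⟩
    exact ⟨c • a, by rw [smul_mul_assoc, smul_mul_assoc, ha]⟩

omit [IsAlgClosed k] [Algebra.FiniteType k C] [_root_.IsReduced C] in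
lemma _root_.K498.LieKol.IsChar.ne_zero {d : C} (hd : IsChar (k := k) d) (p : Pt k C) : p d ≠ 0 := by
  intro h0
  have h1 := hd.mul p p⁻¹
  rw [mul_inv_cancel, hd.one, h0, zero_mul] at h1
  exact one_ne_zero h1

variable (hρ : ρ.IsMult) {a₀ b₀ : A} (hb₀ : b₀ ≠ 0) {d : C} (hd : IsChar (k := k) d)
  (h : ∀ p : Pt k C, rep e ρ p a₀ * b₀ = p d • (a₀ * rep e ρ p b₀))

include hρ hb₀ h hd

lemma rep_ne_zero {b : A} (hb : b ≠ 0) (p : Pt k C) : rep e ρ p b ≠ 0 := by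
  intro h0
  apply hb
  have h1 : rep e ρ (p⁻¹ * p) b = 0 := by rw [map_mul, Module.End.mul_apply, h0, map_zero]
  rwa [inv_mul_cancel, map_one, Module.End.one_apply] at h1

/-- transformation of the pair -/
lemma key {a b : A} (hab : a * b₀ = b * a₀) (p : Pt k C) :
    rep e ρ p a * b₀ = p d • (rep e ρ p b * a₀) := by
  have hm := (isMult_iff e ρ).1 hρ p
  have h1 : rep e ρ p a * rep e ρ p b₀ = rep e ρ p b * rep e ρ p a₀ := by
    rw [← hm.1, ← hm.1, hab]
  have h2 : rep e ρ p b₀ ≠ 0 := rep_ne_zero e ρ hρ hb₀ hd h hb₀ p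
  apply mul_right_cancel₀ h2
  calc rep e ρ p a * b₀ * rep e ρ p b₀ = (rep e ρ p a * rep e ρ p b₀) * b₀ := by ring
    _ = rep e ρ p b * (rep e ρ p a₀ * b₀) := by rw [h1]; ring
    _ = p d • (rep e ρ p b * a₀) * rep e ρ p b₀ := by
      rw [h p, mul_smul_comm, smul_mul_assoc, _root_.mul_assoc]

lemma den_stable (p : Pt k C) : ∀ b ∈ den (k := k) a₀ b₀, rep e ρ p b ∈ den (k := k) a₀ b₀ := by
  rintro b ⟨a, ha⟩
  refine ⟨(p d)⁻¹ • rep e ρ p a, ?_⟩
  rw [smul_mul_assoc, key e ρ hρ hb₀ hd h ha, smul_smul, inv_mul_cancel₀ (hd.ne_zero p),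
    one_smul]

omit hρ h hd in
lemma den_ne_bot : den (k := k) a₀ b₀ ≠ ⊥ := by
  intro hbot
  have h1 : b₀ ∈ den (k := k) a₀ b₀ := ⟨a₀, _root_.mul_comm _ _⟩
  rw [hbot] at h1
  exact hb₀ h1

lemma eigen_num {a b : A} (hab : a * b₀ = b * a₀) {c : C} (hb : ∀ p : Pt k C, rep e ρ p b = p c • b)
    (p : Pt k C) : rep e ρ p a = p (c * d) • a := by
  apply mul_right_cancel₀ hb₀
  rw [key e ρ hρ hb₀ hd h hab p, hb, smul_mul_assoc, smul_mul_assoc, smul_smul, hab, Pt.apply_mul,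
    _root_.mul_comm (p d)]

end main

section final

variable {k : Type u} [Field k] [IsAlgClosed k] {H : Over (Spec (CommRingCat.of k))} [GrpObj H]
  {A : Type u} [CommRing A] [IsDomain A] [Algebra k A] (ρ : VecGrp.GMod H A) (hρ : ρ.IsMult)

omit [IsDomain A] [IsAlgClosed k] in
lemma one_tmul_inj {x y : A} (h : (1 : k) ⊗ₜ[k] x = (1 : k) ⊗ₜ[k] y) : x = y :=
  (TensorProduct.lid k A).symm.injective h

include hρ

/-- Invariant fractions for a unipotent group. -/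
theorem unip [IsAffine H.left] [Smooth H.hom] [ConnectedSpace H.left] (hH : Red.HasNoSubtorus k H)
    (a₀ b₀ : A) (hb₀ : b₀ ≠ 0)
    (hinv : ∀ (B : Type u) [CommRing B] [Algebra k B] (h : VecGrp.pt k B ⟶ H),
      ρ.ρ B h ((1 : B) ⊗ₜ[k] a₀) * ((1 : B) ⊗ₜ[k] b₀) = ((1 : B) ⊗ₜ[k] a₀) * ρ.ρ B h ((1 : B) ⊗ₜ[k] b₀)) :
    ∃ a b : A, a ∈ ρ.fixedUnder (𝟙 H) ∧ b ∈ ρ.fixedUnder (𝟙 H) ∧ b ≠ 0 ∧ a * b₀ = b * a₀ := by
  obtain ⟨C, _, _, e, _, _, _⟩ := exists_data H
  have hcl : IsClosedImmersion (𝟙 H : H ⟶ H).left := by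
    rw [Over.id_left]
    infer_instance
  have hu : ∀ p : Pt k C, IsUnip p := fun p =>
    isUnip_of_mem_psub e (𝟙 H) hH ⟨(ptE e k).symm p, by rw [Category.comp_id, MulEquiv.apply_symm_apply]⟩
  have h : ∀ p : Pt k C, rep e ρ p a₀ * b₀ = p (1 : C) • (a₀ * rep e ρ p b₀) := by
    intro p
    obtain ⟨g, rfl⟩ := (ptE e k).surjective p
    apply one_tmul_inj (k := k)
    have h1 := hinv k g
    rw [ρ_k e, ρ_k e, Algebra.TensorProduct.tmul_mul_tmul, Algebra.TensorProduct.tmul_mul_tmul,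
      _root_.one_mul] at h1
    rw [Pt.apply_one, one_smul]
    exact h1
  have hd : IsChar (k := k) (1 : C) := ⟨Pt.apply_one _, fun y z => by
    rw [Pt.apply_one, Pt.apply_one, Pt.apply_one, _root_.one_mul]⟩
  obtain ⟨b, ⟨a, hab⟩, hb0, hb⟩ := exists_fix e ρ hu (den_stable e ρ hρ hb₀ hd h) (den_ne_bot hb₀)
  refine ⟨a, b, ?_, ?_, hb0, hab⟩
  · rw [mem_fixedUnder_id_iff e]
    intro p
    have h1 := eigen_num e ρ hρ hb₀ hd h hab (c := (1 : C)) (fun p => by
      rw [hb, Pt.apply_one, one_smul]) p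
    rwa [_root_.mul_one, Pt.apply_one, one_smul] at h1
  · rw [mem_fixedUnder_id_iff e]
    exact hb

/-- Semi-invariant fractions for a connected solvable group. -/
theorem solv [IsAffine H.left] [Smooth H.hom] [ConnectedSpace H.left]
    (hsolv : Red.IsSolvableGrp H)
    (T : Over (Spec (CommRingCat.of k))) [GrpObj T] (iT : T ⟶ H) [IsMonHom iT]
    (U : Over (Spec (CommRingCat.of k))) [GrpObj U] (uH : U ⟶ H) (hU : Par.IsUnipotentRadical uH)
    (χ : H ⟶ Red.Gm (Spec (CommRingCat.of k))) [IsMonHom χ]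
    (a₀ b₀ : A) (hb₀ : b₀ ≠ 0)
    (hχ : ∀ (B : Type u) [CommRing B] [Algebra k B] (h : VecGrp.pt k B ⟶ H),
      ρ.ρ B h ((1 : B) ⊗ₜ[k] a₀) * ((1 : B) ⊗ₜ[k] b₀) =
        VecGrp.chiVal χ h • (((1 : B) ⊗ₜ[k] a₀) * ρ.ρ B h ((1 : B) ⊗ₜ[k] b₀))) :
    ∃ a b : A, a ∈ ρ.fixedUnder uH ∧ b ∈ ρ.fixedUnder uH ∧ b ≠ 0 ∧ a * b₀ = b * a₀ ∧
      ∃ θ : T ⟶ Red.Gm (Spec (CommRingCat.of k)), IsMonHom θ ∧
        (∀ (B : Type u) [CommRing B] [Algebra k B] (t : VecGrp.pt k B ⟶ T),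
          ρ.ρ B (t ≫ iT) ((1 : B) ⊗ₜ[k] b) = VecGrp.chiVal θ t • ((1 : B) ⊗ₜ[k] b)) ∧
        (∀ (B : Type u) [CommRing B] [Algebra k B] (t : VecGrp.pt k B ⟶ T),
          ρ.ρ B (t ≫ iT) ((1 : B) ⊗ₜ[k] a) =
            (VecGrp.chiVal θ t * VecGrp.chiVal χ (t ≫ iT)) • ((1 : B) ⊗ₜ[k] a)) := by
  obtain ⟨C, _, _, e, _, _, _⟩ := exists_data H
  have hdom : IsDomain C := K495.Norm.isDomain_of_connected e
  have hsol : Group.IsSolvable (Pt k C) := by
    obtain ⟨n, hn⟩ := hsolv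
    have h1 : Group.IsSolvable (VecGrp.pt k k ⟶ H) := ⟨⟨n, hn _⟩⟩
    exact Group.isSolvable_of_surjective (f := (ptE e k).toMonoidHom) (ptE e k).surjective
  let d : C := fn e (Red.gmFn χ)
  have hd : IsChar (k := k) d := isChar_fn e χ
  have h : ∀ p : Pt k C, rep e ρ p a₀ * b₀ = p d • (a₀ * rep e ρ p b₀) := by
    intro p
    obtain ⟨g, rfl⟩ := (ptE e k).surjective p
    apply one_tmul_inj (k := k)
    have h1 := hχ k g
    rw [ρ_k e, ρ_k e, Algebra.TensorProduct.tmul_mul_tmul, Algebra.TensorProduct.tmul_mul_tmul,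
      _root_.one_mul, chiVal_eq e] at h1
    rw [TensorProduct.tmul_smul]
    exact h1
  obtain ⟨b, ⟨a, hab⟩, hb0, c, hc, hb⟩ := exists_semi e ρ (den_stable e ρ hρ hb₀ hd h) (den_ne_bot hb₀)
  have ha := eigen_num e ρ hρ hb₀ hd h hab hb
  obtain ⟨θ, hθ, hθc⟩ := K495.Chars.exists_char e hc.one (K495.Chars.isUnit_of_mul hc.one hc.mul) hc.mul
  have hcd : IsChar (k := k) (c * d) := ⟨by rw [Pt.apply_mul, hc.one, hd.one, _root_.one_mul],
    fun y z => by rw [Pt.apply_mul, Pt.apply_mul, Pt.apply_mul, hc.mul, hd.mul]; ring⟩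
  have hum : IsMonHom uH := hU.1
  have hucl : IsClosedImmersion uH.left := hU.2.1
  have husm : Smooth U.hom := hU.2.2.2.1
  have huaff : IsAffine U.left := isAffine_of_isAffineHom uH.left
  have hup : ∀ p ∈ psub e uH, IsUnip p := fun p hp => isUnip_of_unipotentRadical e hU hp
  refine ⟨a, b, ?_, ?_, hb0, hab, iT ≫ θ, inferInstance, ?_, ?_⟩
  · rw [mem_fixedUnder_iff_psub e]
    intro p hp
    rw [ha, hcd.eq_one (hup p hp), one_smul]
  · rw [mem_fixedUnder_iff_psub e]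
    intro p hp
    rw [hb, hc.eq_one (hup p hp), one_smul]
  · intro B _ _ t
    rw [ρ_eq_of_eigen e ρ hb, ← hθc, ← chiVal_eq e]
    rfl
  · intro B _ _ t
    rw [ρ_eq_of_eigen e ρ ha, map_mul, ← hθc, ← chiVal_eq e, ← chiVal_eq e]
    rfl

end final

end

end K498.Denom
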