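import Groth.Agent.AGF.K495.GModPt
import Groth.Agent.AGF.K798.LinRedConv
import Groth.Agent.SGA3.K211.GModComod

/-!
# Complete reducibility of representations of linearly reductive groups
-/

set_option autoImplicit false
set_option linter.unusedSectionVars false

universe u v

open CategoryTheory MonoidalCategory CartesianMonoidalCategory MonObj GrpObj AlgebraicGeometry
open scoped TensorProduct

namespace K498.CompRed

open Groth.Agent.Books.AffBridge Groth.Agent.Books.AffBridge2
open Groth.Agent.Sga3B.RG Groth.Agent.Sga3B.RG.BrPts K495.ObsPt K495.Bridge K495.GModPt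
open Groth.Agent.SGA3.K211

variable {k : Type u} [Field k] [IsAlgClosed k] {C : Type u} [CommRing C] [HopfAlgebra k C]
  [Algebra.FiniteType k C] [_root_.IsReduced C]
  {V : Type u} [AddCommGroup V] [Module k V]

/-- A finite-dimensional algebraic representation is a comodule. -/
theorem exists_comod [Module.Finite k V] (ρ : Representation k (Pt k C) V) (hρ : IsAlg ρ) :
    ∃ _ : HopfRep.Comod k C V, ∀ (p : Pt k C) (v : V), K798.KerPt.pa V p v = ρ p v := by
  let G : Over (Spec (CommRingCat.of k)) := SpecOver k C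
  have he : IsMonHom (Iso.refl G).hom := inferInstanceAs (IsMonHom (𝟙 G))
  obtain ⟨m, hm⟩ := exists_gmod (Iso.refl G) ρ hρ
  let m' : VecGrp.GMod ((Spec (CommRingCat.of C)).asOver (Spec (CommRingCat.of k))) V := m
  let cm : HopfRep.Comod k C V :=
    { coact := GModComod.delta m'
      coassoc := GModComod.delta_coassoc m'
      counit_comp := GModComod.delta_counit m' }
  refine ⟨cm, fun p v => ?_⟩
  rw [← hm, rep_def]
  have h1 := GModComod.corr m' k ((ptE (Iso.refl G) k).symm p) v
  have h2 : m.ρ k ((ptE (Iso.refl G) k).symm p) ((1 : k) ⊗ₜ[k] v) =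
      GModComod.theta (GModComod.ev ((ptE (Iso.refl G) k).symm p)) (GModComod.delta m' v) := h1
  rw [h2]
  have h3 : GModComod.ev ((ptE (Iso.refl G) k).symm p) = p.ofConv := by
    have h4 : (ptE (Iso.refl G) k).symm p = GModComod.ofAlg p.ofConv := by
      refine (ptS_ptE_symm (Iso.refl G) p).trans ?_
      rw [Iso.refl_inv, Category.comp_id]
      rfl
    rw [h4, GModComod.ev_ofAlg]
  rw [h3]
  change Groth.Agent.Books.ComodBasic.dact V p.ofConv.toLinearMap v = _
  rw [Groth.Agent.Books.ComodBasic.dact_apply]
  change _ = TensorProduct.lid k V (GModComod.theta p.ofConv (HopfRep.Comod.coact (k := k) (A := C) v))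
  generalize HopfRep.Comod.coact (k := k) (A := C) v = z
  induction z using TensorProduct.induction_on with
  | zero => rw [map_zero, map_zero, map_zero]
  | add x y hx hy => rw [map_add, map_add, map_add, hx, hy]
  | tmul x a =>
    rw [Groth.Agent.Books.ComodBasic.slice_tmul, GModComod.theta_tmul, TensorProduct.lid_tmul]
    rfl

/-- Complete reducibility. -/
theorem exists_compl (hlr : HopfRep.IsLinearlyReductive k C) [Module.Finite k V]
    {ρ : Representation k (Pt k C) V} (hρ : IsAlg ρ) (W : Submodule k V)
    (hW : ∀ p, ∀ x ∈ W, ρ p x ∈ W) :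
    ∃ W' : Submodule k V, IsCompl W W' ∧ ∀ p, ∀ x ∈ W', ρ p x ∈ W' := by
  obtain ⟨cm, hcm⟩ := exists_comod ρ hρ
  obtain ⟨W', hW', hc⟩ := hlr V inferInstance W
    (K798.LinRedConv.isSubcomod_of_stable (fun g w hw => by rw [hcm]; exact hW g w hw))
  refine ⟨W', hc, fun p x hx => ?_⟩
  rw [← hcm]
  exact (Groth.Agent.Books.ComodBasic.isSubcomod_iff_dact W').1 hW' _ x hx

end K498.CompRed
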