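import Groth.Agent.Sga3B.RG.PbPsi
import Groth.Agent.Sga3B.RG.TopLine
import Groth.Agent.Sga3B.RG.TopVec
import Groth.Agent.Sga3B.RG.ChevLine
import Groth.Agent.Sga3B.RG.DynUnip
import Groth.Agent.Sga3B.RG.TorusGen

/-!
# Weights of semi-invariants: fundamental weights from Chevalley's theorem
-/

set_option autoImplicit false
set_option linter.unusedSectionVars false

universe u w

open WithConv TensorProduct Coalgebra Module
open scoped LaurentPolynomial

namespace K498.DomWt1

open Groth.Agent.Sga3B.RG Groth.Agent.Sga3B.RG.PbPsi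

variable {K : Type u} [Field K] [IsAlgClosed K] {A : Type u} [CommRing A] [HopfAlgebra K A]
  [Algebra.FiniteType K A]
variable {M : Type} [AddCommGroup M] (p : A →ₐc[K] MonoidAlgebra K (Multiplicative M))
  (l y : M →+ ℤ)

/-- The point of the torus with coordinates `τ`. -/
noncomputable def tp : (Multiplicative M →* Kˣ) →* Pt K A :=
  (Pt.map p).comp (torPt (Multiplicative M)).toMonoidHom

lemma tp_apply (τ : Multiplicative M →* Kˣ) : tp p τ = Pt.map p (torPt _ τ) := rfl

/-- The semi-invariants of `P(l)` of weight `c`. -/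
def Semi (c : M) : Submodule K A where
  carrier := {f | (∀ x : Pt K A, ∀ u ∈ Usub (co p l), (x * u) f = x f) ∧
    ∀ (x : Pt K A) (τ : Multiplicative M →* Kˣ), (x * tp p τ) f = x f * (τ (Multiplicative.ofAdd c) : K)}
  add_mem' := by
    rintro a b ⟨ha, ha'⟩ ⟨hb, hb'⟩
    refine ⟨fun x u hu => ?_, fun x t => ?_⟩
    · rw [Pt.apply_add, Pt.apply_add, ha x u hu, hb x u hu]
    · rw [Pt.apply_add, Pt.apply_add, ha' x t, hb' x t, add_mul]
  zero_mem' := by
    refine ⟨fun x u hu => ?_, fun x t => ?_⟩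
    · rw [Pt.apply_zero, Pt.apply_zero]
    · rw [Pt.apply_zero, Pt.apply_zero, zero_mul]
  smul_mem' := by
    rintro c a ⟨ha, ha'⟩
    refine ⟨fun x u hu => ?_, fun x t => ?_⟩
    · rw [Pt.apply_smul, Pt.apply_smul, ha x u hu]
    · rw [Pt.apply_smul, Pt.apply_smul, ha' x t, mul_assoc]

lemma mem_Semi {c : M} {f : A} : f ∈ Semi p l c ↔
    (∀ x : Pt K A, ∀ u ∈ Usub (co p l), (x * u) f = x f) ∧
    ∀ (x : Pt K A) (τ : Multiplicative M →* Kˣ),
      (x * tp p τ) f = x f * (τ (Multiplicative.ofAdd c) : K) := Iff.rfl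

lemma Semi_mul {c c' : M} {f f' : A} (hf : f ∈ Semi p l c) (hf' : f' ∈ Semi p l c') :
    f * f' ∈ Semi p l (c + c') := by
  refine ⟨fun x u hu => ?_, fun x τ => ?_⟩
  · rw [Pt.apply_mul, Pt.apply_mul, hf.1 x u hu, hf'.1 x u hu]
  · rw [Pt.apply_mul, Pt.apply_mul, hf.2 x τ, hf'.2 x τ, ofAdd_add, map_mul, Units.val_mul]
    ring

lemma one_mem_Semi : (1 : A) ∈ Semi p l 0 := by
  refine ⟨fun x u hu => ?_, fun x τ => ?_⟩
  · rw [Pt.apply_one, Pt.apply_one]
  · rw [Pt.apply_one, Pt.apply_one, ofAdd_zero, map_one, Units.val_one, mul_one]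

/-- Points of the torus commute with the cocharacters of the torus. -/
lemma tp_mem_Zsub (τ : Multiplicative M →* Kˣ) : tp p τ ∈ Zsub (co p y) := by
  rw [mem_Zsub]
  intro s
  rw [cochPt_co, ← tp_apply, ← map_mul, mul_comm (torOf _ s), map_mul]

omit [IsAlgClosed K] in
lemma cochPt_eq (s : Kˣ) : cochPt (co p y) s = tp p (torOf (AddMonoidHom.toMultiplicative y) s) :=
  cochPt_co p y s

omit [IsAlgClosed K] [Algebra.FiniteType K A] in
lemma tp_injective (hp : Function.Surjective p) : Function.Injective (tp p) := by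
  intro τ τ' h
  have h1 := Pt.map_injective hp h
  exact (torPt (Multiplicative M)).injective h1

/-- Elements of `P(y)` normalizing the torus commute with `y`. -/
theorem comp_eq_of_mem_Psub (hp : Function.Surjective p) {n : Pt K A} (hn : n ∈ Psub (co p y))
    {w : M →+ M} (hw : ∀ τ : Multiplicative M →* Kˣ,
      n⁻¹ * tp p τ * n = tp p (τ.comp (AddMonoidHom.toMultiplicative w))) (c : M) :
    y (w c) = y c := by
  have hK : Infinite K := IsAlgClosed.instInfinite
  have key : ∀ s : Kˣ, tp p (torOf (AddMonoidHom.toMultiplicative y) s) =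
      tp p ((torOf (AddMonoidHom.toMultiplicative y) s).comp (AddMonoidHom.toMultiplicative w)) := by
    intro s
    set τ := torOf (AddMonoidHom.toMultiplicative y) s with hτ
    have hT : ∀ τ : Multiplicative M →* Kˣ, tp p τ ∈ Psub (co p y) := fun τ =>
      Zsub_le_Psub _ (tp_mem_Zsub p y τ)
    have h1 := hw τ
    have hlim : limHom (co p y) (⟨n, hn⟩⁻¹ * ⟨tp p τ, hT τ⟩ * ⟨n, hn⟩) =
        limHom (co p y) ⟨tp p (τ.comp (AddMonoidHom.toMultiplicative w)), hT _⟩ :=
      congrArg _ (Subtype.ext h1)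
    rw [map_mul, map_mul, map_inv, limHom_apply, limHom_apply, limHom_apply] at hlim
    have e1 := limPt_of_mem_Zsub (co p y) (tp_mem_Zsub p y τ)
    have e2 := limPt_of_mem_Zsub (co p y) (tp_mem_Zsub p y (τ.comp (AddMonoidHom.toMultiplicative w)))
    rw [e1, e2] at hlim
    have h2 := limPt_mem_Zsub (co p y) hn
    rw [mem_Zsub] at h2
    have h3 := h2 s
    rw [cochPt_eq] at h3
    rw [← hlim]
    rw [mul_assoc, hτ, h3, inv_mul_cancel_left]
  by_contra hne
  obtain ⟨s, hs⟩ := exists_zpow_ne_one (K := K) (sub_ne_zero.2 hne)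
  apply hs
  have h1 := DFunLike.congr_fun (tp_injective p hp (key s)) (Multiplicative.ofAdd c)
  have h2 : s ^ (y c) = s ^ (y (w c)) := h1
  rw [zpow_sub, h2, mul_inv_cancel]

/-- Elements normalizing the torus and fixing `y` lie in `P(y)`. -/
theorem mem_Psub_of_comp_eq {n : Pt K A}
    {w : M →+ M} (hw : ∀ τ : Multiplicative M →* Kˣ,
      n⁻¹ * tp p τ * n = tp p (τ.comp (AddMonoidHom.toMultiplicative w)))
    (h : ∀ c, y (w c) = y c) : n ∈ Psub (co p y) := by
  have hK : Infinite K := IsAlgClosed.instInfinite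
  apply Zsub_le_Psub
  rw [mem_Zsub]
  intro s
  have h1 := hw (torOf (AddMonoidHom.toMultiplicative y) s)
  have h2 : (torOf (AddMonoidHom.toMultiplicative y) s).comp (AddMonoidHom.toMultiplicative w) =
      torOf (AddMonoidHom.toMultiplicative y) s := by
    ext c
    change ((s ^ (y (w c)) : Kˣ) : K) = ((s ^ (y c) : Kˣ) : K)
    rw [h]
  rw [h2, ← cochPt_eq] at h1
  rwa [mul_assoc, inv_mul_eq_iff_eq_mul] at h1

variable [IsDomain A]

/-- The subspace of vectors without components above `N`, and with component at `N` in a line. -/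
def lowSub {V : Type w} [AddCommGroup V] [Module K V] {lam : A →ₐc[K] K[T;T⁻¹]}
    {ρ : Representation K (Pt K A) V} (d : WtDec.Dec (gmChar K) (ρ.comp (cochPt lam))) (N : ℤ) (v : V) :
    Submodule K V where
  carrier := {x | (∀ n, N < n → d.P n x = 0) ∧ d.P N x ∈ Submodule.span K {v}}
  add_mem' := by
    rintro a b ⟨ha, ha'⟩ ⟨hb, hb'⟩
    refine ⟨fun n hn => ?_, ?_⟩
    · rw [map_add, ha n hn, hb n hn, add_zero]
    · rw [map_add]; exact Submodule.add_mem _ ha' hb'
  zero_mem' := ⟨fun n _ => map_zero _, by rw [map_zero]; exact Submodule.zero_mem _⟩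
  smul_mem' := by
    rintro c a ⟨ha, ha'⟩
    refine ⟨fun n hn => ?_, ?_⟩
    · rw [map_smul, ha n hn, smul_zero]
    · rw [map_smul]; exact Submodule.smul_mem _ _ ha'

/-- **The orbit of a `P(λ)`-eigenvector has no components above it.** -/
theorem rho_mem_lowSub {V : Type w} [AddCommGroup V] [Module K V] {lam : A →ₐc[K] K[T;T⁻¹]}
    {ρ : Representation K (Pt K A) V} (hρ : IsAlg ρ)
    (d : WtDec.Dec (gmChar K) (ρ.comp (cochPt lam))) {N : ℤ} {v : V} (hv : v ∈ cwt lam ρ N)
    (hP : ∀ b ∈ Psub lam, ∃ c : K, ρ b v = c • v) (g : Pt K A) : ρ g v ∈ lowSub d N v := by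
  have hK : Infinite K := IsAlgClosed.instInfinite
  refine ⟨fun n hn => ?_, ?_⟩
  · rw [← Module.forall_dual_apply_eq_zero_iff K]
    intro f
    obtain ⟨a, ha⟩ := hρ (f ∘ₗ d.P n) v
    have h1 : ∀ g : Pt K A, f (d.P n (ρ g v)) = g a := ha
    rw [h1]
    refine TopVec.eq_zero_of_cell (lam := lam) (fun u hu b hb => ?_) g
    rw [← h1, map_mul, Module.End.mul_apply]
    obtain ⟨c, hc⟩ := hP b hb
    rw [hc, map_smul, map_smul, P_eq_zero_of_mem_Psub_inv hρ d hv (usub_le_psub_187 hu) hn, smul_zero,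
      map_zero]
  · by_contra hcon
    obtain ⟨f, hf1, hf2⟩ := Submodule.exists_dual_map_eq_bot_of_notMem hcon inferInstance
    have hfv : f v = 0 := by
      have h2 : f v ∈ (Submodule.span K {v}).map f := ⟨v, Submodule.mem_span_singleton_self v, rfl⟩
      rw [hf2] at h2
      exact h2
    apply hf1
    obtain ⟨a, ha⟩ := hρ (f ∘ₗ d.P N) v
    have h1 : ∀ g : Pt K A, f (d.P N (ρ g v)) = g a := ha
    rw [h1]
    refine TopVec.eq_zero_of_cell (lam := lam) (fun u hu b hb => ?_) g
    rw [← h1, map_mul, Module.End.mul_apply]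
    obtain ⟨c, hc⟩ := hP b hb
    rw [hc, map_smul, map_smul, P_eq_self_of_mem_Usub_inv hρ d hv hu, map_smul, hfv, smul_zero]

/-- **Weights of Chevalley lines.** -/
theorem fund (hG : Function.Injective (torChar K (Multiplicative M)))
    (hle : Psub (co p l) ≤ Psub (co p y)) :
    ∃ c : M, Semi p l c ≠ ⊥ ∧ ∀ (n : Pt K A) (w : M →+ M),
      (∀ τ : Multiplicative M →* Kˣ,
        n⁻¹ * tp p τ * n = tp p (τ.comp (AddMonoidHom.toMultiplicative w))) →
        l (w c) ≤ l c ∧ (l (w c) = l c → n ∈ Psub (co p y)) ∧ (n ∈ Psub (co p y) → w c = c) := by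
  have hK : Infinite K := IsAlgClosed.instInfinite
  obtain ⟨V, _, _, _, ρ, v, hρ, hv0, hstab, hspan⟩ := ChevLine.exists_line (Psub (co p y)) (isCl_Psub _)
  obtain ⟨d⟩ := nonempty_torDec hG p hρ
  have heig : ∀ τ : Multiplicative M →* Kˣ, ∃ c : K, ρ (tp p τ) v = c • v := fun τ =>
    (hstab _).1 (Zsub_le_Psub _ (tp_mem_Zsub p y τ))
  choose cc hcc using heig
  obtain ⟨m, -, hm⟩ := d.exists_of_eigen hG hv0 hcc
  have hm' : ∀ τ : Multiplicative M →* Kˣ, ρ (tp p τ) v = (τ m : K) • v := hm
  have hvN : v ∈ cwt (co p l) ρ (l m.toAdd) := by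
    rw [mem_cwt]
    intro t
    rw [cochPt_eq, hm']
    rfl
  obtain ⟨dl⟩ := nonempty_cochDec (co p l) hρ
  have hPb : ∀ b ∈ Psub (co p l), ∃ c : K, ρ b v = c • v := fun b hb => (hstab _).1 (hle hb)
  have hU : ∀ u ∈ Usub (co p l), ρ u v = v := by
    intro u hu
    obtain ⟨c, hc⟩ := hPb u (Usub_le_Psub _ hu)
    have h1 := P_eq_self_of_mem_Usub hρ dl hvN hu
    rw [hc, map_smul, dl.P_of_mem gmChar_injective hvN] at h1
    rw [hc, h1]
  refine ⟨m.toAdd, ?_, ?_⟩
  · -- nonzero semi-invariant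
    obtain ⟨f, hf⟩ : ∃ f : Module.Dual K V, f v ≠ 0 := by
      by_contra! hcon
      exact hv0 ((Module.forall_dual_apply_eq_zero_iff K v).1 hcon)
    obtain ⟨a, ha⟩ := hρ f v
    intro hbot
    have h1 : a ∈ Semi p l m.toAdd := by
      refine ⟨fun x u hu => ?_, fun x τ => ?_⟩
      · rw [← ha, ← ha, map_mul, Module.End.mul_apply, hU u hu]
      · rw [← ha, ← ha, map_mul, Module.End.mul_apply, hm', map_smul, map_smul, smul_eq_mul, mul_comm]
        rfl
    rw [hbot, Submodule.mem_bot] at h1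
    apply hf
    have h2 := ha 1
    rw [map_one, Module.End.one_apply, h1, Pt.apply_zero] at h2
    exact h2
  · intro n w hw
    have hlow : ∀ x : V, x ∈ lowSub dl (l m.toAdd) v := by
      intro x
      have h1 : (⊤ : Submodule K V) ≤ lowSub dl (l m.toAdd) v := by
        rw [← hspan, Submodule.span_le]
        rintro _ ⟨g, rfl⟩
        exact rho_mem_lowSub hρ dl hvN hPb g
      exact h1 trivial
    have hwt : ∀ τ : Multiplicative M →* Kˣ, ρ (tp p τ) (ρ n v) =
        (τ (Multiplicative.ofAdd (w m.toAdd)) : K) • ρ n v := by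
      intro τ
      have h1 : tp p τ * n = n * tp p (τ.comp (AddMonoidHom.toMultiplicative w)) := by
        rw [← hw]; group
      rw [← Module.End.mul_apply, ← map_mul, h1, map_mul, Module.End.mul_apply, hm', map_smul]
      rfl
    have hnv0 : ρ n v ≠ 0 := by
      intro h0
      apply hv0
      have h1 : ρ (n⁻¹ * n) v = 0 := by rw [map_mul, Module.End.mul_apply, h0, map_zero]
      rwa [inv_mul_cancel, map_one, Module.End.one_apply] at h1
    have hnl : ρ n v ∈ cwt (co p l) ρ (l (w m.toAdd)) := by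
      rw [mem_cwt]
      intro t
      rw [cochPt_eq, hwt]
      rfl
    refine ⟨?_, ?_, ?_⟩
    · by_contra hlt
      rw [not_le] at hlt
      have h1 := (hlow (ρ n v)).1 _ hlt
      rw [dl.P_of_mem gmChar_injective hnl] at h1
      exact hnv0 h1
    · intro heq
      have h1 := (hlow (ρ n v)).2
      rw [← heq, dl.P_of_mem gmChar_injective hnl, Submodule.mem_span_singleton] at h1
      obtain ⟨c, hc⟩ := h1
      exact (hstab n).2 ⟨c, hc.symm⟩
    · intro hn
      obtain ⟨c, hc⟩ := (hstab n).1 hn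
      have h1 : ∀ τ : Multiplicative M →* Kˣ, τ (Multiplicative.ofAdd (w m.toAdd)) = τ m := by
        intro τ
        have h2 := hwt τ
        rw [hc, map_smul, hm', smul_comm c, smul_smul, smul_smul] at h2
        have h3 : ((τ m : K) * c) = (τ (Multiplicative.ofAdd (w m.toAdd)) : K) * c := by
          by_contra hne
          apply hv0
          have h4 : (((τ m : K) * c) - (τ (Multiplicative.ofAdd (w m.toAdd)) : K) * c) • v = 0 := by
            rw [sub_smul, h2, sub_self]
          exact (smul_eq_zero.1 h4).resolve_left (sub_ne_zero.2 hne)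
        have hc0 : c ≠ 0 := by
          rintro rfl
          rw [zero_smul] at hc
          exact hnv0 hc
        exact (Units.ext (mul_right_cancel₀ hc0 h3)).symm
      have h2 : Multiplicative.ofAdd (w m.toAdd) = m := by
        apply hG
        ext τ
        rw [torChar_apply, torChar_apply, h1]
      exact congrArg Multiplicative.toAdd h2

end K498.DomWt1
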