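import Groth.Agent.AGF.K498.DomWt1
import Groth.Agent.AGF.K498.LieKol
import Groth.Agent.Sga3B.RG.CentralPt

/-!
# Weights of semi-invariants: characters of the group
-/

set_option autoImplicit false
set_option linter.unusedSectionVars false

universe u w

open WithConv TensorProduct Coalgebra Module
open scoped LaurentPolynomial

namespace K498.DomWt2

open Groth.Agent.Sga3B.RG Groth.Agent.Sga3B.RG.PbPsi K498.DomWt1 K498.LieKol
open Groth.Agent.Sga3B.RG.CentralPt

variable {K : Type u} [Field K] [IsAlgClosed K] {A : Type u} [CommRing A] [HopfAlgebra K A]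
  [Algebra.FiniteType K A]

/-- Determinants of algebraic representations are functions. -/
theorem exists_det {L : Type w} [AddCommGroup L] [Module K L] [FiniteDimensional K L]
    {σ : Representation K (Pt K A) L} (hσ : IsAlg σ) :
    ∃ a : A, ∀ x : Pt K A, x a = LinearMap.det (σ x) := by
  classical
  let b := Module.finBasis K L
  choose a ha using fun (i j : Fin (Module.finrank K L)) => hσ (b.coord i) (b j)
  refine ⟨(Matrix.of a).det, fun x => ?_⟩
  rw [← LinearMap.det_toMatrix b]
  have h1 : x (Matrix.of a).det = x.ofConv.toRingHom (Matrix.of a).det := rfl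
  rw [h1, RingHom.map_det]
  congr 1
  ext i j
  rw [LinearMap.toMatrix_apply]
  exact (ha i j x).symm

variable {M : Type} [AddCommGroup M] (p : A →ₐc[K] MonoidAlgebra K (Multiplicative M))
  (l : M →+ ℤ)

variable [IsReduced A]

/-- Every weight of the torus occurs in a representation. -/
theorem exists_weight_rep (hp : Function.Surjective p)
    (hG : Function.Injective (torChar K (Multiplicative M))) (ψ : M) :
    ∃ (V : Type u) (_ : AddCommGroup V) (_ : Module K V) (_ : FiniteDimensional K V)
      (ρ : Representation K (Pt K A) V) (v : V), IsAlg ρ ∧ v ≠ 0 ∧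
      ∀ τ : Multiplicative M →* Kˣ, ρ (tp p τ) v = (τ (Multiplicative.ofAdd ψ) : K) • v := by
  obtain ⟨a₀, ha₀⟩ := hp (MonoidAlgebra.single (Multiplicative.ofAdd ψ) 1)
  obtain ⟨W, hWf, haW, hW⟩ := exists_stable_submodule (K := K) a₀
  have hst : IsStable (rTrRep K A) W := fun g w hw => hW g w hw
  have hρ := isAlg_subRep (isAlg_rTrRep K A) W hst
  obtain ⟨d⟩ := nonempty_torDec hG p hρ
  refine ⟨W, inferInstance, inferInstance, hWf, subRep (rTrRep K A) W hst,
    d.P (Multiplicative.ofAdd ψ) ⟨a₀, haW⟩, hρ, ?_, fun τ => d.P_mem hG _ _ τ⟩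
  intro h0
  let ev : W →ₗ[K] K := (1 : Pt K A).ofConv.toLinearMap ∘ₗ W.subtype
  have h1 : ∀ τ : Multiplicative M →* Kˣ,
      ∑ m ∈ d.S, ev (d.P m ⟨a₀, haW⟩) * torChar K _ m τ = torChar K _ (Multiplicative.ofAdd ψ) τ := by
    intro τ
    have h2 := congrArg ev (d.sum_smul τ ⟨a₀, haW⟩)
    rw [map_sum] at h2
    have h3 : ev ((((subRep (rTrRep K A) W hst).comp
        ((Pt.map p).comp (torPt (Multiplicative M)).toMonoidHom)) τ) ⟨a₀, haW⟩) =
        torChar K _ (Multiplicative.ofAdd ψ) τ := by
      have h4 : (1 : Pt K A) (rTr (tp p τ) a₀) = torChar K _ (Multiplicative.ofAdd ψ) τ := by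
        rw [rTr_apply_pt, one_mul, tp_apply, Pt.map_apply, ha₀, torPt_apply]
        rw [MonoidAlgebra.coeff_single, Finsupp.sum_single_index (by rw [zero_mul]), one_mul]
      exact h4
    rw [← h3, ← h2]
    refine Finset.sum_congr rfl fun m _ => ?_
    rw [map_smul, smul_eq_mul, mul_comm]
  classical
  have h5 := WtDec.coeff_eq_zero hG (insert (Multiplicative.ofAdd ψ) d.S)
    (fun m => ev (d.P m ⟨a₀, haW⟩) - if m = Multiplicative.ofAdd ψ then 1 else 0) (fun τ => by
      simp_rw [sub_mul, Finset.sum_sub_distrib, ite_mul, one_mul, zero_mul]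
      rw [Finset.sum_ite_eq' (insert (Multiplicative.ofAdd ψ) d.S) (Multiplicative.ofAdd ψ),
        if_pos (Finset.mem_insert_self _ _), sub_eq_zero, ← h1 τ]
      symm
      refine Finset.sum_subset (Finset.subset_insert _ _) fun m _ hm => ?_
      rw [d.P_eq_zero m hm, LinearMap.zero_apply, map_zero, zero_mul])
    (Multiplicative.ofAdd ψ) (Finset.mem_insert_self _ _)
  rw [h0, map_zero, if_pos rfl, zero_sub, neg_eq_zero] at h5
  exact one_ne_zero h5

/-- A function which is a character restricts to a weight of the torus. -/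
theorem exists_weight_char (hG : Function.Injective (torChar K (Multiplicative M))) {a : A}
    (ha : IsChar (k := K) a) : ∃ c : M, ∀ τ : Multiplicative M →* Kˣ,
      tp p τ a = (τ (Multiplicative.ofAdd c) : K) := by
  let ρ : Representation K (Pt K A) K :=
    { toFun := fun g => (g a) • (1 : Module.End K K)
      map_one' := by rw [ha.one, one_smul]
      map_mul' := fun g h => by rw [ha.mul, smul_mul_smul_comm, mul_one] }
  have hρ : IsAlg ρ := by
    intro f v
    refine ⟨(f 1 * v) • a, fun x => ?_⟩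
    have h1 : ρ x v = (x a * v) • (1 : K) := by
      change (x a) • v = _
      rw [smul_eq_mul, smul_eq_mul, mul_one]
    rw [h1, map_smul, Pt.apply_smul, smul_eq_mul]
    ring
  obtain ⟨d⟩ := nonempty_torDec hG p hρ
  obtain ⟨m, -, hm⟩ := d.exists_of_eigen hG (v := (1 : K)) one_ne_zero
    (c := fun τ => tp p τ a) (fun τ => rfl)
  refine ⟨m.toAdd, fun τ => ?_⟩
  have h1 : (tp p τ a) • (1 : K) = (τ m : K) • (1 : K) := hm τ
  rw [smul_eq_mul, smul_eq_mul, mul_one, mul_one] at h1
  exact h1

/-- **Characters of the group with prescribed central behaviour.** -/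
theorem exists_char (hp : Function.Surjective p)
    (hG : Function.Injective (torChar K (Multiplicative M))) (ψ : M) :
    ∃ (D : M) (d : ℕ), 0 < d ∧ Semi p l D ≠ ⊥ ∧
      (∀ z : M →+ ℤ, (∀ (s : Kˣ) (g : Pt K A), cochPt (co p z) s * g = g * cochPt (co p z) s) →
        z D = d * z ψ) ∧
      (∀ (n : Pt K A) (w : M →+ M), (∀ τ : Multiplicative M →* Kˣ,
        n⁻¹ * tp p τ * n = tp p (τ.comp (AddMonoidHom.toMultiplicative w))) → w D = D) := by
  have hK : Infinite K := IsAlgClosed.instInfinite
  obtain ⟨V, _, _, _, ρ, v, hρ, hv0, hv⟩ := exists_weight_rep p hp hG ψ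
  let L : Submodule K V :=
    { carrier := {x | ∀ z : M →+ ℤ, (∀ (s : Kˣ) (g : Pt K A),
        cochPt (co p z) s * g = g * cochPt (co p z) s) → ∀ s : Kˣ,
          ρ (cochPt (co p z) s) x = ((s ^ (z ψ) : Kˣ) : K) • x}
      add_mem' := fun {a b} ha hb z hz s => by rw [map_add, ha z hz s, hb z hz s, smul_add]
      zero_mem' := fun z hz s => by rw [map_zero, smul_zero]
      smul_mem' := fun c a ha z hz s => by rw [map_smul, ha z hz s, smul_comm] }
  have hvL : v ∈ L := by
    intro z _ s
    rw [cochPt_eq, hv]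
    rfl
  have hst : IsStable ρ L := by
    intro g x hx z hz s
    rw [← Module.End.mul_apply, ← map_mul, hz s g, map_mul, Module.End.mul_apply, hx z hz s, map_smul]
  have hσ := isAlg_subRep hρ L hst
  have hL : Nontrivial L := ⟨⟨v, hvL⟩, 0, fun h => hv0 (congrArg Subtype.val h)⟩
  obtain ⟨a, ha⟩ := exists_det hσ
  have hchar : IsChar (k := K) a :=
    { one := by rw [ha, map_one, map_one]
      mul := fun y z => by rw [ha, ha, ha, map_mul, map_mul] }
  obtain ⟨D, hD⟩ := exists_weight_char p hG hchar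
  refine ⟨D, Module.finrank K L, Module.finrank_pos, ?_, ?_, ?_⟩
  · intro hbot
    have h1 : a ∈ Semi p l D := by
      refine ⟨fun x u hu => ?_, fun x τ => ?_⟩
      · rw [hchar.mul, hchar.eq_one (isUnip_of_mem_Usub hu), mul_one]
      · rw [hchar.mul, hD]
    rw [hbot, Submodule.mem_bot] at h1
    have h2 := hchar.one
    rw [h1, Pt.apply_zero] at h2
    exact zero_ne_one h2
  · intro z hz
    have h1 : ∀ s : Kˣ, ((s ^ (z D) : Kˣ) : K) = ((s ^ ((Module.finrank K L : ℤ) * z ψ) : Kˣ) : K) := by
      intro s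
      have h2 : tp p (torOf (AddMonoidHom.toMultiplicative z) s) a = ((s ^ (z D) : Kˣ) : K) := hD _
      rw [← cochPt_eq, ha] at h2
      have h3 : subRep ρ L hst (cochPt (co p z) s) = ((s ^ (z ψ) : Kˣ) : K) • LinearMap.id := by
        ext x
        exact x.2 z hz s
      rw [h3, LinearMap.det_smul, LinearMap.det_id, mul_one] at h2
      rw [← h2, ← Units.val_pow_eq_pow_val, ← zpow_natCast, ← zpow_mul, mul_comm (z ψ)]
    by_contra hne
    obtain ⟨s, hs⟩ := exists_zpow_ne_one (K := K) (sub_ne_zero.2 hne)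
    apply hs
    rw [zpow_sub, Units.ext (h1 s), mul_inv_cancel]
  · intro n w hw
    have h1 : ∀ τ : Multiplicative M →* Kˣ,
        (τ (Multiplicative.ofAdd (w D)) : K) = (τ (Multiplicative.ofAdd D) : K) := by
      intro τ
      have h2 := hD (τ.comp (AddMonoidHom.toMultiplicative w))
      rw [← hw, hchar.mul, hchar.mul, mul_comm (n⁻¹ a), mul_assoc, ← hchar.mul, inv_mul_cancel,
        hchar.one, mul_one, hD] at h2
      exact h2.symm
    have h2 : Multiplicative.ofAdd (w D) = Multiplicative.ofAdd D := by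
      apply hG
      ext τ
      exact h1 τ
    exact Multiplicative.ofAdd.injective h2

end K498.DomWt2
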