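import Groth.Agent.AGF.K498.DomWt1
import Groth.Agent.QFDual.K577.Fac
import Groth.Agent.Sga3B.RG.DynTor2
import Groth.Agent.Sga3B.RG.DynRel
import Groth.Agent.Sga3B.RG.Kolchin
import Groth.Agent.Sga3B.RG.UnipRep
import Groth.Agent.Sga3B.RG.CentralPt
import Groth.Agent.AGF.K496.Normal
import Groth.Agent.S3305

/-!
# Weights of semi-invariants: saturation
-/

set_option autoImplicit false
set_option linter.unusedSectionVars false

universe u w

open WithConv TensorProduct Coalgebra Module AlgebraicGeometry CategoryTheory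
open scoped LaurentPolynomial

namespace K498.DomWt3

open Groth.Agent.Sga3B.RG Groth.Agent.Sga3B.RG.PbPsi K498.DomWt1
open Groth.Agent.Sga3B.RG.CentralPt Groth.Agent.Books.DynLim Groth.Agent.Books.DynOpen
  Groth.Agent.Books.DynBasic Groth.Agent.Books.DynConn Groth.Agent.Books.DynCell

variable {K : Type u} [Field K] [IsAlgClosed K] {A : Type u} [CommRing A] [HopfAlgebra K A]
  [Algebra.FiniteType K A]

section open_

variable [IsDomain A] (lam : A →ₐc[K] K[T;T⁻¹])

/-- Elements of the target of an open immersion of spectra of domains are fractions. -/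
theorem exists_frac_of_open {R : Type u} [CommRing R] [IsDomain R] (φ : A →+* R)
    (h : IsOpenImmersion (Spec.map (CommRingCat.ofHom φ))) (r : R) :
    ∃ q f : A, q ≠ 0 ∧ φ f = φ q * r := by
  let _ : Algebra A R := φ.toAlgebra
  have h' : IsOpenImmersion (Spec.map (CommRingCat.ofHom (algebraMap A R))) := h
  have hloc := K577.Fac.isLocalization_atPrime h' (⊥ : Ideal R)
  obtain ⟨⟨a, s⟩, hs⟩ := IsLocalization.surj ((⊥ : Ideal R).comap (algebraMap A R)).primeCompl
    (algebraMap R (Localization.AtPrime (⊥ : Ideal R)) r)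
  dsimp only at hs
  rw [IsScalarTower.algebraMap_apply A R, IsScalarTower.algebraMap_apply A R, ← map_mul] at hs
  have h2 : Function.Injective (algebraMap R (Localization.AtPrime (⊥ : Ideal R))) := by
    apply IsLocalization.injective _ (⊥ : Ideal R).primeCompl_le_nonZeroDivisors
  refine ⟨s, a, ?_, ?_⟩
  · intro h0
    apply s.2
    change algebraMap A R s ∈ (⊥ : Ideal R)
    rw [h0, map_zero]
    exact Submodule.zero_mem _
  · rw [mul_comm]
    exact (h2 hs).symm

/-- Functions on the second factor of the cell are fractions. -/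
theorem exists_frac (h : A) : ∃ q f : A, q ≠ 0 ∧
    ∀ u ∈ Usub (invCoch lam), ∀ b ∈ Psub lam, (u * b) f = (u * b) q * b h := by
  have hU : IsDomain (A ⧸ vanIdeal (Usub (invCoch lam) : Set (Pt K A))) :=
    isDomain_quot_of_isConn (isConn_Usub (invCoch lam))
  have hP : IsDomain (A ⧸ vanIdeal (Psub lam : Set (Pt K A))) :=
    isDomain_quot_of_isConn (isConn_Psub lam)
  have hp : Dyn.Represents K A (vanIdeal (Psub lam : Set (Pt K A)))
      (fun R _ _ g => Dyn.LimExists K A lam R g) := by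
    rw [vanIdeal_Psub]; exact represents_JP lam
  have hm : Dyn.Represents K A (vanIdeal (Usub (invCoch lam) : Set (Pt K A)))
      (fun R _ _ g => Dyn.LimIsOne K A (invCoch lam) R g) := by
    rw [vanIdeal_Usub]; exact represents_JU (invCoch lam)
  have hopen := Groth.Agent.S3305.result K A lam (invCoch lam) (invCoch_eq_negParam lam)
    (vanIdeal (Psub lam : Set (Pt K A))) (vanIdeal (Usub (invCoch lam) : Set (Pt K A))) hp hm
  have hdom : IsDomain ((A ⧸ vanIdeal (Usub (invCoch lam) : Set (Pt K A))) ⊗[K]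
      (A ⧸ vanIdeal (Psub lam : Set (Pt K A)))) := isDomain_tensor (K := K)
  obtain ⟨q, f, hq, hf⟩ := exists_frac_of_open _ hopen
    (1 ⊗ₜ[K] (Ideal.Quotient.mk (vanIdeal (Psub lam : Set (Pt K A))) h))
  refine ⟨q, f, hq, fun u hu b hb => ?_⟩
  have hu' : ∀ a ∈ vanIdeal (Usub (invCoch lam) : Set (Pt K A)), u.ofConv a = 0 := fun a ha => ha u hu
  have hb' : ∀ a ∈ vanIdeal (Psub lam : Set (Pt K A)), b.ofConv a = 0 := fun a ha => ha b hb
  let e := mkPt (Jm := vanIdeal (Usub (invCoch lam) : Set (Pt K A)))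
    (Jp := vanIdeal (Psub lam : Set (Pt K A))) u.ofConv b.ofConv hu' hb'
  have h1 : ∀ a : A, e (cell (vanIdeal (Usub (invCoch lam) : Set (Pt K A)))
      (vanIdeal (Psub lam : Set (Pt K A))) a) = (u * b) a := by
    intro a
    have h2 := fstPt_mul_sndPt e
    rw [fstPt_mkPt, sndPt_mkPt] at h2
    have h3 := congrArg (fun x => x.ofConv a) h2
    exact h3.symm
  have h4 := congrArg e hf
  rw [map_mul] at h4
  have h5 : e (1 ⊗ₜ[K] (Ideal.Quotient.mk (vanIdeal (Psub lam : Set (Pt K A))) h)) = b h := by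
    change mkPt u.ofConv b.ofConv hu' hb' (1 ⊗ₜ[K] (Ideal.Quotient.mk _ h)) = b h
    rw [mkPt, Algebra.TensorProduct.lift_tmul, map_one, one_mul]
    rfl
  rw [h5] at h4
  rw [← h1, ← h1]
  exact h4

end open_

section fixed

variable [IsReduced A]

/-- Nonzero left-stable spaces of functions contain functions invariant under unipotent groups. -/
theorem exists_left_fixed {S : Submodule K A} (hS : ∀ g : Pt K A, ∀ f ∈ S, lTr g f ∈ S)
    (hne : S ≠ ⊥) (N : Subgroup (Pt K A)) (hN : ∀ u ∈ N, IsUnip u) :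
    ∃ f ∈ S, f ≠ 0 ∧ ∀ u ∈ N, ∀ x : Pt K A, (u * x) f = x f := by
  obtain ⟨f₀, hf₀, hf₀0⟩ := Submodule.exists_mem_ne_zero_of_ne_bot hne
  have hfd : FiniteDimensional K (Submodule.span K {f₀}) := inferInstance
  obtain ⟨U, hUfd, hfU, -, hUl⟩ := exists_stable (K := K) (A := A) (Submodule.span K {f₀})
  have hW : FiniteDimensional K (U ⊓ S : Submodule K A) := Submodule.finiteDimensional_inf_left _ _
  have hst : IsStable (lTrRep K A) (U ⊓ S) := fun g w hw => ⟨hUl g hw.1, hS g w hw.2⟩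
  have hf₀W : f₀ ∈ U ⊓ S := ⟨hfU (Submodule.mem_span_singleton_self f₀), hf₀⟩
  have hnt : Nontrivial (U ⊓ S : Submodule K A) :=
    ⟨⟨f₀, hf₀W⟩, 0, fun h => hf₀0 (congrArg Subtype.val h)⟩
  have hρ := isAlg_subRep (isAlg_lTrRep K A) (U ⊓ S) hst
  obtain ⟨v, hv0, hv⟩ := exists_fixed_of_unipotent
    ((subRep (lTrRep K A) (U ⊓ S) hst).comp N.subtype) (fun n => IsUnip.rep hρ (hN n.1 n.2))
  refine ⟨v, v.2.2, fun h => hv0 (Subtype.ext h), fun u hu x => ?_⟩
  have h1 : lTr u⁻¹ (v : A) = v := congrArg Subtype.val (hv ⟨u⁻¹, N.inv_mem hu⟩)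
  have h2 := lTr_apply_pt u⁻¹ x (v : A)
  rw [inv_inv, h1] at h2
  exact h2.symm

end fixed

section main

variable [IsDomain A] {M : Type} [AddCommGroup M] (p : A →ₐc[K] MonoidAlgebra K (Multiplicative M))
  (l : M →+ ℤ)

lemma lTr_mem_Semi {c : M} {f : A} (hf : f ∈ Semi p l c) (g : Pt K A) : lTr g f ∈ Semi p l c := by
  refine ⟨fun x u hu => ?_, fun x τ => ?_⟩
  · rw [lTr_apply_pt, lTr_apply_pt, ← mul_assoc, hf.1 _ u hu]
  · rw [lTr_apply_pt, lTr_apply_pt, ← mul_assoc, hf.2]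

/-- **Saturation**: if a positive multiple of a weight occurs, so does the weight. -/
theorem semi_of_nsmul (hp : Function.Surjective p)
    (hZ : ∀ z ∈ Zsub (co p l), ∃ τ, tp p τ = z) {c : M} {n : ℕ} (hn : 0 < n)
    (h : Semi p l (n • c) ≠ ⊥) : Semi p l c ≠ ⊥ := by
  have hK : Infinite K := IsAlgClosed.instInfinite
  set lam := co p l with hlam
  obtain ⟨F, hF, hF0, hFN⟩ := exists_left_fixed (S := Semi p l (n • c))
    (fun g f hf => lTr_mem_Semi p l hf g) h (Usub (invCoch lam)) (fun u hu => isUnip_of_mem_Usub hu)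
  -- values on the cell
  have hdec : ∀ b ∈ Psub lam, ∃ τ : Multiplicative M →* Kˣ, ∃ u ∈ Usub lam, b = tp p τ * u ∧
      ∀ hb, limPt lam b hb = tp p τ := by
    intro b hb
    obtain ⟨τ, hτ⟩ := hZ _ (limPt_mem_Zsub lam hb)
    refine ⟨τ, _, limPt_inv_mul_mem lam hb, ?_, fun _ => hτ.symm⟩
    rw [hτ, mul_inv_cancel_left]
  have hFcell : ∀ u ∈ Usub (invCoch lam), ∀ b ∈ Psub lam, ∀ τ : Multiplicative M →* Kˣ,
      (∃ u' ∈ Usub lam, b = tp p τ * u') →
      (u * b) F = (1 : Pt K A) F * (τ (Multiplicative.ofAdd c) : K) ^ n := by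
    rintro u hu b hb τ ⟨u', hu', rfl⟩
    rw [hFN u hu, hF.1 _ u' hu', ← one_mul (tp p τ), hF.2, ofAdd_nsmul, map_pow, Units.val_pow_eq_pow_val]
  have hF1 : (1 : Pt K A) F ≠ 0 := by
    intro h0
    apply hF0
    refine eq_zero_of_forall_pt (K := K) fun g => ?_
    refine TopVec.eq_zero_of_cell (lam := lam) (fun u hu b hb => ?_) g
    obtain ⟨τ, u', hu', hbu, -⟩ := hdec b hb
    rw [hFcell u hu b hb τ ⟨u', hu', hbu⟩, h0, zero_mul]
  -- the character
  obtain ⟨ch, hch⟩ := hp (MonoidAlgebra.single (Multiplicative.ofAdd c) 1)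
  have hchτ : ∀ τ : Multiplicative M →* Kˣ, tp p τ ch = (τ (Multiplicative.ofAdd c) : K) := by
    intro τ
    rw [tp_apply, Pt.map_apply, hch, torPt_apply, MonoidAlgebra.coeff_single,
      Finsupp.sum_single_index (by rw [zero_mul]), one_mul, torChar_apply]
  have hval : ∀ b (hb : b ∈ Psub lam) (τ : Multiplicative M →* Kˣ), limPt lam b hb = tp p τ →
      b (pr lam 0 ch) = (τ (Multiplicative.ofAdd c) : K) := by
    intro b hb τ hτ
    rw [← limPt_apply lam hb, hτ, hchτ]
  obtain ⟨q, f, hq, hf⟩ := exists_frac lam (pr lam 0 ch)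
  have hpow : f ^ n * algebraMap K A ((1 : Pt K A) F) = q ^ n * F := by
    rw [← sub_eq_zero]
    refine eq_zero_of_forall_pt (K := K) fun g => ?_
    refine TopVec.eq_zero_of_cell (lam := lam) (fun u hu b hb => ?_) g
    obtain ⟨τ, u', hu', hbu, hlim⟩ := hdec b hb
    have h1 : ∀ (x : Pt K A) (a : A), x (a ^ n) = (x a) ^ n := fun x a => map_pow x.ofConv a n
    rw [Pt.apply_sub, Pt.apply_mul, Pt.apply_mul, h1, h1, hf u hu b hb, hval b hb τ (hlim hb),
      hFcell u hu b hb τ ⟨u', hu', hbu⟩, Pt.apply_algebraMap]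
    ring
  have hint : IsIntegrallyClosed A := K496.Normal.isIntegrallyClosed K A
  have hdvd : q ∣ f := by
    rw [← IsIntegrallyClosed.pow_dvd_pow_iff hn.ne']
    refine ⟨F * algebraMap K A ((1 : Pt K A) F)⁻¹, ?_⟩
    rw [← mul_assoc, ← hpow, mul_assoc, ← map_mul, mul_inv_cancel₀ hF1, map_one, mul_one]
  obtain ⟨g, rfl⟩ := hdvd
  have hg0 : g ≠ 0 := by
    rintro rfl
    rw [mul_zero, zero_pow hn.ne', zero_mul] at hpow
    exact mul_ne_zero (pow_ne_zero _ hq) hF0 hpow.symm
  have hTP : ∀ τ : Multiplicative M →* Kˣ, tp p τ ∈ Psub lam := fun τ =>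
    Zsub_le_Psub _ (tp_mem_Zsub p l τ)
  have hmulval : ∀ b ∈ Psub lam, ∀ b' ∈ Psub lam,
      (b * b') (pr lam 0 ch) = b (pr lam 0 ch) * b' (pr lam 0 ch) := by
    intro b hb b' hb'
    obtain ⟨τ, -, -, -, hτ⟩ := hdec b hb
    obtain ⟨τ', -, -, -, hτ'⟩ := hdec b' hb'
    rw [hval b hb τ (hτ hb), hval b' hb' τ' (hτ' hb'), hval (b * b') (mul_mem hb hb') (τ * τ')
      (by rw [limPt_mul lam hb hb', hτ hb, hτ' hb', map_mul])]
    rw [MonoidHom.mul_apply, Units.val_mul]
  have hkey : ∀ b' ∈ Psub lam, ∀ x : Pt K A, (x * b') g = x g * b' (pr lam 0 ch) := by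
    intro b' hb' x
    have h1 : q * rTr b' q * (rTr b' g - b' (pr lam 0 ch) • g) = 0 := by
      refine eq_zero_of_forall_pt (K := K) fun y => ?_
      refine TopVec.eq_zero_of_cell (lam := lam) (fun u hu b hb => ?_) y
      have e1 := hf u hu b hb
      have e2 := hf u hu (b * b') (mul_mem hb hb')
      rw [Pt.apply_mul] at e1 e2
      rw [← mul_assoc] at e2
      rw [hmulval b hb b' hb'] at e2
      rw [Pt.apply_mul, Pt.apply_mul, Pt.apply_sub, Pt.apply_smul, rTr_apply_pt, rTr_apply_pt]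
      calc (u * b) q * (u * b * b') q * ((u * b * b') g - b' (pr lam 0 ch) * (u * b) g)
          = (u * b) q * ((u * b * b') q * (u * b * b') g) -
            (u * b * b') q * b' (pr lam 0 ch) * ((u * b) q * (u * b) g) := by ring
        _ = 0 := by rw [e1, e2]; ring
    have hrq : rTr b' q ≠ 0 := by
      intro h0
      apply hq
      refine eq_zero_of_forall_pt (K := K) fun y => ?_
      have h2 : (y * b'⁻¹) (rTr b' q) = y q := by
        rw [rTr_apply_pt, inv_mul_cancel_right]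
      rw [← h2, h0, Pt.apply_zero]
    have h2 := (mul_eq_zero.1 h1).resolve_left (mul_ne_zero hq hrq)
    have h3 : x (rTr b' g - b' (pr lam 0 ch) • g) = 0 := by rw [h2, Pt.apply_zero]
    rw [Pt.apply_sub, Pt.apply_smul, rTr_apply_pt, sub_eq_zero] at h3
    rw [h3, mul_comm]
  intro hbot
  have hgS : g ∈ Semi p l c := by
    refine ⟨fun x u hu => ?_, fun x τ => ?_⟩
    · have hu' := Usub_le_Psub lam hu
      have h1 : u (pr lam 0 ch) = 1 := by
        rw [hval u hu' 1 (by rw [(limPt_eq_one_iff lam hu').2 hu, map_one])]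
        rfl
      rw [hkey u hu', h1, mul_one]
    · rw [hkey _ (hTP τ), hval _ (hTP τ) τ (limPt_of_mem_Zsub lam (tp_mem_Zsub p l τ))]
  rw [hbot, Submodule.mem_bot] at hgS
  exact hg0 hgS

end main

end K498.DomWt3
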