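import Mathlib.LinearAlgebra.RootSystem.Base
import Mathlib.LinearAlgebra.RootSystem.Finite.Nondegenerate
import Mathlib.LinearAlgebra.Dual.Lemmas
import Mathlib.Algebra.Module.PID
import Groth.Agent.RedSub.H670.PosRoots

/-!
# Linear algebra in root data over the integers
-/

set_option autoImplicit false
set_option linter.unusedSectionVars false

open Module

namespace K498.RootLA

section general

variable {M : Type*} [AddCommGroup M] [Module.Free ℤ M] [Module.Finite ℤ M]

/-- Members of an independent family are detected by integral functionals. -/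
theorem exists_coweight {ι : Type*} (v : ι → M) (s : Set ι) (hs : LinearIndepOn ℤ v s) {i : ι}
    (hi : i ∈ s) : ∃ y : M →+ ℤ, 0 < y (v i) ∧ ∀ j ∈ s, j ≠ i → y (v j) = 0 := by
  classical
  let bM := Module.finBasis ℤ M
  let n := Module.finrank ℤ M
  let φ : M →ₗ[ℤ] (Fin n → ℚ) :=
    { toFun := fun x k => (bM.repr x k : ℚ)
      map_add' := fun x y => by funext k; simp
      map_smul' := fun c x => by funext k; simp }
  have hφ : Function.Injective φ := by
    intro x y h
    apply bM.repr.injective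
    ext k
    have h' : ((bM.repr x k : ℤ) : ℚ) = (bM.repr y k : ℤ) := congrFun h k
    exact_mod_cast h'
  have h1 : LinearIndependent ℤ (fun j : s => φ (v j)) := by
    have h2 : LinearIndependent ℤ (fun j : s => v j) := hs
    exact h2.map' φ (LinearMap.ker_eq_bot.2 hφ)
  have h2 : LinearIndependent ℚ (fun j : s => φ (v j)) :=
    (LinearIndependent.iff_fractionRing ℤ ℚ).1 h1
  -- rational functional
  obtain ⟨g, hg⟩ : ∃ g : (Fin n → ℚ) →ₗ[ℚ] ℚ, ∀ j : s, g (φ (v j)) = if j = ⟨i, hi⟩ then 1 else 0 := by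
    let b := Basis.span h2
    obtain ⟨g, hg⟩ := LinearMap.exists_extend (b.coord ⟨i, hi⟩)
    refine ⟨g, fun j => ?_⟩
    have h3 : g (φ (v j)) = (g ∘ₗ (Submodule.span ℚ (Set.range fun j : s => φ (v j))).subtype) (b j) := by
      rw [LinearMap.comp_apply, Submodule.subtype_apply]
      congr 1
      exact (congrArg Subtype.val (Basis.span_apply h2 j)).symm
    rw [h3, hg, Basis.coord_apply, Basis.repr_self, Finsupp.single_apply]
  obtain ⟨N, hN⟩ := IsLocalization.exist_integer_multiples_of_finite (nonZeroDivisors ℤ)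
    (fun k : Fin n => g (Pi.single k 1))
  choose z hz using hN
  have hN0 : (N : ℤ) ≠ 0 := nonZeroDivisors.coe_ne_zero N
  let y₀ : M →ₗ[ℤ] ℤ := ∑ k, z k • bM.coord k
  have hy₀ : ∀ x, ((y₀ x : ℤ) : ℚ) = (N : ℤ) * g (φ x) := by
    intro x
    have h3 : φ x = ∑ k, (bM.repr x k : ℚ) • (Pi.single k 1 : Fin n → ℚ) := by
      funext l
      rw [Finset.sum_apply]
      simp [φ, Pi.single_apply]
    have h4 : y₀ x = ∑ k, z k * bM.repr x k := by
      simp [y₀, LinearMap.sum_apply]
    rw [h3, map_sum, h4]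
    push_cast
    rw [Finset.mul_sum]
    refine Finset.sum_congr rfl fun k _ => ?_
    have h5 := hz k
    rw [map_smul, smul_eq_mul]
    have h6 : (z k : ℚ) = (N : ℤ) * g (Pi.single k 1) := by
      have h7 : (algebraMap ℤ ℚ) (z k) = (N : ℤ) • g (Pi.single k 1) := h5
      rw [zsmul_eq_mul] at h7
      exact_mod_cast h7
    rw [h6]; ring
  have hval : ∀ j : s, y₀ (v j) = if j = ⟨i, hi⟩ then (N : ℤ) else 0 := by
    intro j
    have h3 := hy₀ (v j)
    rw [hg j] at h3
    split_ifs at h3 ⊢ with hj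
    · rw [mul_one] at h3; exact_mod_cast h3
    · rw [mul_zero] at h3; exact_mod_cast h3
  have hi' := hval ⟨i, hi⟩
  rw [if_pos rfl] at hi'
  have hj' : ∀ j ∈ s, j ≠ i → y₀ (v j) = 0 := by
    intro j hj hji
    have := hval ⟨j, hj⟩
    rwa [if_neg (fun h => hji (congrArg Subtype.val h))] at this
  rcases lt_or_gt_of_ne hN0 with h | h
  · refine ⟨(-y₀).toAddMonoidHom, ?_, fun j hj hji => ?_⟩
    · change 0 < (-y₀) (v i)
      rw [LinearMap.neg_apply]
      have : y₀ (v i) = (N : ℤ) := hi'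
      omega
    · change (-y₀) (v j) = 0
      rw [LinearMap.neg_apply, hj' j hj hji, neg_zero]
  · refine ⟨y₀.toAddMonoidHom, ?_, fun j hj hji => hj' j hj hji⟩
    change 0 < y₀ (v i)
    have : y₀ (v i) = (N : ℤ) := hi'
    omega

/-- An element killed by all functionals vanishing on a submodule has a multiple in it. -/
theorem exists_smul_mem (L : Submodule ℤ M) {η : M}
    (h : ∀ z : M →+ ℤ, (∀ x ∈ L, z x = 0) → z η = 0) : ∃ c : ℤ, c ≠ 0 ∧ c • η ∈ L := by
  let Q := M ⧸ L
  let Q' := Q ⧸ Submodule.torsion ℤ Q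
  have hfree : Module.Free ℤ Q' := Module.free_of_finite_type_torsion_free'
  let π : M →ₗ[ℤ] Q' := (Submodule.mkQ _) ∘ₗ L.mkQ
  have h1 : π η = 0 := by
    rw [← Module.forall_dual_apply_eq_zero_iff ℤ]
    intro f
    refine h (f ∘ₗ π).toAddMonoidHom fun x hx => ?_
    change f (π x) = 0
    have : L.mkQ x = 0 := (Submodule.Quotient.mk_eq_zero L).2 hx
    rw [show π x = Submodule.mkQ _ (L.mkQ x) from rfl, this, map_zero, map_zero]
  have h2 : L.mkQ η ∈ Submodule.torsion ℤ Q := (Submodule.Quotient.mk_eq_zero _).1 h1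
  rw [Submodule.mem_torsion_iff] at h2
  obtain ⟨c, hc⟩ := h2
  refine ⟨c, nonZeroDivisors.coe_ne_zero c, ?_⟩
  rw [← Submodule.Quotient.mk_eq_zero L]
  exact hc

end general

section root

variable {idx M : Type} [Fintype idx] [AddCommGroup M] [Module.Free ℤ M] [Module.Finite ℤ M]
  {P : RootPairing idx ℤ M (Module.Dual ℤ M)} (b : P.Base)

/-- A weight orthogonal to all coroots and to all central cocharacters vanishes. -/
theorem eq_zero_of_orthogonal {η : M} (h1 : ∀ a, P.toLinearMap η (P.coroot a) = 0)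
    (h2 : ∀ z : M →+ ℤ, (∀ a, z (P.root a) = 0) → z η = 0) : η = 0 := by
  obtain ⟨c, hc, hcη⟩ := exists_smul_mem (P.rootSpan ℤ) (η := η) fun z hz => h2 z fun a =>
    hz _ (Submodule.subset_span ⟨a, rfl⟩)
  have := P.isAnisotropic_of_isValuedIn ℤ
  have h3 : c • η = 0 := by
    by_contra hne
    obtain ⟨a, ha⟩ := P.exists_coroot_ne ℤ (x := ⟨c • η, hcη⟩) (fun h => hne (congrArg Subtype.val h))
    apply ha
    have h4 := P.algebraMap_coroot'In_apply ℤ a ⟨c • η, hcη⟩
    have h5 : P.coroot' a (c • η) = 0 := by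
      rw [map_smul]
      change c • P.toLinearMap η (P.coroot a) = 0
      rw [h1, smul_zero]
    rw [h5] at h4
    exact h4
  exact (smul_eq_zero.1 h3).resolve_left hc

/-- Fundamental coweights, up to a multiple. -/
theorem exists_fund {i : idx} (hi : i ∈ b.support) : ∃ y : M →+ ℤ, 0 < y (P.root i) ∧
    (∀ j ∈ b.support, j ≠ i → y (P.root j) = 0) ∧ ∀ a, b.IsPos a → 0 ≤ y (P.root a) := by
  obtain ⟨y, hy1, hy2⟩ := exists_coweight P.root (b.support : Set idx) b.linearIndepOn_root hi
  refine ⟨y, hy1, hy2, fun a ha => ?_⟩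
  rw [← Groth.Agent.RedSub.H670.PosRoots.mem_posRoots_iff] at ha
  obtain ⟨f, hf⟩ := Groth.Agent.RedSub.H670.PosRoots.exists_nat_of_mem_closure P b ha
  rw [hf, map_sum]
  refine Finset.sum_nonneg fun j hj => ?_
  rw [map_zsmul, smul_eq_mul]
  refine mul_nonneg (Int.natCast_nonneg _) ?_
  by_cases hji : j = i
  · rw [hji]; exact hy1.le
  · rw [hy2 j hj hji]

/-- Coroots pair trivially if simple coroots do. -/
theorem pair_coroot_eq_zero {ψ : M} (h : ∀ j ∈ b.support, P.toLinearMap ψ (P.coroot j) = 0) (a : idx) :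
    P.toLinearMap ψ (P.coroot a) = 0 := by
  have h1 := b.coroot_mem_span_int a
  generalize P.coroot a = x at h1
  induction h1 using Submodule.span_induction with
  | mem x hx =>
    obtain ⟨j, hj, rfl⟩ := hx
    exact h j hj
  | zero => rw [map_zero]
  | add x y _ _ hx hy => rw [map_add, hx, hy, add_zero]
  | smul c x _ hx => rw [map_smul, hx, smul_zero]

/-- Decomposition of a multiple of a dominant weight. -/
theorem exists_decomp (c : idx → M) (hc : ∀ i ∈ b.support, 0 < P.toLinearMap (c i) (P.coroot i))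
    (hc' : ∀ i ∈ b.support, ∀ j ∈ b.support, j ≠ i → P.toLinearMap (c i) (P.coroot j) = 0)
    {ω : M} (hω : ∀ j ∈ b.support, 0 ≤ P.toLinearMap ω (P.coroot j)) :
    ∃ (m : ℕ) (n : idx → ℕ) (ψ : M), 0 < m ∧ m • ω = ∑ i ∈ b.support, n i • c i + ψ ∧
      ∀ a, P.toLinearMap ψ (P.coroot a) = 0 := by
  classical
  let m : ℕ := ∏ i ∈ b.support, (P.toLinearMap (c i) (P.coroot i)).toNat
  have hpos : ∀ i ∈ b.support, 0 < (P.toLinearMap (c i) (P.coroot i)).toNat := by
    intro i hi
    have := hc i hi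
    omega
  let n : idx → ℕ := fun i => (∏ j ∈ b.support.erase i, (P.toLinearMap (c j) (P.coroot j)).toNat) *
    (P.toLinearMap ω (P.coroot i)).toNat
  refine ⟨m, n, m • ω - ∑ i ∈ b.support, n i • c i, Finset.prod_pos hpos, by abel, ?_⟩
  apply pair_coroot_eq_zero b
  intro j hj
  rw [map_sub, LinearMap.sub_apply, map_sum, LinearMap.sum_apply, Finset.sum_eq_single j]
  · rw [map_nsmul, map_nsmul, LinearMap.smul_apply, LinearMap.smul_apply, nsmul_eq_mul, nsmul_eq_mul]
    have h1 : (m : ℤ) = (∏ i ∈ b.support.erase j, (P.toLinearMap (c i) (P.coroot i)).toNat : ℕ) *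
        (P.toLinearMap (c j) (P.coroot j)) := by
      have h2 : m = (∏ i ∈ b.support.erase j, (P.toLinearMap (c i) (P.coroot i)).toNat) *
          (P.toLinearMap (c j) (P.coroot j)).toNat := (Finset.prod_erase_mul _ _ hj).symm
      rw [h2]
      push_cast
      rw [Int.toNat_of_nonneg (hc j hj).le]
    have h3 : (n j : ℤ) = (∏ i ∈ b.support.erase j, (P.toLinearMap (c i) (P.coroot i)).toNat : ℕ) *
        P.toLinearMap ω (P.coroot j) := by
      have h4 : n j = (∏ i ∈ b.support.erase j, (P.toLinearMap (c i) (P.coroot i)).toNat) *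
        (P.toLinearMap ω (P.coroot j)).toNat := rfl
      rw [h4]
      push_cast
      rw [Int.toNat_of_nonneg (hω j hj)]
    rw [h1, h3]
    ring
  · intro i hi hij
    rw [map_nsmul, LinearMap.smul_apply, hc' i hi j hj (Ne.symm hij), smul_zero]
  · exact fun h => absurd hj h

end root

end K498.RootLA
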