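import Groth.Agent.AGF.K498.DomWt1
import Groth.Agent.AGF.K498.DomWt2
import Groth.Agent.AGF.K498.DomWt3
import Groth.Agent.AGF.K498.RootLA

/-!
# Dominant weights occur as weights of semi-invariants
-/

set_option autoImplicit false
set_option linter.unusedSectionVars false

universe u w

open WithConv TensorProduct Coalgebra Module
open scoped LaurentPolynomial

namespace K498.DomWt4

open Groth.Agent.Sga3B.RG Groth.Agent.Sga3B.RG.PbPsi K498.DomWt1

variable {K : Type u} [Field K] [IsAlgClosed K] {A : Type u} [CommRing A] [HopfAlgebra K A]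
  [Algebra.FiniteType K A] [IsDomain A]
variable {idx M : Type} [Fintype idx] [AddCommGroup M] [Module.Free ℤ M] [Module.Finite ℤ M]
  (p : A →ₐc[K] MonoidAlgebra K (Multiplicative M)) (l : M →+ ℤ)
  {P : RootPairing idx ℤ M (Module.Dual ℤ M)} (b : P.Base)

/-- The weights which occur. -/
def Dom : AddSubmonoid M where
  carrier := {c | Semi p l c ≠ ⊥}
  zero_mem' := by
    intro h
    have h1 := one_mem_Semi p l
    rw [h, Submodule.mem_bot] at h1
    exact one_ne_zero h1
  add_mem' := by
    intro c c' hc hc' h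
    obtain ⟨f, hf, hf0⟩ := Submodule.exists_mem_ne_zero_of_ne_bot hc
    obtain ⟨f', hf', hf0'⟩ := Submodule.exists_mem_ne_zero_of_ne_bot hc'
    have h1 := Semi_mul p l hf hf'
    rw [h, Submodule.mem_bot] at h1
    exact mul_ne_zero hf0 hf0' h1

lemma mem_Dom {c : M} : c ∈ Dom p l ↔ Semi p l c ≠ ⊥ := Iff.rfl

/-- **Dominant weights occur.** -/
theorem dominant (hp : Function.Surjective p)
    (hG : Function.Injective (torChar K (Multiplicative M)))
    (hl : ∀ a, b.IsPos a → 0 < l (P.root a))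
    (hZ : ∀ z ∈ Zsub (co p l), ∃ τ, tp p τ = z)
    (hrefl : ∀ a, ∃ n : Pt K A, ∀ τ : Multiplicative M →* Kˣ,
      n⁻¹ * tp p τ * n = tp p (τ.comp (AddMonoidHom.toMultiplicative
        (P.reflection a).toLinearMap.toAddMonoidHom)))
    (hle : ∀ y : M →+ ℤ, (∀ a, b.IsPos a → 0 ≤ y (P.root a)) → Psub (co p l) ≤ Psub (co p y))
    (hcen : ∀ z : M →+ ℤ, (∀ a, z (P.root a) = 0) → ∀ (s : Kˣ) (g : Pt K A),
      cochPt (co p z) s * g = g * cochPt (co p z) s)
    {ω : M} (hω : ∀ j ∈ b.support, 0 ≤ P.toLinearMap ω (P.coroot j)) : ω ∈ Dom p l := by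
  classical
  choose n hn using hrefl
  have hr : ∀ a m, (P.reflection a).toLinearMap.toAddMonoidHom m =
      m - (P.toLinearMap m (P.coroot a)) • P.root a := fun a m => P.reflection_apply a m
  -- fundamental weights
  have hfund : ∀ i : idx, ∃ c : M, i ∈ b.support → (c ∈ Dom p l ∧
      0 < P.toLinearMap c (P.coroot i) ∧ ∀ j ∈ b.support, j ≠ i →
        P.toLinearMap c (P.coroot j) = 0) := by
    intro i
    by_cases hi : i ∈ b.support
    swap
    · exact ⟨0, fun h => absurd h hi⟩
    obtain ⟨y, hy1, hy2, hy3⟩ := RootLA.exists_fund b hi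
    obtain ⟨c, hc, hc'⟩ := fund p l y hG (hle y hy3)
    refine ⟨c, fun _ => ⟨hc, ?_, ?_⟩⟩
    · obtain ⟨h1, h2, -⟩ := hc' (n i) _ (hn i)
      rw [hr, map_sub, map_zsmul, smul_eq_mul] at h1
      have hli := hl i (b.isPos_of_mem_support hi)
      have h3 : 0 ≤ P.toLinearMap c (P.coroot i) := by
        by_contra hneg
        rw [not_le] at hneg
        have := mul_neg_of_neg_of_pos hneg hli
        omega
      refine lt_of_le_of_ne h3 (fun h0 => ?_)
      have h4 := h2 (by rw [hr, ← h0, zero_smul, sub_zero])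
      have h5 := comp_eq_of_mem_Psub p y hp h4 (hn i) (P.root i)
      rw [hr, map_sub, map_zsmul, smul_eq_mul] at h5
      have h6 : P.toLinearMap (P.root i) (P.coroot i) = 2 := P.root_coroot_two i
      rw [h6] at h5
      omega
    · intro j hj hji
      obtain ⟨-, -, h2⟩ := hc' (n j) _ (hn j)
      have h3 : n j ∈ Psub (co p y) := by
        refine mem_Psub_of_comp_eq p y (hn j) fun m => ?_
        rw [hr, map_sub, map_zsmul, hy2 j hj hji, smul_zero, sub_zero]
      have h4 := h2 h3
      rw [hr, sub_eq_self] at h4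
      exact (smul_eq_zero.1 h4).resolve_right (P.ne_zero j)
  choose c hc using hfund
  obtain ⟨m, k, ψ, hm, hdec, hψ⟩ := RootLA.exists_decomp b c (fun i hi => (hc i hi).2.1)
    (fun i hi j hj hji => (hc i hi).2.2 j hj hji) hω
  obtain ⟨D, d, hd, hD, hDz, hDw⟩ := DomWt2.exists_char p l hp hG ψ
  have hDψ : D = d • ψ := by
    rw [← sub_eq_zero]
    refine RootLA.eq_zero_of_orthogonal (P := P) (fun a => ?_) (fun z hz => ?_)
    · have h1 := hDw (n a) _ (hn a)
      rw [hr, sub_eq_self] at h1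
      have h2 := (smul_eq_zero.1 h1).resolve_right (P.ne_zero a)
      rw [map_sub, map_nsmul, LinearMap.sub_apply, LinearMap.smul_apply, hψ, h2, smul_zero, sub_zero]
    · rw [map_sub, map_nsmul, hDz z (hcen z hz), nsmul_eq_mul, sub_self]
  have h1 : (d * m) • ω ∈ Dom p l := by
    rw [mul_smul, hdec, smul_add, ← hDψ]
    refine add_mem (nsmul_mem (sum_mem fun i hi => nsmul_mem (hc i hi).1 _) _) hD
  exact DomWt3.semi_of_nsmul p l hp hZ (Nat.mul_pos hd hm) h1

end K498.DomWt4
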