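import Groth.Agent.AGF.K495.GModPt2
import Groth.Agent.HopfRep.K191.GLEmb
import Groth.Agent.Sga3B.RG.SmoothRed
import Groth.Prelude.Def_W4bk4grossh111Obs

/-!
# Epimorphic subgroups
-/

set_option autoImplicit false
set_option linter.unusedSectionVars false

universe u v

open CategoryTheory MonoidalCategory CartesianMonoidalCategory MonObj GrpObj AlgebraicGeometry
open scoped TensorProduct

namespace K498.Epi

open Groth.Agent.Books.AffBridge Groth.Agent.Books.AffBridge2
open Groth.Agent.Sga3B.RG Groth.Agent.Sga3B.RG.BrPts K495.ObsPt K495.Bridge K495.GModPt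
open Groth.Agent.Books.CoeffMat K191.GLEmb

noncomputable section

section mat

variable {k : Type u} [Field k] [IsAlgClosed k] {A : Type u} [CommRing A] [HopfAlgebra k A]
  [Algebra.FiniteType k A] [_root_.IsReduced A]

/-- Multiplicativity of a matrix can be tested on points. -/
theorem isMult_of_pt {n : ℕ} (m : Matrix (Fin n) (Fin n) A)
    (h1 : ∀ x y : Pt k A, ∀ i j, (x * y) (m i j) = ∑ l, x (m i l) * y (m l j))
    (h2 : ∀ i j, (1 : Pt k A) (m i j) = if i = j then 1 else 0) :
    Groth.Agent.Books.CoeffMat.IsMult k m where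
  comul i j := by
    rw [← sub_eq_zero]
    refine tensor_eq_zero_of_evLeft (K := k) _ fun f => ?_
    refine eq_zero_of_forall_algHom (K := k) fun g => ?_
    have h3 := h1 (WithConv.toConv f) (WithConv.toConv g) i j
    rw [Pt.mul_apply] at h3
    have h4 : ∀ z : A ⊗[k] A, g (evLeft A f z) = Algebra.TensorProduct.lift f g (fun _ _ => .all ..) z := by
      intro z
      induction z using TensorProduct.induction_on with
      | zero => simp
      | tmul a b => simp
      | add x y hx hy => rw [map_add, map_add, map_add, hx, hy]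
    rw [h4, map_sub, sub_eq_zero]
    refine h3.trans ?_
    rw [map_sum]
    refine Finset.sum_congr rfl fun l _ => ?_
    rw [Algebra.TensorProduct.lift_tmul]
  counit i j := by
    rw [← Pt.one_apply]
    exact h2 i j

/-- An algebraic representation with a basis is a homomorphism to `GL_n`. -/
theorem exists_glHom {V : Type v} [AddCommGroup V] [Module k V] {ρ : Representation k (Pt k A) V}
    (hρ : IsAlg ρ) {n : ℕ} (b : Module.Basis (Fin n) k V) :
    ∃ φ : CoordGrp.GLn n k →ₐc[k] A, ∀ (p : Pt k A) (i j : Fin n),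
      p (φ (CoordGrp.GLn.X i j)) = b.coord i (ρ p (b j)) := by
  choose m hm using fun (i j : Fin n) => hρ (b.coord i) (b j)
  have hmm : Groth.Agent.Books.CoeffMat.IsMult k (Matrix.of m) := by
    refine isMult_of_pt _ (fun x y i j => ?_) (fun i j => ?_)
    · simp only [Matrix.of_apply, ← hm]
      rw [map_mul, Module.End.mul_apply]
      conv_lhs => rw [← b.sum_repr (ρ y (b j))]
      rw [map_sum, map_sum]
      refine Finset.sum_congr rfl fun l _ => ?_
      rw [map_smul, map_smul, smul_eq_mul, mul_comm]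
      rfl
    · simp only [Matrix.of_apply, ← hm]
      rw [map_one, Module.End.one_apply, Module.Basis.coord_apply, Module.Basis.repr_self,
        Finsupp.single_apply]
      simp only [eq_comm]
  refine ⟨glHom (Matrix.of m) hmm, fun p i j => ?_⟩
  rw [glHom_X, hm]
  rfl

end mat

section smooth

open CoordGrp

/-- `GL_n` is smooth. -/
theorem smooth_GLn (k : Type u) [Field k] (n : ℕ) : Algebra.Smooth k (GLn n k) := by
  have h1 : Algebra.FiniteType k (GLb n k) :=
    inferInstanceAs (Algebra.FiniteType k (MvPolynomial (GLPoly.Idx n) k))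
  have h2 : Algebra.FiniteType k (GLn n k) :=
    Algebra.FiniteType.of_surjective (GLn.mk n k) Ideal.Quotient.mk_surjective
  have h3 : Algebra.FormallySmooth k (GLn n k) := by
    refine Algebra.FormallySmooth.of_comp_surjective fun B _ _ I hI f => ?_
    choose m hm using fun (i j : Fin n) => Ideal.Quotient.mkₐ_surjective k I (f (GLn.X i j))
    obtain ⟨d, hd⟩ := Ideal.Quotient.mkₐ_surjective k I (f GLn.Dinv)
    have h4 : Ideal.Quotient.mkₐ k I ((Matrix.of m).det) = f GLn.det := by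
      rw [GLn.det_eq, AlgHom.map_det, AlgHom.map_det]
      congr 1
      ext i j
      exact hm i j
    have h5 : (Matrix.of m).det * d - 1 ∈ I := by
      rw [← Ideal.Quotient.eq_zero_iff_mem, map_sub, map_one]
      change Ideal.Quotient.mkₐ k I _ - 1 = 0
      rw [map_mul, h4, hd, ← map_mul, mul_comm, GLn.Dinv_mul_det, map_one, sub_self]
    have h6 : ((Matrix.of m).det * d - 1) ^ 2 = 0 := by
      have h7 := Ideal.pow_mem_pow h5 2
      rwa [hI, Ideal.mem_bot] at h7
    -- correct the inverse of the determinant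
    have h7 : (Matrix.of m).det * (d * (2 - (Matrix.of m).det * d)) = 1 := by
      linear_combination -h6
    refine ⟨GLn.pt n k (Matrix.of m) _ h7, algHom_ext' fun i j => ?_⟩
    change Ideal.Quotient.mkₐ k I (GLn.pt n k (Matrix.of m) _ h7 (GLn.X i j)) = f (GLn.X i j)
    rw [GLn.pt_X]
    exact hm i j
  have h4 : Algebra.FinitePresentation k (GLn n k) := Algebra.FinitePresentation.of_finiteType.1 h2
  exact ⟨h3, h4⟩

end smooth

section main

variable {k : Type u} [Field k] [IsAlgClosed k] {A : Type u} [CommRing A] [HopfAlgebra k A]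
  [Algebra.FiniteType k A] [_root_.IsReduced A]
  {G : Over (Spec (CommRingCat.of k))} [GrpObj G] (e : G ≅ SpecOver k A) [IsMonHom e.hom]
  {H : Over (Spec (CommRingCat.of k))} [GrpObj H] (i : H ⟶ G) [IsMonHom i]

omit [IsAlgClosed k] [Algebra.FiniteType k A] [_root_.IsReduced A] [GrpObj G] [IsMonHom e.hom] in
/-- Constants. -/
lemma fn_const (c : k) :
    fn e (G.hom.appTop ((Scheme.ΓSpecIso (CommRingCat.of k)).inv c)) = algebraMap k A c := by
  rw [fn_apply]
  have h1 : e.inv.left ≫ G.hom = Spec.map (CommRingCat.ofHom (algebraMap k A)) := Over.w e.inv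
  have h2 : e.inv.left.appTop (G.hom.appTop ((Scheme.ΓSpecIso (CommRingCat.of k)).inv c)) =
      (e.inv.left ≫ G.hom).appTop ((Scheme.ΓSpecIso (CommRingCat.of k)).inv c) := by
    rw [Scheme.Hom.comp_appTop]
    rfl
  have h3 := Scheme.ΓSpecIso_inv_naturality (CommRingCat.ofHom (algebraMap k A))
  have h4 : (Spec.map (CommRingCat.ofHom (algebraMap k A))).appTop
      ((Scheme.ΓSpecIso (CommRingCat.of k)).inv c) =
      (Scheme.ΓSpecIso (CommRingCat.of A)).inv (algebraMap k A c) :=
    (congrArg (fun q : CommRingCat.of k ⟶ _ => q.hom c) h3).symm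
  have h5 : (e.inv.left ≫ G.hom).appTop ((Scheme.ΓSpecIso (CommRingCat.of k)).inv c) =
      (Spec.map (CommRingCat.ofHom (algebraMap k A))).appTop
      ((Scheme.ΓSpecIso (CommRingCat.of k)).inv c) :=
    congrArg (fun q : (SpecOver k A).left ⟶ Spec (CommRingCat.of k) =>
      q.appTop.hom ((Scheme.ΓSpecIso (CommRingCat.of k)).inv c)) h1
  exact (congrArg (fun z => (Scheme.ΓSpecIso (CommRingCat.of A)).hom.hom z) (h2.trans (h5.trans h4))).trans
    (congrArg (fun q : CommRingCat.of A ⟶ _ => q.hom (algebraMap k A c))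
      (Scheme.ΓSpecIso (CommRingCat.of A)).inv_hom_id)

/-- (b) in terms of points -/
lemma b_iff [IsAffine G.left] [Smooth G.hom] [IsAffine H.left] [Smooth H.hom] :
    (∀ f : Γ(G.left, ⊤), ((G ◁ i) ≫ μ[G]).left.appTop f = (fst G H).left.appTop f →
        ∃ c : k, f = G.hom.appTop ((Scheme.ΓSpecIso (CommRingCat.of k)).inv c)) ↔
      ∀ a ∈ rInv (psub e i : Set (Pt k A)), ∃ c : k, a = algebraMap k A c := by
  constructor
  · intro h a ha
    obtain ⟨c, hc⟩ := h ((fn e).symm a) ((isRTransInv_iff_mem e i _).2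
      (by rw [RingEquiv.apply_symm_apply]; exact ha))
    refine ⟨c, ?_⟩
    rw [← fn_const e c, ← hc, RingEquiv.apply_symm_apply]
  · intro h f hf
    obtain ⟨c, hc⟩ := h (fn e f) ((isRTransInv_iff_mem e i f).1 hf)
    exact ⟨c, (fn e).injective (by rw [hc, fn_const])⟩

/-- (b) ⇒ (c) -/
lemma b_c [IsAffine G.left] [Smooth G.hom] [IsAffine H.left] [Smooth H.hom]
    (hb : ∀ a ∈ rInv (psub e i : Set (Pt k A)), ∃ c : k, a = algebraMap k A c)
    (E : Type u) [AddCommGroup E] [Module k E] (ρ : VecGrp.GMod G E) :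
    ρ.fixedUnder i = ρ.fixedUnder (𝟙 G) := by
  apply le_antisymm
  · intro x hx
    rw [mem_fixedUnder_iff_psub e] at hx
    rw [mem_fixedUnder_id_iff e]
    intro p
    refine fixed_of_hull (isAlg_rep e ρ) (H := (psub e i : Set (Pt k A))) hx ?_
    rw [inHull_iff]
    intro a ha
    obtain ⟨c, rfl⟩ := hb a ha
    rw [Pt.apply_algebraMap, Pt.apply_algebraMap]
  · intro x hx B _ _ h
    have := hx B (h ≫ i)
    rwa [Category.comp_id] at this

/-- (c) ⇒ (b) -/
lemma c_b [IsAffine G.left] [Smooth G.hom] [IsAffine H.left] [Smooth H.hom]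
    (hc : ∀ (E : Type u) [AddCommGroup E] [Module k E] (ρ : VecGrp.GMod G E),
      ρ.fixedUnder i = ρ.fixedUnder (𝟙 G)) :
    ∀ a ∈ rInv (psub e i : Set (Pt k A)), ∃ c : k, a = algebraMap k A c := by
  intro a ha
  have h1 : a ∈ (regR e).fixedUnder i := by
    rw [mem_fixedUnder_iff_psub e, rep_regR]
    exact mem_rInv_iff_rTr.1 ha
  rw [hc, mem_fixedUnder_id_iff e, rep_regR] at h1
  refine ⟨(1 : Pt k A) a, eq_of_forall_pt (K := k) fun p => ?_⟩
  rw [Pt.apply_algebraMap]
  have h2 : rTr p a = a := h1 p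
  conv_rhs => rw [← h2, rTr_apply_pt, _root_.one_mul]

/-- The transvection along a vector. -/
def tv {U : Type v} [AddCommGroup U] [Module k U] (v : U) : (U × k) ≃ₗ[k] (U × k) where
  toFun x := (x.1 + x.2 • v, x.2)
  invFun x := (x.1 - x.2 • v, x.2)
  map_add' x y := by
    ext1
    · simp only [Prod.fst_add, Prod.snd_add, add_smul]; abel
    · rfl
  map_smul' c x := by
    ext1
    · simp only [Prod.smul_fst, Prod.smul_snd, smul_add, smul_eq_mul, mul_smul, RingHom.id_apply]
    · rfl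
  left_inv x := by ext1 <;> simp
  right_inv x := by ext1 <;> simp

/-- Two representations which agree exactly at the group elements fixing a vector. -/
theorem exists_pair {U : Type v} [AddCommGroup U] [Module k U] {ρ₀ : Representation k (Pt k A) U}
    (hρ₀ : IsAlg ρ₀) (v : U) : ∃ ρ₁ ρ₂ : Representation k (Pt k A) (U × k),
      IsAlg ρ₁ ∧ IsAlg ρ₂ ∧ ∀ p, ρ₁ p = ρ₂ p ↔ ρ₀ p v = v := by
  let ρ₁ : Representation k (Pt k A) (U × k) := ρ₀.prod (Representation.trivial k (Pt k A) k)
  have hρ₁ : IsAlg ρ₁ := hρ₀.prod (fun f w => ⟨algebraMap k A (f w), fun g => by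
    rw [Pt.apply_algebraMap]; rfl⟩)
  let ρ₂ : Representation k (Pt k A) (U × k) :=
    { toFun := fun p => (tv v).toLinearMap ∘ₗ ρ₁ p ∘ₗ (tv v).symm.toLinearMap
      map_one' := by
        rw [map_one]
        apply LinearMap.ext
        intro x
        exact (tv v).apply_symm_apply x
      map_mul' := fun p q => by
        rw [map_mul]
        apply LinearMap.ext
        intro x
        change tv v (ρ₁ p (ρ₁ q ((tv v).symm x))) =
          tv v (ρ₁ p ((tv v).symm (tv v (ρ₁ q ((tv v).symm x)))))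
        rw [LinearEquiv.symm_apply_apply] }
  have hρ₂ : IsAlg ρ₂ := hρ₁.of_surjective (tv v).toLinearMap (tv v).surjective (fun g w => by
    change tv v (ρ₁ g w) = tv v (ρ₁ g ((tv v).symm (tv v w)))
    rw [LinearEquiv.symm_apply_apply])
  refine ⟨ρ₁, ρ₂, hρ₁, hρ₂, fun p => ?_⟩
  have key : ∀ x : U × k, ρ₂ p x = (ρ₀ p (x.1 - x.2 • v) + x.2 • v, x.2) := fun _ => rfl
  have key1 : ∀ x : U × k, ρ₁ p x = (ρ₀ p x.1, x.2) := fun _ => rfl
  constructor
  · intro h
    have h6 : ρ₁ p (0, 1) = ρ₂ p (0, 1) := by rw [h]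
    rw [key, key1] at h6
    have h9 := congrArg Prod.fst h6
    simp only [map_zero, one_smul, zero_sub, map_neg] at h9
    exact (neg_add_eq_zero.1 h9.symm)
  · intro h
    apply LinearMap.ext
    intro x
    rw [key, key1, map_sub, map_smul, h, sub_add_cancel]

/-- Homomorphisms to `GL_n` agreeing on the points of `H` agree on `H`. -/
lemma comp_eq_of_pt [IsAffine G.left] [Smooth G.hom] [Smooth H.hom] [IsClosedImmersion i.left]
    {n : ℕ} (r s : CoordGrp.GLn n k →ₐc[k] A)
    (h : ∀ p ∈ psub e i, ∀ l j, p (r (CoordGrp.GLn.X l j)) = p (s (CoordGrp.GLn.X l j))) :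
    i ≫ e.hom ≫ specMap k (r : CoordGrp.GLn n k →ₐ[k] A) = i ≫ e.hom ≫ specMap k (s : CoordGrp.GLn n k →ₐ[k] A) := by
  obtain ⟨C, _, _, e', _, φ, _, _, hφs, hφ⟩ := exists_hom_data e i
  have hir : ∀ (t : CoordGrp.GLn n k →ₐc[k] A),
      i ≫ e.hom ≫ specMap k (t : CoordGrp.GLn n k →ₐ[k] A) =
        e'.hom ≫ specMap k ((φ : A →ₐ[k] C).comp (t : CoordGrp.GLn n k →ₐ[k] A)) := by
    intro t
    rw [← Category.assoc, hφ, Category.assoc, specMap_comp]
  rw [hir, hir]
  refine congrArg (fun q => e'.hom ≫ specMap k q) (algHom_ext' fun l j => ?_)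
  rw [← sub_eq_zero]
  refine eq_zero_of_forall_algHom (K := k) (B := C) ?_
  intro q
  rw [map_sub, sub_eq_zero]
  have h2 : Pt.map (K := k) φ (WithConv.toConv q) ∈ psub e i := by
    rw [psub_eq_range e i e' φ hφ]
    exact ⟨_, rfl⟩
  exact h _ h2 l j

/-- Two homomorphisms to `GL_n` agreeing on `H`. -/
lemma eq_of_he [IsAffine G.left] [Smooth G.hom] [Smooth H.hom] [IsClosedImmersion i.left]
    (he : ∀ (G' : Over (Spec (CommRingCat.of k))) [GrpObj G'] [IsAffine G'.left] [Smooth G'.hom]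
        (r s : G ⟶ G') [IsMonHom r] [IsMonHom s], i ≫ r = i ≫ s → r = s)
    {n : ℕ} (r s : CoordGrp.GLn n k →ₐc[k] A)
    (h : ∀ p ∈ psub e i, ∀ l j, p (r (CoordGrp.GLn.X l j)) = p (s (CoordGrp.GLn.X l j))) :
    ∀ l j, r (CoordGrp.GLn.X l j) = s (CoordGrp.GLn.X l j) := by
  have hsm : Smooth (SpecOver k (CoordGrp.GLn n k)).hom :=
    (smooth_specOver_iff k _).2 (smooth_GLn k _)
  have haff : IsAffine (SpecOver k (CoordGrp.GLn n k)).left :=
    inferInstanceAs (IsAffine (Spec _))
  have hrm : IsMonHom (specMap k (r : CoordGrp.GLn n k →ₐ[k] A)) := isMonHom_specMap k r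
  have hsm' : IsMonHom (specMap k (s : CoordGrp.GLn n k →ₐ[k] A)) := isMonHom_specMap k s
  have hrm2 : IsMonHom (e.hom ≫ specMap k (r : CoordGrp.GLn n k →ₐ[k] A)) := inferInstance
  have hsm2 : IsMonHom (e.hom ≫ specMap k (s : CoordGrp.GLn n k →ₐ[k] A)) := inferInstance
  have h2 : e.hom ≫ specMap k (r : CoordGrp.GLn n k →ₐ[k] A) = e.hom ≫ specMap k (s : CoordGrp.GLn n k →ₐ[k] A) :=
    he (SpecOver k (CoordGrp.GLn n k)) (e.hom ≫ specMap k (r : CoordGrp.GLn n k →ₐ[k] A))
      (e.hom ≫ specMap k (s : CoordGrp.GLn n k →ₐ[k] A)) (comp_eq_of_pt e i r s h)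
  rw [cancel_epi] at h2
  have h3 : (r : CoordGrp.GLn n k →ₐ[k] A) = s := specMap_injective k h2
  intro l j
  exact DFunLike.congr_fun h3 (CoordGrp.GLn.X l j)

/-- (e) ⇒ (b) -/
lemma e_b [IsAffine G.left] [Smooth G.hom] [Smooth H.hom] [IsClosedImmersion i.left]
    (he : ∀ (G' : Over (Spec (CommRingCat.of k))) [GrpObj G'] [IsAffine G'.left] [Smooth G'.hom]
        (r s : G ⟶ G') [IsMonHom r] [IsMonHom s], i ≫ r = i ≫ s → r = s) :
    ∀ a ∈ rInv (psub e i : Set (Pt k A)), ∃ c : k, a = algebraMap k A c := by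
  intro a ha
  -- a finite-dimensional module containing `a`
  have : FiniteDimensional k (Submodule.span k {a}) := FiniteDimensional.span_singleton k a
  obtain ⟨U, hU1, hU2, hU3, -⟩ := exists_stable (K := k) (Submodule.span k {a})
  let v : U := ⟨a, hU2 (Submodule.mem_span_singleton_self a)⟩
  let ρ₀ : Representation k (Pt k A) U := (rTrRep k A).subrepresentation U hU3
  have hρ₀ : IsAlg ρ₀ := (isAlg_rTrRep k A).subrepresentation U hU3
  obtain ⟨ρ₁, ρ₂, hρ₁, hρ₂, hρ⟩ := exists_pair hρ₀ v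
  have hfix : ∀ p, ρ₀ p v = v ↔ rTr p a = a := fun p => Subtype.ext_iff
  clear_value ρ₀ v
  have hfd : Module.Finite k (U × k) := inferInstance
  obtain ⟨n, ⟨b⟩⟩ : ∃ n : ℕ, Nonempty (Module.Basis (Fin n) k (U × k)) :=
    ⟨_, ⟨Module.finBasis k (U × k)⟩⟩
  obtain ⟨r, hr⟩ := exists_glHom hρ₁ b
  obtain ⟨s, hs⟩ := exists_glHom hρ₂ b
  have h3 := eq_of_he e i he r s (fun p hp l j => by
    rw [hr, hs, (hρ _).2 ((hfix _).2 (mem_rInv_iff_rTr.1 ha _ hp))])
  have h4 : ∀ p, ρ₁ p = ρ₂ p := by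
    intro p
    apply b.ext
    intro j
    apply b.repr.injective
    ext l
    have h5 := hr p l j
    have h6 := hs p l j
    rw [h3, h6] at h5
    exact h5.symm
  refine ⟨(1 : Pt k A) a, eq_of_forall_pt (K := k) fun p => ?_⟩
  rw [Pt.apply_algebraMap]
  conv_rhs => rw [← (hfix p).1 ((hρ p).1 (h4 p)), rTr_apply_pt, _root_.one_mul]

end main

section be

variable {k : Type u} [CommRing k] {G H G' : Over (Spec (CommRingCat.of k))} [GrpObj G] [GrpObj H]
  [GrpObj G'] (i : H ⟶ G) [IsMonHom i]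

/-- (b) ⇒ (e) -/
lemma b_e [IsAffine G'.left] (r s : G ⟶ G') [IsMonHom r] [IsMonHom s]
    (hb : ∀ f : Γ(G.left, ⊤), ((G ◁ i) ≫ μ[G]).left.appTop f = (fst G H).left.appTop f →
        ∃ c : k, f = G.hom.appTop ((Scheme.ΓSpecIso (CommRingCat.of k)).inv c))
    (h : i ≫ r = i ≫ s) : r = s := by
  let d : G ⟶ G' := s * r⁻¹
  have h1 : ((G ◁ i) ≫ μ[G]) ≫ d = fst G H ≫ d := by
    have h2 : (G ◁ i) ≫ μ[G] = fst G H * (snd G H ≫ i) := by
      rw [Hom.mul_def]
      congr 1
    rw [h2]
    change (fst G H * (snd G H ≫ i)) ≫ (s * r⁻¹) = fst G H ≫ (s * r⁻¹)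
    rw [MonObj.comp_mul, MonObj.comp_mul, GrpObj.comp_inv, GrpObj.comp_inv, MonObj.mul_comp,
      MonObj.mul_comp, Category.assoc, Category.assoc, h, _root_.mul_inv_rev, ← _root_.mul_assoc,
      mul_inv_cancel_right]
  have h2 : d = toUnit G ≫ η[G] ≫ d := by
    apply Over.OverMorphism.ext
    apply ext_of_isAffine
    apply CommRingCat.hom_ext
    apply RingHom.ext
    intro F
    obtain ⟨c, hc⟩ := hb (d.left.appTop F) (by
      have h3 := congrArg (fun q => q.left.appTop.hom F) h1
      simp only [Over.comp_left, Scheme.Hom.comp_appTop, CommRingCat.hom_comp, RingHom.comp_apply] at h3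
      exact h3)
    have h4 : (toUnit G).left ≫ (𝟙_ (Over (Spec (CommRingCat.of k)))).hom = G.hom := Over.w _
    have h5 : η[G].left ≫ G.hom = (𝟙_ (Over (Spec (CommRingCat.of k)))).hom := Over.w _
    have h6 : d.left.appTop.hom F = G.hom.appTop.hom ((Scheme.ΓSpecIso (CommRingCat.of k)).inv.hom c) := hc
    change d.left.appTop.hom F = (toUnit G ≫ η[G] ≫ d).left.appTop.hom F
    have h7 : (toUnit G ≫ η[G] ≫ d).left.appTop.hom F =
        (toUnit G).left.appTop.hom (η[G].left.appTop.hom (d.left.appTop.hom F)) := by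
      simp only [Over.comp_left, Scheme.Hom.comp_appTop, CommRingCat.hom_comp, RingHom.comp_apply]
    have h8 : ∀ x, η[G].left.appTop.hom (G.hom.appTop.hom x) =
        (𝟙_ (Over (Spec (CommRingCat.of k)))).hom.appTop.hom x := by
      intro x
      have := congrArg (fun q => q.appTop.hom x) h5
      simp only [Scheme.Hom.comp_appTop, CommRingCat.hom_comp, RingHom.comp_apply] at this
      exact this
    have h9 : ∀ x, (toUnit G).left.appTop.hom
        ((𝟙_ (Over (Spec (CommRingCat.of k)))).hom.appTop.hom x) = G.hom.appTop.hom x := by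
      intro x
      have := congrArg (fun q => q.appTop.hom x) h4
      simp only [Scheme.Hom.comp_appTop, CommRingCat.hom_comp, RingHom.comp_apply] at this
      exact this
    rw [h7, h6, h8, h9]
  have h3 : η[G] ≫ d = 1 := by
    have h4 : η[G] = (1 : 𝟙_ (Over (Spec (CommRingCat.of k))) ⟶ G) := by
      rw [Hom.one_def, toUnit_unit, Category.id_comp]
    change η[G] ≫ (s * r⁻¹) = 1
    rw [h4, MonObj.comp_mul, GrpObj.comp_inv, MonObj.one_comp, MonObj.one_comp, inv_one,
      _root_.mul_one]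
  rw [h3, MonObj.comp_one] at h2
  have h4 : s * r⁻¹ = 1 := h2
  exact (mul_inv_eq_one.1 h4).symm

end be

end

end K498.Epi
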