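import Groth.Agent.AGF.K496.FinDim
import Groth.Agent.AGF.K496.URDict
import Groth.Agent.AGF.K498.Epi
import Groth.Agent.AGF.K497.URadPt
import Groth.Agent.Sga3B.RG.ConjTori
import Groth.Agent.Sga3B.RG.BrRed2
import Groth.Agent.Sga3B.RG.BrTorus

/-!
# Semi-invariant functions on reductive groups under a Borel subgroup
-/

set_option autoImplicit false
set_option linter.unusedSectionVars false

universe u v

open CategoryTheory MonoidalCategory CartesianMonoidalCategory MonObj GrpObj AlgebraicGeometry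
open scoped TensorProduct

namespace K498.SemiInv

open Groth.Agent.Books.AffBridge Groth.Agent.Books.AffBridge2
open Groth.Agent.Sga3B.RG Groth.Agent.Sga3B.RG.BrPts K495.ObsPt K495.Bridge K495.GModPt
open Groth.Agent.Sga3B.Parab.BorelPts172 K496.Semi K496.GrossPt

section fns

variable {k : Type u} [Field k] [IsAlgClosed k]

lemma ev_mul {B : Type u} [CommRing B] [Algebra k B] {X : Over (Spec (CommRingCat.of k))}
    (g : VecGrp.pt k B ⟶ X) (a b : Γ(X.left, ⊤)) : ev g (a * b) = ev g a * ev g b := by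
  rw [ev, ev, ev, map_mul, map_mul]

/-- Right semi-invariance on rational points. -/
theorem semiR_iff {G T : Over (Spec (CommRingCat.of k))} [GrpObj G] [IsAffine G.left]
    [IsAffine T.left] [Smooth G.hom] [Smooth T.hom] (g : T ⟶ G) (f : Γ(G.left, ⊤))
    (w : Γ(T.left, ⊤)) :
    ((G ◁ g) ≫ μ[G]).left.appTop f = (fst G T).left.appTop f * (snd G T).left.appTop w ↔
      ∀ (x : VecGrp.pt k k ⟶ G) (t : VecGrp.pt k k ⟶ T),
        ev (x * (t ≫ g)) f = ev x f * ev t w := by
  have hred : AlgebraicGeometry.IsReduced (G ⊗ T).left :=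
    Groth.Agent.Books.AlgPtsSmooth.isReduced_of_smooth (G ⊗ T)
  constructor
  · intro h x t
    have h1 : x * (t ≫ g) = lift x t ≫ (G ◁ g) ≫ μ[G] := by
      rw [← Category.assoc, lift_whiskerLeft]
      rfl
    rw [h1, ev_comp, h, ev_mul, ← ev_comp, ← ev_comp, lift_fst, lift_snd]
  · intro h
    apply section_ext
    intro z
    rw [ev_mul, ← ev_comp, ← ev_comp, ← ev_comp]
    have h1 := h (z ≫ fst G T) (z ≫ snd G T)
    have h2 : (z ≫ fst G T) * ((z ≫ snd G T) ≫ g) = z ≫ (G ◁ g) ≫ μ[G] := by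
      have h3 : z = lift (z ≫ fst G T) (z ≫ snd G T) := by
        rw [← comp_lift, lift_fst_snd, Category.comp_id]
      conv_rhs => rw [h3, ← Category.assoc, lift_whiskerLeft]
      rfl
    rw [h2] at h1
    exact h1

/-- Left invariance on rational points. -/
theorem invL_iff {G T : Over (Spec (CommRingCat.of k))} [GrpObj G] [IsAffine G.left]
    [IsAffine T.left] [Smooth G.hom] [Smooth T.hom] (g : T ⟶ G) (f : Γ(G.left, ⊤)) :
    ((g ▷ G) ≫ μ[G]).left.appTop f = (snd T G).left.appTop f ↔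
      ∀ (x : VecGrp.pt k k ⟶ G) (t : VecGrp.pt k k ⟶ T), ev ((t ≫ g) * x) f = ev x f := by
  have hred : AlgebraicGeometry.IsReduced (T ⊗ G).left :=
    Groth.Agent.Books.AlgPtsSmooth.isReduced_of_smooth (T ⊗ G)
  constructor
  · intro h x t
    have h1 : (t ≫ g) * x = lift t x ≫ (g ▷ G) ≫ μ[G] := by
      rw [← Category.assoc, lift_whiskerRight]
      rfl
    have h2 : x = lift t x ≫ snd T G := (lift_snd t x).symm
    rw [h1, ev_comp]
    conv_rhs => rw [h2, ev_comp]
    exact congrArg _ h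
  · intro h
    apply section_ext
    intro z
    rw [← ev_comp, ← ev_comp]
    have h1 := h (z ≫ snd T G) (z ≫ fst T G)
    have h2 : ((z ≫ fst T G) ≫ g) * (z ≫ snd T G) = z ≫ (g ▷ G) ≫ μ[G] := by
      have h3 : z = lift (z ≫ fst T G) (z ≫ snd T G) := by
        rw [← comp_lift, lift_fst_snd, Category.comp_id]
      conv_rhs => rw [h3, ← Category.assoc, lift_whiskerRight]
      rfl
    rw [h2] at h1
    exact h1

end fns

section pts

variable {K : Type u} [Field K] [IsAlgClosed K] {A : Type u} [CommRing A] [HopfAlgebra K A]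
  [Algebra.FiniteType K A] [IsDomain A]

/-- Functions semi-invariant under right translation by a group mapping to a Borel subgroup and
invariant under its unipotent elements. -/
def E (B : Subgroup (Pt K A)) {T : Type v} [Group T] (j : T →* Pt K A) (w : T → K) :
    Submodule K A where
  carrier := {f | (∀ x : Pt K A, ∀ u ∈ B, IsUnip u → (x * u) f = x f) ∧
    ∀ (x : Pt K A) (t : T), (x * j t) f = x f * w t}
  add_mem' := by
    rintro a b ⟨ha, ha'⟩ ⟨hb, hb'⟩
    refine ⟨fun x u hu hu' => ?_, fun x t => ?_⟩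
    · rw [Pt.apply_add, Pt.apply_add, ha x u hu hu', hb x u hu hu']
    · rw [Pt.apply_add, Pt.apply_add, ha' x t, hb' x t, add_mul]
  zero_mem' := by
    refine ⟨fun x u hu hu' => ?_, fun x t => ?_⟩
    · rw [Pt.apply_zero, Pt.apply_zero]
    · rw [Pt.apply_zero, Pt.apply_zero, zero_mul]
  smul_mem' := by
    rintro c a ⟨ha, ha'⟩
    refine ⟨fun x u hu hu' => ?_, fun x t => ?_⟩
    · rw [Pt.apply_smul, Pt.apply_smul, ha x u hu hu']
    · rw [Pt.apply_smul, Pt.apply_smul, ha' x t, _root_.mul_assoc]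

variable {B : Subgroup (Pt K A)} (hB : IsBorelPt B) {T : Type v} [Group T] (j : T →* Pt K A)
  (hj : ∀ t, j t ∈ B) (hTB : ∀ b ∈ B, ∃ t, ∃ u ∈ B, IsUnip u ∧ b = j t * u) (w : T → K)

include hB in
lemma lft_eq_one {u : Pt K A} (hu : u ∈ B) (hu' : IsUnip u)
    (χ : GroupLike K (A ⧸ vanIdeal (B : Set (Pt K A)))) : u (lft B χ) = 1 := by
  have htrig := isTrig_of_isCCS hB.toIsCCS
  obtain ⟨x, rfl⟩ := exists_quotMap_eq hB.isCl hu
  rw [quotMap_lft]
  have h2 : quotMap (vanIdeal (B : Set (Pt K A))) x =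
      Pt.map (Bialgebra.Quotient.mkBialgHom (R := K) (vanIdeal (B : Set (Pt K A)))) x := rfl
  rw [h2] at hu'
  have h1 : IsUnip x := (isUnip_map_iff
    (φ := Bialgebra.Quotient.mkBialgHom (R := K) (vanIdeal (B : Set (Pt K A))))
    Ideal.Quotient.mk_surjective).1 hu'
  exact (Trig.isUnip_iff htrig x).1 h1 χ

omit [Algebra.FiniteType K A] [IsDomain A] [IsAlgClosed K] in
/-- A nonzero semi-invariant determines a character. -/
lemma isHom_of_mem {f : A} {x : Pt K A} (hx : x f ≠ 0)
    (hf : ∀ (x : Pt K A) (t : T), (x * j t) f = x f * w t) :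
    w 1 = 1 ∧ ∀ t t', w (t * t') = w t * w t' := by
  refine ⟨?_, fun t t' => ?_⟩
  · have h1 := hf x 1
    rw [map_one, _root_.mul_one] at h1
    exact (mul_left_cancel₀ hx (by rw [_root_.mul_one]; exact h1)).symm
  · have h1 := hf x (t * t')
    rw [map_mul, ← _root_.mul_assoc, hf, hf] at h1
    exact (mul_left_cancel₀ hx (by rw [← h1]; ring))

include hB hj hTB in
/-- The space of semi-invariants for a character of a maximal torus is contained in the space of
semi-invariants for a character of the Borel subgroup. -/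
theorem exists_E_le (h0 : E B j w ≠ ⊥) :
    ∃ χ : GroupLike K (A ⧸ vanIdeal (B : Set (Pt K A))), (∀ t, (j t) (lft B χ) = w t) ∧
      E B j w ≤ S B χ := by
  classical
  obtain ⟨f, ⟨hf, hf'⟩, hf0⟩ := Submodule.exists_mem_ne_zero_of_ne_bot h0
  obtain ⟨x, hx⟩ : ∃ x : Pt K A, x f ≠ 0 := by
    by_contra! h
    exact hf0 (eq_zero_of_forall_pt h)
  obtain ⟨hw1, hw2⟩ := isHom_of_mem j w hx hf'
  let w' : T →* K :=
    { toFun := w
      map_one' := hw1
      map_mul' := hw2 }
  obtain ⟨s, c, hc, hfs⟩ := exists_decomp hB.isCl hB.isConn (isTrig_of_isCCS hB.toIsCCS) hf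
  have hχ : ∃ χ ∈ s, ∀ t, (j t) (lft B χ) = w t := by
    by_contra! hcon
    let q : GroupLike K (A ⧸ vanIdeal (B : Set (Pt K A))) → (T →* K) := fun χ =>
      (chr hB.isCl χ).comp (j.codRestrict B hj)
    have h1 := (linearIndependent_monoidHom T K).notMem_span_image
      (s := q '' (s : Set (GroupLike K (A ⧸ vanIdeal (B : Set (Pt K A)))))) (x := w') ?_
    · apply h1
      have h2 : (w' : T → K) = (x f)⁻¹ • ∑ χ ∈ s, x (c χ) • (q χ : T → K) := by
        funext t
        have h3 : (x * j t) f = ∑ χ ∈ s, x (c χ) * (j t) (lft B χ) := by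
          conv_lhs => rw [hfs, Pt.apply_sum]
          exact Finset.sum_congr rfl fun χ hχ => hc χ hχ x (j t) (hj t)
        rw [hf'] at h3
        have h4 : (w' : T → K) t = w t := rfl
        rw [h4, Pi.smul_apply, Finset.sum_apply, smul_eq_mul, eq_inv_mul_iff_mul_eq₀ hx, h3]
        rfl
      rw [h2]
      exact Submodule.smul_mem _ _ (Submodule.sum_mem _ fun χ hχ =>
        Submodule.smul_mem _ _ (Submodule.subset_span ⟨q χ, ⟨χ, hχ, rfl⟩, rfl⟩))
    · rintro ⟨χ, hχ, h⟩
      obtain ⟨t, ht⟩ := hcon χ hχ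
      exact ht (DFunLike.congr_fun h t)
  obtain ⟨χ, hχ, hχw⟩ := hχ
  refine ⟨χ, hχw, ?_⟩
  rintro g ⟨hg, hg'⟩ x b hb
  obtain ⟨t, u, hu, hu', rfl⟩ := hTB b hb
  rw [← _root_.mul_assoc, hg _ u hu hu', hg', lft_mul_pt hB.isCl (hj t) hu, lft_eq_one hB hu hu',
    _root_.mul_one, hχw]

include hB hj hTB in
/-- **The spaces of semi-invariants are finite-dimensional.** -/
theorem finite_E : Module.Finite K (E B j w) := by
  by_cases h0 : E B j w = ⊥
  · rw [h0]; infer_instance
  · obtain ⟨χ, -, hle⟩ := exists_E_le hB j hj hTB w h0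
    have := K496.FinDim.finiteDimensional_S hB χ
    exact Submodule.finiteDimensional_of_le hle

end pts

section schemes

variable {k : Type u} [Field k] [IsAlgClosed k] {A : Type u} [CommRing A] [HopfAlgebra k A]
  [Algebra.FiniteType k A] [_root_.IsReduced A]
  {G : Over (Spec (CommRingCat.of k))} [GrpObj G] (e : G ≅ SpecOver k A) [IsMonHom e.hom]

/-- A Borel subgroup is the product of a maximal torus and its unipotent elements. -/
theorem exists_mul [IsAffine G.left] [Smooth G.hom] {Bo : Over (Spec (CommRingCat.of k))}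
    [GrpObj Bo] {iB : Bo ⟶ G} (hB : Red.IsBorelOver k iB) [IsMonHom iB]
    {T : Over (Spec (CommRingCat.of k))} [GrpObj T] (t : T ⟶ Bo) [IsMonHom t]
    (hT : AGF.IsMaxTorus (t ≫ iB)) {b : Pt k A} (hb : b ∈ psub e iB) :
    ∃ y : VecGrp.pt k k ⟶ T, ∃ u ∈ psub e iB, IsUnip u ∧ b = ptE e k (y ≫ t ≫ iB) * u := by
  have hBcl := hB.2.1
  have hBsm := hB.2.2.1
  have hBconn := hB.2.2.2.1
  obtain ⟨C, _, _, e', he', φ, hft, hred, hφ, hi⟩ := exists_hom_data e iB
  have haff : IsAffine Bo.left := isAffine_of_isAffineHom iB.left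
  have hBpt : IsBorelPt (psub e iB) := by
    rw [K496.URDict.psub_eq_ptsSub]
    exact Groth.Agent.Agf.H614.AlgDict.isBorelPt e hB
  have hrange : psub e iB = (Pt.map φ).range := psub_eq_range e iB e' φ hi
  have hdom : IsDomain C := by
    have h1 : Smooth (SpecOver k C).hom := Groth.Agent.Agf.H614.AlgDict.smooth_of_iso e'
    refine (isDomain_iff (K := k) C).1 ⟨h1, ?_⟩
    have h2 : IsIso e'.hom.left := (Over.forget _).map_isIso e'.hom
    exact (Scheme.homeoOfIso (asIso e'.hom.left)).surjective.connectedSpace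
      (Scheme.homeoOfIso (asIso e'.hom.left)).continuous
  have hsol : Group.IsSolvable (Pt k C) := by
    have h1 := hBpt.isSolvable
    rw [hrange] at h1
    exact Group.isSolvable_of_isSolvable_injective (f := (Pt.map φ).rangeRestrict)
      fun x y hxy => Pt.map_injective hφ (congrArg Subtype.val hxy)
  have htrig : Trig.IsTrig k C :=
    Trig.isTrig_of_simple fun V _ _ _ ρ hρ hs => SolvLine.finrank_eq_one hsol hρ hs
  -- the maximal torus
  obtain ⟨-, hTm, hTt, hTmax⟩ := hT
  have hmB : Mono iB := Groth.Agent.Books.AlgPtsGrp.mono_of_isClosedImmersion _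
  have hmt : Mono t := mono_of_mono t iB
  have h1 : IsMaxTorusSub (ptsSub (t ≫ e'.hom)) := by
    rw [BrTorus.isMaxTorusSub_iff (t ≫ e'.hom) hTt]
    intro T' _ j _ _ f hT' hf
    refine hTmax T' (j ≫ e'.inv ≫ iB) f hT' ?_
    rw [← Category.assoc, hf, Category.assoc, Iso.hom_inv_id_assoc]
  obtain ⟨T₀, hT₀, -, hdec⟩ := TrigTorus.exists_torus htrig
  obtain ⟨g, hg⟩ := ConjTori.exists_conj_of_isMaxTorusSub h1 hT₀
  rw [hrange] at hb
  obtain ⟨y, rfl⟩ := hb
  obtain ⟨s, hs, u, hu, hy⟩ := hdec (g * y * g⁻¹)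
  rw [← hg] at hs
  obtain ⟨s', hs', rfl⟩ := hs
  rw [← K497.URadPt.psub_eq_ptsSub e' t] at hs'
  obtain ⟨h, hh⟩ := hs'
  have hu' : IsUnip (g⁻¹ * u * g) := by
    have := ((Trig.isUnip_iff htrig u).2 hu).conj g⁻¹
    rwa [_root_.inv_inv] at this
  refine ⟨h, Pt.map φ (g⁻¹ * u * g), ?_, BrRed.isUnip_map φ hu', ?_⟩
  · rw [hrange]; exact ⟨_, rfl⟩
  · have h2 : y = s' * (g⁻¹ * u * g) := by
      have h3 : y = g⁻¹ * (g * y * g⁻¹) * g := by group
      rw [h3, hy]
      change g⁻¹ * ((g * s' * g⁻¹) * u) * g = _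
      group
    have h4 : ptE e k (h ≫ t ≫ iB) = Pt.map φ s' := by
      rw [← Category.assoc, ptE_comp e e' iB φ hi, ← hh]
      rfl
    rw [h4, ← map_mul, ← h2]

variable [IsDomain A] [IsAffine G.left] [Smooth G.hom]
    {Bo : Over (Spec (CommRingCat.of k))} [GrpObj Bo] {iB : Bo ⟶ G} (hB : Red.IsBorelOver k iB)
    [IsMonHom iB]
    {U : Over (Spec (CommRingCat.of k))} [GrpObj U] {u : U ⟶ Bo} (hU : Par.IsUnipotentRadical u)
    [IsMonHom u]
    {T : Over (Spec (CommRingCat.of k))} [GrpObj T] (t : T ⟶ Bo) [IsMonHom t]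

/-- The homomorphism of groups of rational points. -/
noncomputable def hom : (VecGrp.pt k k ⟶ T) →* Pt k A where
  toFun y := ptE e k (y ≫ t ≫ iB)
  map_one' := by rw [MonObj.one_comp, map_one]
  map_mul' x y := by rw [MonObj.mul_comp, map_mul]

include hB hU in
/-- The semi-invariant functions in terms of points. -/
theorem mem_E_iff [IsAffine T.left] [Smooth T.hom] (w : Γ(T.left, ⊤)) (f : Γ(G.left, ⊤)) :
    (((G ◁ (u ≫ iB)) ≫ μ[G]).left.appTop f = (fst G U).left.appTop f ∧
      ((G ◁ (t ≫ iB)) ≫ μ[G]).left.appTop f = (fst G T).left.appTop f * (snd G T).left.appTop w) ↔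
    fn e f ∈ E (psub e iB) (hom e (iB := iB) t) (fun y => ev y w) := by
  have hBcl := hB.2.1
  have hBsm := hB.2.2.1
  have hUcl := hU.2.1
  have hUsm := hU.2.2.2.1
  have haffB : IsAffine Bo.left := isAffine_of_isAffineHom iB.left
  have haffU : IsAffine U.left := isAffine_of_isAffineHom u.left
  refine and_congr ?_ ?_
  · refine Iff.trans (isRTransInv_iff_mem e (u ≫ iB) f) ?_
    constructor
    · intro h x v hv hv'
      exact h x v ((K496.URDict.mem_psub_iff e hB hU v).2 ⟨hv, hv'⟩)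
    · intro h x v hv
      obtain ⟨hv1, hv2⟩ := (K496.URDict.mem_psub_iff e hB hU v).1 hv
      exact h x v hv1 hv2
  · rw [semiR_iff]
    constructor
    · intro h x y
      have h1 := h ((ptE e k).symm x) y
      rw [ev_fn e, ev_fn e, map_mul, MulEquiv.apply_symm_apply] at h1
      exact h1
    · intro h x y
      rw [ev_fn e, ev_fn e, map_mul]
      exact h _ _

include e hB hU in
omit [_root_.IsReduced A] in
theorem exists_finset [IsAffine T.left] [Smooth T.hom] (hT : AGF.IsMaxTorus (t ≫ iB))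
    (w : Γ(T.left, ⊤)) :
    ∃ s : Finset Γ(G.left, ⊤), ∀ f : Γ(G.left, ⊤),
      ((G ◁ (u ≫ iB)) ≫ μ[G]).left.appTop f = (fst G U).left.appTop f →
      ((G ◁ (t ≫ iB)) ≫ μ[G]).left.appTop f = (fst G T).left.appTop f * (snd G T).left.appTop w →
        ∃ c : Γ(G.left, ⊤) → k,
          f = ∑ g ∈ s, G.hom.appTop ((Scheme.ΓSpecIso (CommRingCat.of k)).inv (c g)) * g := by
  classical
  have hBcl := hB.2.1
  have hBsm := hB.2.2.1
  have hBpt : IsBorelPt (psub e iB) := by
    rw [K496.URDict.psub_eq_ptsSub]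
    exact Groth.Agent.Agf.H614.AlgDict.isBorelPt e hB
  have hfin := finite_E hBpt (hom e (iB := iB) t)
    (fun y => by
      refine ⟨y ≫ t, ?_⟩
      rw [Category.assoc]
      rfl)
    (fun b hb => exists_mul e hB t hT hb) (fun y => ev y w)
  obtain ⟨s, hs⟩ := Module.Finite.iff_fg.1 hfin
  refine ⟨s.image (fn e).symm, fun f hf hf' => ?_⟩
  have h1 : fn e f ∈ Submodule.span k (s : Set A) := by
    rw [hs]
    exact (mem_E_iff e hB hU t w f).1 ⟨hf, hf'⟩
  obtain ⟨c, -, hc⟩ := Submodule.mem_span_finset.1 h1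
  refine ⟨fun g => c (fn e g), ?_⟩
  rw [Finset.sum_image fun x _ y _ h => (fn e).symm.injective h]
  apply (fn e).injective
  rw [← hc, map_sum]
  refine Finset.sum_congr rfl fun a _ => ?_
  rw [map_mul, K498.Epi.fn_const, Algebra.smul_def]
  dsimp only
  rw [RingEquiv.apply_symm_apply]

end schemes

end K498.SemiInv
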