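import Groth.Agent.AGF.K498.DomWt4
import Groth.Agent.AGF.K498.SemiInv
import Groth.Agent.AGF.K496.GrossPt
import Groth.Agent.Sga3B.RG.PbKB703
import Groth.Agent.Sga3B.Parab.OppK172

/-!
# Highest weight functions
-/

set_option autoImplicit false
set_option linter.unusedSectionVars false

universe u w

open WithConv TensorProduct Coalgebra Module
open scoped LaurentPolynomial

namespace K498.DomWt5

open Groth.Agent.Sga3B.RG Groth.Agent.Sga3B.RG.PbPsi K498.DomWt1 K498.LieKol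
open Groth.Agent.Sga3B.RG.CentralPt Groth.Agent.Books.DynLim Groth.Agent.Books.DynBasic
open Groth.Agent.Sga3B.Parab Groth.Agent.Sga3B.Parab.BorelPts172 Groth.Agent.Sga3B.Parab.SolvPts172

variable {K : Type u} [Field K] [IsAlgClosed K] {A : Type u} [CommRing A] [HopfAlgebra K A]
  [Algebra.FiniteType K A]

section

variable [_root_.IsReduced A] {M : Type} [AddCommGroup M] (p : A →ₐc[K] MonoidAlgebra K (Multiplicative M)) (l : M →+ ℤ)

/-- Unipotent elements of `P(λ)`, `Z(λ)` the torus, lie in `U(λ)`. -/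
theorem mem_Usub_of_isUnip (hp : Function.Surjective p)
    (hZ : ∀ z ∈ Zsub (co p l), ∃ τ, tp p τ = z) {b : Pt K A} (hb : b ∈ Psub (co p l))
    (hu : IsUnip b) : b ∈ Usub (co p l) := by
  have hK : Infinite K := IsAlgClosed.instInfinite
  set lam := co p l with hlam
  obtain ⟨τ, hτ⟩ := hZ _ (limPt_mem_Zsub lam hb)
  have hval : ∀ (c : M) (ch : A), p ch = MonoidAlgebra.single (Multiplicative.ofAdd c) 1 →
      ∀ b' (hb' : b' ∈ Psub lam) (τ : Multiplicative M →* Kˣ), limPt lam b' hb' = tp p τ →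
      b' (pr lam 0 ch) = (τ (Multiplicative.ofAdd c) : K) := by
    intro c ch hch b' hb' τ hτ
    rw [← limPt_apply lam hb', hτ, tp_apply, Pt.map_apply, hch, torPt_apply,
      MonoidAlgebra.coeff_single, Finsupp.sum_single_index (by rw [zero_mul]), one_mul,
      torChar_apply]
  have hone : τ = 1 := by
    ext m
    obtain ⟨ch, hch⟩ := hp (MonoidAlgebra.single (Multiplicative.ofAdd m) 1)
    have hchar : IsChar (k := K) (Ideal.Quotient.mk (vanIdeal (Psub lam : Set (Pt K A)))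
        (pr lam 0 ch)) := by
      have h0 : ∀ x : Pt K (A ⧸ vanIdeal (Psub lam : Set (Pt K A))),
          quotMap (vanIdeal (Psub lam : Set (Pt K A))) x ∈ Psub lam := fun x =>
        quotMap_mem (isCl_Psub lam) x
      have h1 : ∀ x : Pt K (A ⧸ vanIdeal (Psub lam : Set (Pt K A))),
          x (Ideal.Quotient.mk (vanIdeal (Psub lam : Set (Pt K A))) (pr lam 0 ch)) =
            quotMap (vanIdeal (Psub lam : Set (Pt K A))) x (pr lam 0 ch) := fun x => rfl
      refine ⟨?_, fun x y => ?_⟩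
      · rw [h1, map_one, hval m ch hch 1 (one_mem _) 1
          (by rw [map_one]; exact (limPt_eq_one_iff lam (one_mem _)).2 (one_mem _))]
        rfl
      · obtain ⟨τ₁, h₁⟩ := hZ _ (limPt_mem_Zsub lam (h0 x))
        obtain ⟨τ₂, h₂⟩ := hZ _ (limPt_mem_Zsub lam (h0 y))
        rw [h1, h1, h1, map_mul, hval m ch hch _ (h0 x) τ₁ h₁.symm,
          hval m ch hch _ (h0 y) τ₂ h₂.symm, hval m ch hch _ (mul_mem (h0 x) (h0 y)) (τ₁ * τ₂)
          (by rw [limPt_mul lam (h0 x) (h0 y), map_mul, h₁, h₂])]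
        rw [MonoidHom.mul_apply, Units.val_mul]
    obtain ⟨x, hx⟩ := exists_quotMap_eq (isCl_Psub lam) hb
    have h2 : quotMap (vanIdeal (Psub lam : Set (Pt K A))) x =
        Pt.map (Bialgebra.Quotient.mkBialgHom (R := K) (vanIdeal (Psub lam : Set (Pt K A)))) x := rfl
    have h3 : IsUnip x := by
      rw [← hx, h2] at hu
      exact (isUnip_map_iff
        (φ := Bialgebra.Quotient.mkBialgHom (R := K) (vanIdeal (Psub lam : Set (Pt K A))))
        Ideal.Quotient.mk_surjective).1 hu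
    have h4 := hchar.eq_one h3
    have h5 : x (Ideal.Quotient.mk (vanIdeal (Psub lam : Set (Pt K A))) (pr lam 0 ch)) =
            quotMap (vanIdeal (Psub lam : Set (Pt K A))) x (pr lam 0 ch) := rfl
    rw [h5, hx, hval m ch hch b hb τ hτ.symm] at h4
    exact h4
  rw [hone, map_one] at hτ
  exact (limPt_eq_one_iff lam hb).1 hτ.symm

variable [IsDomain A]

/-- **Uniqueness of highest weight functions.** -/
theorem uniq (hp : Function.Surjective p) (hZ : ∀ z ∈ Zsub (co p l), ∃ τ, tp p τ = z)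
    (hB : IsBorelPt (Psub (co p l))) {c : M} {f f' : A} (hf : f ∈ Semi p l c)
    (hf' : f' ∈ Semi p l c) (hf0 : f ≠ 0)
    (hU : ∀ u ∈ Usub (co p l), ∀ x : Pt K A, (u * x) f = x f)
    (hU' : ∀ u ∈ Usub (co p l), ∀ x : Pt K A, (u * x) f' = x f') : ∃ r : K, f' = r • f := by
  have hK : Infinite K := IsAlgClosed.instInfinite
  set lam := co p l with hlam
  -- the opposite group
  have hsol : Group.IsSolvable (Zsub (invCoch lam)) := by
    rw [OppK172.Zsub_invCoch, isSolvable_iff_ds]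
    refine ⟨1, ?_⟩
    change ⁅Zsub lam, Zsub lam⁆ = ⊥
    rw [Subgroup.commutator_eq_bot_iff_le_centralizer]
    intro x hx
    refine Subgroup.mem_centralizer_iff.2 fun y hy => ?_
    obtain ⟨τ, rfl⟩ := hZ x hx
    obtain ⟨τ', rfl⟩ := hZ y hy
    rw [← map_mul, ← map_mul, mul_comm τ' τ]
  obtain ⟨g, hg⟩ := hB.exists_conj_le (PbKB703.isCCS_Psub hsol)
  -- the unipotent elements
  have hconj : ∀ v ∈ Usub (invCoch lam), g * v * g⁻¹ ∈ Usub lam := by
    intro v hv
    have h1 : g * v * g⁻¹ ∈ Psub lam := by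
      exact hg ⟨v, Usub_le_Psub _ hv, rfl⟩
    refine mem_Usub_of_isUnip p l hp hZ h1 ?_
    exact (isUnip_of_mem_Usub hv).conj g
  have key : ∀ f₁ ∈ Semi p l c, (∀ u ∈ Usub (co p l), ∀ x : Pt K A, (u * x) f₁ = x f₁) →
      ∀ v ∈ Usub (invCoch lam), ∀ b ∈ Psub lam, ∀ τ : Multiplicative M →* Kˣ,
      (∃ u' ∈ Usub lam, b = tp p τ * u') →
      (g * (v * b)) f₁ = g f₁ * (τ (Multiplicative.ofAdd c) : K) := by
    rintro f₁ hf₁ hf₁' v hv b hb τ ⟨u', hu', rfl⟩
    have h1 : g * (v * (tp p τ * u')) = (g * v * g⁻¹) * (g * tp p τ * u') := by group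
    rw [h1, hf₁' _ (hconj v hv), hf₁.1 _ u' hu', hf₁.2]
  have hdec : ∀ b ∈ Psub lam, ∃ τ : Multiplicative M →* Kˣ, ∃ u ∈ Usub lam, b = tp p τ * u := by
    intro b hb
    obtain ⟨τ, hτ⟩ := hZ _ (limPt_mem_Zsub lam hb)
    refine ⟨τ, _, limPt_inv_mul_mem lam hb, ?_⟩
    rw [hτ, mul_inv_cancel_left]
  have hz : ∀ f₁ : A, (∀ v ∈ Usub (invCoch lam), ∀ b ∈ Psub lam, (g * (v * b)) f₁ = 0) →
      f₁ = 0 := by
    intro f₁ h
    refine eq_zero_of_forall_pt (K := K) fun x => ?_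
    have h1 := TopVec.eq_zero_of_cell (lam := lam) (a := lTr g⁻¹ f₁) (fun u hu b hb => by
      rw [lTr_apply_pt, inv_inv]; exact h u hu b hb) (g⁻¹ * x)
    rwa [lTr_apply_pt, inv_inv, mul_inv_cancel_left] at h1
  have hne : g f ≠ 0 := by
    intro h0
    apply hf0
    refine hz f fun v hv b hb => ?_
    obtain ⟨τ, u', hu', hbu⟩ := hdec b hb
    rw [key f hf hU v hv b hb τ ⟨u', hu', hbu⟩, h0, zero_mul]
  refine ⟨g f' / g f, ?_⟩
  rw [← sub_eq_zero]
  refine hz _ fun v hv b hb => ?_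
  obtain ⟨τ, u', hu', hbu⟩ := hdec b hb
  rw [Pt.apply_sub, Pt.apply_smul, key f hf hU v hv b hb τ ⟨u', hu', hbu⟩,
    key f' hf' hU' v hv b hb τ ⟨u', hu', hbu⟩]
  field_simp
  ring

/-- Highest weight functions exist and are unique up to scalars. -/
theorem main (hp : Function.Surjective p) (hZ : ∀ z ∈ Zsub (co p l), ∃ τ, tp p τ = z)
    (hB : IsBorelPt (Psub (co p l))) {c : M} (hc : Semi p l c ≠ ⊥) :
    ∃ f₀ ∈ Semi p l c, f₀ ≠ 0 ∧ (∀ u ∈ Usub (co p l), ∀ x : Pt K A, (u * x) f₀ = x f₀) ∧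
      ∀ f ∈ Semi p l c, (∀ u ∈ Usub (co p l), ∀ x : Pt K A, (u * x) f = x f) →
        ∃ r : K, f = r • f₀ := by
  obtain ⟨f₀, h1, h2, h3⟩ := DomWt3.exists_left_fixed (S := Semi p l c)
    (fun g f hf => DomWt3.lTr_mem_Semi p l hf g) hc (Usub (co p l))
    (fun u hu => isUnip_of_mem_Usub hu)
  exact ⟨f₀, h1, h2, h3, fun f hf hf' => uniq p l hp hZ hB h1 hf h2 h3 hf'⟩

end

end K498.DomWt5
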