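import Groth.Agent.AGF.K498.DomWt5
import Groth.Agent.Sga3B.BorLB3991
import Groth.Agent.Sga3B.Parab.PbK2

/-!
# Splittings over algebraically closed fields, on points
-/

set_option autoImplicit false
set_option linter.unusedSectionVars false

universe u w

open CategoryTheory MonoidalCategory CartesianMonoidalCategory MonObj GrpObj AlgebraicGeometry
open scoped LaurentPolynomial

namespace K498.DomWt6

open Groth.Agent.Books.AffBridge Groth.Agent.Books.AffBridge2 Groth.Agent.Books.AlgPtsGrp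
open Groth.Agent.Sga3B.RG Groth.Agent.Sga3B.RG.BrPts Groth.Agent.Sga3B.RG.BrTorus
open Groth.Agent.Sga3B.RG.BrDiag Groth.Agent.Sga3B.RG.BrMax Groth.Agent.Sga3B.RG.PbPsi
open Groth.Agent.Sga3B.Parab.BorelPts172
open Groth.Agent.Sga3B.Parab.Chart998 Groth.Agent.Sga3B.Parab.AffPts998
open Groth.Agent.Sga3B.Parab.Rep998 Groth.Agent.Sga3B.Parab.Dyn998
open Groth.Agent.Sga3B.Parab.DynExist998 Groth.Agent.Sga3B.Parab.OppK172
open Groth.Agent.Sga3B Groth.Agent.Sga3B.BorRP478 Groth.Agent.Sga3B.Parab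
open K495.Bridge K498.DomWt1

variable {K : Type u} [Field K] [IsAlgClosed K] {G : Over (Spec (CommRingCat.of K))} [GrpObj G]
  {A : Type u} [CommRing A] [HopfAlgebra K A] (e : G ≅ SpecOver K A) [IsMonHom e.hom]
  (D : Red.SplitRed G)

section torus

variable {T : Over (Spec (CommRingCat.of K))} [GrpObj T] {M : Type} [AddCommGroup M]
  (sp : Grp.mk T ≅ Grp.mk (Red.DS (Spec (CommRingCat.of K)) M))

/-- The chart of a split torus. -/
lemma exists_torIso : ∃ (eT : T ≅ SpecOver K (MonoidAlgebra K (Multiplicative M))),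
    IsMonHom eT.hom ∧ eT.hom ≫ diagTo K M = sp.hom.hom.hom := by
  refine ⟨(Grp.forget _).mapIso (sp ≪≫ (diagIso K M).symm),
    (sp ≪≫ (diagIso K M).symm).hom.hom.isMonHom_hom, ?_⟩
  have h1 : (sp ≪≫ (diagIso K M).symm).hom ≫ (diagIso K M).hom = sp.hom := by
    rw [Iso.trans_hom, Category.assoc, Iso.symm_hom, Iso.inv_hom_id, Category.comp_id]
  exact congrArg (fun f => f.hom.hom) h1

variable (eT : T ≅ SpecOver K (MonoidAlgebra K (Multiplicative M))) [IsMonHom eT.hom]
  (heT : eT.hom ≫ diagTo K M = sp.hom.hom.hom)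

/-- The point of the torus with coordinates `τ`. -/
noncomputable def tptS (τ : Multiplicative M →* Kˣ) : SpecOver K K ⟶ T :=
  specMap K (torPt (K := K) (Multiplicative M) τ).ofConv ≫ eT.inv

/-- The point of the torus with coordinates `τ`. -/
noncomputable def tpt (τ : Multiplicative M →* Kˣ) : VecGrp.pt K K ⟶ T := tptS eT τ

lemma ptE_tpt (τ : Multiplicative M →* Kˣ) : ptE eT K (tpt eT τ) = torPt _ τ := by
  apply (ptE eT K).symm.injective
  rw [MulEquiv.symm_apply_apply]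
  rfl

lemma exists_tpt (y : VecGrp.pt K K ⟶ T) : ∃ τ, tpt eT τ = y := by
  obtain ⟨τ, hτ⟩ := (torPt (K := K) (Multiplicative M)).surjective (ptE eT K y)
  exact ⟨τ, by apply (ptE eT K).injective; rw [ptE_tpt, hτ]⟩

include heT in
lemma tptS_split (τ : Multiplicative M →* Kˣ) :
    tptS eT τ ≫ sp.hom.hom.hom = dsSpecEquiv (M := M) K ((Units.coeHom K).comp τ) := by
  rw [← heT, tptS, Category.assoc, Iso.inv_hom_id_assoc, specMap_diagTo]
  congr 1
  refine MonoidHom.ext fun m => ?_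
  refine (torPt_single (Multiplicative M) τ m 1).trans ?_
  rw [_root_.one_mul]
  rfl

include heT in
lemma dsChar_tptS (τ : Multiplicative M →* Kˣ) (m : Multiplicative M) :
    DSPts.dsChar (tptS eT τ ≫ sp.hom.hom.hom) m = gEquiv K K (τ m : K) := by
  rw [tptS_split sp eT heT]
  have h1 : dsSpecEquiv (M := M) K ((Units.coeHom K).comp τ) =
    DSPts.dsEquiv (SpecOver K K) M ((gEquiv K K).toRingHom.toMonoidHom.comp
      ((Units.coeHom K).comp τ)) := rfl
  rw [h1, DSPts.dsChar_dsEquiv]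
  rfl

include heT in
/-- Values of characters of a split torus. -/
lemma ev_gmFn (τ : Multiplicative M →* Kˣ) (m : M) :
    ev (tpt eT τ) (Red.gmFn (sp.hom.hom.hom ≫ Red.chi (Spec (CommRingCat.of K)) m)) =
      (τ (Multiplicative.ofAdd m) : K) := by
  rw [GaPts.gmFn_chi]
  have h1 := dsChar_tptS sp eT heT τ (Multiplicative.ofAdd m)
  rw [DSPts.dsChar_comp] at h1
  change (Scheme.ΓSpecIso (CommRingCat.of K)).hom
    ((tptS eT τ).left.appTop _) = _
  have h2 : (tptS eT τ).left.appTop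
      (DSPts.dsChar sp.hom.hom.hom (Multiplicative.ofAdd m)) =
      gEquiv K K (τ (Multiplicative.ofAdd m) : K) := h1
  rw [h2]
  exact (gEquiv K K).symm_apply_apply _

include heT in
/-- Endomorphisms of a split torus. -/
lemma tptS_comp_DSmap (τ : Multiplicative M →* Kˣ) (w : M →+ M) :
    tptS eT τ ≫ sp.hom.hom.hom ≫
      Red.DSmap (Spec (CommRingCat.of K)) w ≫ sp.inv.hom.hom =
      tptS eT (τ.comp (AddMonoidHom.toMultiplicative w)) := by
  have h0 : sp.inv.hom.hom ≫ sp.hom.hom.hom = 𝟙 _ := congrArg (fun f => f.hom.hom) sp.inv_hom_id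
  have h1 : sp.hom.hom.hom ≫ sp.inv.hom.hom = 𝟙 _ := congrArg (fun f => f.hom.hom) sp.hom_inv_id
  have h2 : tptS eT (τ.comp (AddMonoidHom.toMultiplicative w)) =
      (tptS eT (τ.comp (AddMonoidHom.toMultiplicative w)) ≫ sp.hom.hom.hom) ≫ sp.inv.hom.hom := by
    rw [Category.assoc, h1]
    exact (Category.comp_id _).symm
  rw [h2, tptS_split sp eT heT, ← Category.assoc, ← Category.assoc, tptS_split sp eT heT]
  congr 1
  exact DSPts.dsEquiv_DSmap _ _

end torus

variable (eT : D.T ≅ SpecOver K (MonoidAlgebra K (Multiplicative D.M))) [IsMonHom eT.hom]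

theorem exists_torMap : ∃ p : A →ₐc[K] MonoidAlgebra K (Multiplicative D.M),
    D.i ≫ e.hom = eT.hom ≫ specMap K (p : A →ₐ[K] _) ∧ Function.Surjective p := by
  have hi := D.maximalTorus.1
  have hm := D.maximalTorus.2.1
  obtain ⟨p, hp⟩ := exists_bialgHom_of_isMonHom K (eT.inv ≫ D.i ≫ e.hom)
  have h2 : D.i ≫ e.hom = eT.hom ≫ specMap K (p : A →ₐ[K] _) := by
    rw [hp, Iso.hom_inv_id_assoc]
  refine ⟨p, h2, surjective_of_mono p ?_⟩
  rw [hp]
  exact mono_comp _ _

instance isMonHom_i : IsMonHom D.i := D.maximalTorus.1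

instance isMonHom_coch (y : D.M →+ ℤ) : IsMonHom (coch D y) := by
  have h1 : IsMonHom D.split.inv.hom.hom := D.split.inv.hom.isMonHom_hom
  have h2 := isMonHom_DSmap (S := Spec (CommRingCat.of K)) y
  rw [coch_eq]
  infer_instance

/-- Cocharacters of the torus in coordinates. -/
theorem lamB_coch (heT : eT.hom ≫ diagTo K D.M = D.split.hom.hom.hom) {p : A →ₐc[K] MonoidAlgebra K (Multiplicative D.M)}
    (hp : D.i ≫ e.hom = eT.hom ≫ specMap K (p : A →ₐ[K] _)) (y : D.M →+ ℤ) :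
    lamB (coch D y) (chartId e) = co p y := by
  have key : lamAlg (coch D y) (chartId e) = ((co p y : A →ₐc[K] K[T;T⁻¹]) : A →ₐ[K] K[T;T⁻¹]) := by
    apply (pt_bijective (chartId e)
      (c := Spec.map (CommRingCat.ofHom (algebraMap K K[T;T⁻¹]))) (Category.comp_id _)).1
    have h1 := pt_comp_lamAlg (coch D y) (chartId e)
      (c := Spec.map (CommRingCat.ofHom (algebraMap K K[T;T⁻¹]))) (Category.comp_id _)
      (AlgHom.id K K[T;T⁻¹]) (tC K) (fun n => rfl)
    rw [AlgHom.id_comp] at h1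
    have hd : IsIso (diagTo K D.M) := isIso_diagTo K _
    have h2 : specMap K ((lauOf (AddMonoidHom.toMultiplicative y) :
        MonoidAlgebra K (Multiplicative D.M) →ₐc[K] K[T;T⁻¹]) :
        MonoidAlgebra K (Multiplicative D.M) →ₐ[K] K[T;T⁻¹]) =
      DSPts.dsEquiv (SpecOver K K[T;T⁻¹]) ℤ (secChar (Spec.map (CommRingCat.ofHom
        (algebraMap K K[T;T⁻¹]))) (tC K)) ≫ Red.DSmap (Spec (CommRingCat.of K)) y ≫
        (asIso (diagTo K D.M)).inv := by
      rw [← Category.assoc, Iso.eq_comp_inv]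
      refine (specMap_diagTo _).trans (Eq.trans ?_ (DSPts.dsEquiv_DSmap _ _).symm)
      change DSPts.dsEquiv _ _ _ = DSPts.dsEquiv _ _ _
      congr 1
      refine MonoidHom.ext fun m => ?_
      change gEquiv K _ (lauOf (AddMonoidHom.toMultiplicative y) (MonoidAlgebra.single m 1)) =
        (Scheme.ΓSpecIso (CommRingCat.of K[T;T⁻¹])).inv.hom (LaurentPolynomial.T (y m.toAdd))
      rw [lauOf_single]
      rfl
    have h3 : specMap K ((co p y : A →ₐc[K] K[T;T⁻¹]) : A →ₐ[K] K[T;T⁻¹]) =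
        specMap K ((lauOf (AddMonoidHom.toMultiplicative y) :
          MonoidAlgebra K (Multiplicative D.M) →ₐc[K] K[T;T⁻¹]) :
        MonoidAlgebra K (Multiplicative D.M) →ₐ[K] K[T;T⁻¹]) ≫
          specMap K (p : A →ₐ[K] MonoidAlgebra K (Multiplicative D.M)) := by
      have h4 : ((co p y : A →ₐc[K] K[T;T⁻¹]) : A →ₐ[K] K[T;T⁻¹]) =
          ((lauOf (AddMonoidHom.toMultiplicative y) :
            MonoidAlgebra K (Multiplicative D.M) →ₐc[K] K[T;T⁻¹]) :
            MonoidAlgebra K (Multiplicative D.M) →ₐ[K] K[T;T⁻¹]).comp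
              (p : A →ₐ[K] MonoidAlgebra K (Multiplicative D.M)) := AlgHom.ext fun a => rfl
      rw [h4, specMap_comp]
    refine h1.trans (Eq.trans ?_ (pt_chartId e _).symm)
    have h5 : specMap K (p : A →ₐ[K] MonoidAlgebra K (Multiplicative D.M)) =
        eT.inv ≫ D.i ≫ e.hom := by
      rw [hp, Iso.inv_hom_id_assoc]
    have h6 : (asIso (diagTo K D.M)).inv ≫ eT.inv = D.split.inv.hom.hom := by
      rw [Iso.inv_comp_eq, asIso_hom]
      rw [← cancel_epi eT.hom, Iso.hom_inv_id, ← Category.assoc, heT,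
        split_hom_inv]
    rw [h3, h2, h5, coch_eq, ← h6]
    simp only [Category.assoc, Iso.hom_inv_id, Category.comp_id]
    rfl
  exact DFunLike.ext _ _ fun a => DFunLike.congr_fun key a

section points

variable {p : A →ₐc[K] MonoidAlgebra K (Multiplicative D.M)}
  (hp : D.i ≫ e.hom = eT.hom ≫ specMap K (p : A →ₐ[K] _))

include hp in
lemma ptE_tpt_i (τ : Multiplicative D.M →* Kˣ) : ptE e K (tpt eT τ ≫ D.i) = tp p τ := by
  rw [ptE_comp e eT D.i p hp, ptE_tpt]
  rfl

include hp in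
lemma mem_psub_i {g : Pt K A} : g ∈ psub e D.i ↔ ∃ τ, tp p τ = g := by
  constructor
  · rintro ⟨y, rfl⟩
    obtain ⟨τ, rfl⟩ := exists_tpt eT y
    exact ⟨τ, (ptE_tpt_i e D eT hp τ).symm⟩
  · rintro ⟨τ, rfl⟩
    exact ⟨tpt eT τ, ptE_tpt_i e D eT hp τ⟩

include hp in
/-- Representatives of the reflections. -/
theorem exists_refl (heT : eT.hom ≫ diagTo K D.M = D.split.hom.hom.hom) (a : D.idx) :
    ∃ n : Pt K A, ∀ τ : Multiplicative D.M →* Kˣ, n⁻¹ * tp p τ * n =
      tp p (τ.comp (AddMonoidHom.toMultiplicative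
        (D.P.reflection a).toLinearMap.toAddMonoidHom)) := by
  obtain ⟨n, hn⟩ := D.refl a
  refine ⟨(ptE e K (toUnit _ ≫ n))⁻¹, fun τ => ?_⟩
  have h1 := hn (VecGrp.pt K K) (tpt eT τ)
  have h2 : (tpt eT τ) ≫ D.split.hom.hom.hom ≫ Red.DSmap (Spec (CommRingCat.of K))
      (D.P.reflection a).toLinearMap.toAddMonoidHom ≫ D.split.inv.hom.hom ≫ D.i =
      tpt eT (τ.comp (AddMonoidHom.toMultiplicative
        (D.P.reflection a).toLinearMap.toAddMonoidHom)) ≫ D.i := by
    have h3 := congrArg (fun z => z ≫ D.i) (tptS_comp_DSmap D.split eT heT τ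
      (D.P.reflection a).toLinearMap.toAddMonoidHom)
    simp only [Category.assoc] at h3
    exact h3
  rw [h2] at h1
  have h4 := congrArg (ptE e K) h1
  rw [map_mul, map_mul, map_inv, ptE_tpt_i e D eT hp, ptE_tpt_i e D eT hp] at h4
  rw [_root_.inv_inv]
  exact h4

end points

end K498.DomWt6
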