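import Groth.Agent.AGF.K498.DomWt6
import Groth.Agent.Sga3B.RG.NonComm

/-!
# Splittings over algebraically closed fields, on points, II
-/

set_option autoImplicit false
set_option linter.unusedSectionVars false

universe u w

open CategoryTheory MonoidalCategory CartesianMonoidalCategory MonObj GrpObj AlgebraicGeometry
open scoped LaurentPolynomial

namespace K498.DomWt7

open Groth.Agent.Books.AffBridge Groth.Agent.Books.AffBridge2 Groth.Agent.Books.AlgPtsGrp
open Groth.Agent.Sga3B.RG Groth.Agent.Sga3B.RG.BrPts Groth.Agent.Sga3B.RG.BrTorus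
open Groth.Agent.Sga3B.RG.BrDiag Groth.Agent.Sga3B.RG.BrMax Groth.Agent.Sga3B.RG.PbPsi
open Groth.Agent.Sga3B.Parab.BorelPts172
open Groth.Agent.Sga3B.Parab.Chart998 Groth.Agent.Sga3B.Parab.AffPts998
open Groth.Agent.Sga3B.Parab.Rep998 Groth.Agent.Sga3B.Parab.Dyn998
open Groth.Agent.Sga3B.Parab.DynExist998 Groth.Agent.Sga3B.Parab.OppK172
open Groth.Agent.Sga3B Groth.Agent.Sga3B.BorRP478 Groth.Agent.Sga3B.Parab
open K495.Bridge K498.DomWt1 K498.DomWt6

section pts

variable {K : Type u} [Field K] [IsAlgClosed K] {A : Type u} [CommRing A] [HopfAlgebra K A]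
  [Algebra.FiniteType K A] [IsDomain A]

theorem Zsub_eq_top_of_le {B : Subgroup (Pt K A)} (hB : IsBorelPt B) (lam : A →ₐc[K] K[T;T⁻¹])
    (h1 : B ≤ Psub lam) (h2 : B ≤ Psub (invCoch lam)) : Zsub lam = ⊤ := by
  have hK : Infinite K := IsAlgClosed.instInfinite
  have hBZ : B ≤ Zsub lam := by
    intro g hg
    have h3 := limPt_mem_Zsub (invCoch lam) (h2 hg)
    have h4 := limPt_inv_mul_mem (invCoch lam) (h2 hg)
    rw [Zsub_invCoch] at h3
    have h5 : (limPt (invCoch lam) g (h2 hg))⁻¹ * g ∈ Usub (invCoch lam) ⊓ Psub lam :=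
      ⟨h4, (Psub lam).mul_mem ((Psub lam).inv_mem (Zsub_le_Psub lam h3)) (h1 hg)⟩
    rw [NC.Usub_inv_inf_Psub, Subgroup.mem_bot, inv_mul_eq_one] at h5
    rwa [← h5]
  have hU1 : Usub lam = ⊥ := by
    rw [eq_bot_iff, ← Usub_inf_Zsub lam]
    exact le_inf le_rfl ((Usub_le_of_le_Psub hB lam h1).trans hBZ)
  have hU2 : Usub (invCoch lam) = ⊥ := by
    rw [eq_bot_iff, ← Usub_inf_Zsub (invCoch lam)]
    refine le_inf le_rfl ((Usub_le_of_le_Psub hB _ h2).trans ?_)
    rwa [Zsub_invCoch]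
  have h3 := Psub_invCoch_eq_top lam (by rw [Psub_eq_sup, hU1, sup_bot_eq])
  rw [Psub_eq_sup, hU2, sup_bot_eq, Zsub_invCoch] at h3
  exact h3

/-- Cocharacters vanishing on all roots are central. -/
theorem central {M : Type} [AddCommGroup M] (p : A →ₐc[K] MonoidAlgebra K (Multiplicative M))
    {B : Subgroup (Pt K A)} (hB : IsBorelPt B) (z : M →+ ℤ) (h1 : B ≤ Psub (co p z))
    (h2 : B ≤ Psub (co p (-z))) (s : Kˣ) (g : Pt K A) :
    cochPt (co p z) s * g = g * cochPt (co p z) s := by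
  have h3 : Psub (co p (-z)) = Psub (invCoch (co p z)) := by
    ext g
    have h4 : ∀ t, cochPt (co p (-z)) t = cochPt (invCoch (co p z)) t := by
      intro t
      rw [cochPt_eq, cochPt_invCoch, cochPt_eq, ← map_inv]
      congr 1
      ext m
      change ((t ^ (-z m) : Kˣ) : K) = (((t ^ (z m))⁻¹ : Kˣ) : K)
      rw [zpow_neg]
    rw [mem_Psub, mem_Psub]
    simp only [h4]
  rw [h3] at h2
  have h4 := Zsub_eq_top_of_le hB _ h1 h2
  have h5 : g ∈ Zsub (co p z) := by rw [h4]; trivial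
  exact (mem_Zsub.1 h5 s)

end pts

section char

variable {K : Type u} [Field K] [IsAlgClosed K] {M : Type} [AddCommGroup M] [Module.Free ℤ M]
  [Module.Finite ℤ M]

theorem torChar_inj : Function.Injective (torChar K (Multiplicative M)) := by
  have hK : Infinite K := IsAlgClosed.instInfinite
  intro m m' h
  let b := Module.Free.chooseBasis ℤ M
  have key : b.repr m.toAdd = b.repr m'.toAdd := by
    ext i
    by_contra hne
    obtain ⟨s, hs⟩ := exists_zpow_ne_one (K := K) (sub_ne_zero.2 hne)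
    apply hs
    have h1 := DFunLike.congr_fun h (torOf (AddMonoidHom.toMultiplicative
      (b.coord i).toAddMonoidHom) s)
    rw [torChar_apply, torChar_apply] at h1
    have h2 : s ^ (b.repr m.toAdd i) = s ^ (b.repr m'.toAdd i) := Units.ext h1
    rw [zpow_sub, h2, mul_inv_cancel]
  exact congrArg Multiplicative.ofAdd (b.repr.injective key)

end char

section bridge

variable {K : Type u} [Field K] [IsAlgClosed K] {G : Over (Spec (CommRingCat.of K))} [GrpObj G]
  {A : Type u} [CommRing A] [HopfAlgebra K A] (e : G ≅ SpecOver K A) [IsMonHom e.hom]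
  (D : Red.SplitRed G)
  (eT : D.T ≅ SpecOver K (MonoidAlgebra K (Multiplicative D.M))) [IsMonHom eT.hom]
  (heT : eT.hom ≫ diagTo K D.M = D.split.hom.hom.hom)
  {p : A →ₐc[K] MonoidAlgebra K (Multiplicative D.M)}
  (hp : D.i ≫ e.hom = eT.hom ≫ specMap K (p : A →ₐ[K] _))

include heT hp in
/-- Points of dynamic subgroups attached to cocharacters of the torus. -/
theorem ptsSub_P (y : D.M →+ ℤ) {P : Over (Spec (CommRingCat.of K))} [GrpObj P] {q : P ⟶ G}
    [IsMonHom q] (h : IsDynP (coch D y) q) : ptsSub (q ≫ e.hom) = Psub (co p y) := by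
  have hK : Infinite K := IsAlgClosed.instInfinite
  rw [ptsSub_isDynP h e, lamB_coch e D eT heT hp]

include heT hp in
/-- Centralizers. -/
theorem exists_tp (y : D.M →+ ℤ) (h : Red.IsCentralizerOf (coch D y) D.i) {z : Pt K A}
    (hz : z ∈ Zsub (co p y)) : ∃ τ, tp p τ = z := by
  have hK : Infinite K := IsAlgClosed.instInfinite
  have h1 : IsDynZ (coch D y) D.i := (DynExist998.isDynZ_iff D.i).2 h
  have h2 := ptsSub_isDynZ h1 e
  rw [lamB_coch e D eT heT hp] at h2
  rw [← h2, ptsSub_eq_range (D.i ≫ e.hom) p eT hp.symm] at hz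
  obtain ⟨x, rfl⟩ := hz
  obtain ⟨τ, rfl⟩ := (torPt (K := K) (Multiplicative D.M)).surjective x
  exact ⟨τ, rfl⟩

variable {Bo : Over (Spec (CommRingCat.of K))} [GrpObj Bo] {iB : Bo ⟶ G} [IsMonHom iB]

omit [IsMonHom iB] in
/-- The base determined by the Borel subgroup. -/
theorem isPos_iff (bs : D.P.Base)
    (hpos : ∀ a : D.idx, bs.IsPos a → ∃ v : Red.Ga (Spec (CommRingCat.of K)) ⟶ Bo, v ≫ iB = D.u a)
    (mu : D.M →+ ℤ) (hP : IsDynP (coch D mu) iB) (hZ : Red.IsCentralizerOf (coch D mu) D.i)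
    (a : D.idx) : bs.IsPos a ↔ 0 < mu (D.P.root a) := by
  have hred := SplitReduced415.isReduced D
  have hreg := mu_ne_zero D mu hZ
  obtain ⟨b', hb'⟩ := BaseZ.exists_base_isPos D.P mu hreg
  have hstd := BorLB3991.isStd_of_base D mu hP hZ b' hb'
  have h1 : ∀ a, bs.IsPos a → 0 < mu (D.P.root a) := by
    intro a ha
    obtain ⟨v, hv⟩ := hpos a ha
    exact (hb' a).1 (BorLB3991.isPos_of_isStd hstd hv)
  refine ⟨h1 a, fun h => ?_⟩
  by_contra h0
  let _ := D.P.indexNeg
  have h2 := h1 _ ((RootPairing.Base.IsPos.neg_iff_not bs a).2 h0)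
  have h3 : D.P.root (-a) = - D.P.root a := by
    change D.P.root (D.P.reflectionPerm a a) = _
    rw [RootPairing.root_reflectionPerm, RootPairing.reflection_apply_self]
  rw [h3, map_neg] at h2
  omega

include heT hp in
/-- Borel subgroups and dominant cocharacters. -/
theorem ptsSub_le [IsAffineHom G.hom] (bs : D.P.Base)
    (hstd : BorStd991.IsStd iB { D with base := bs })
    (y : D.M →+ ℤ) (hy : ∀ a, bs.IsPos a → 0 ≤ y (D.P.root a)) :
    ptsSub (iB ≫ e.hom) ≤ Psub (co p y) := by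
  obtain ⟨P, _, q, hq, hqc⟩ := exists_isDynP (coch D y)
  have hqm := hq.isMonHom
  have hmono := hq.mono
  obtain ⟨t, x, hx⟩ := hstd.univ
  have h1 : ∀ l : List D.idx, (∀ a ∈ l, bs.IsPos a) →
      ∃ f : Bo ⟶ P, f ≫ q = (l.map (fun a => x a ≫ D.u a)).prod := by
    intro l
    induction l with
    | nil => exact fun _ => ⟨1, by rw [MonObj.one_comp]; rfl⟩
    | cons a l ih =>
      intro hl
      obtain ⟨f, hf⟩ := ih fun b hb => hl b (List.mem_cons_of_mem _ hb)
      obtain ⟨g, hg⟩ := exists_lift_P D y hq a (hy a (hl a List.mem_cons_self))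
      refine ⟨(x a ≫ g) * f, ?_⟩
      rw [MonObj.mul_comp, hf, Category.assoc, hg, List.map_cons, List.prod_cons]
  obtain ⟨f, hf⟩ := h1 (Cell.posList bs) fun a ha => (Cell.mem_posList _).1 ha
  obtain ⟨j, hj⟩ := (hq.iff_ptP _ _).2 (BorLB2991.ptP_torus D y)
  have h2 : (f * (t ≫ j)) ≫ q = iB := by
    rw [MonObj.mul_comp, hf, Category.assoc, hj]
    exact hx.symm
  rw [← ptsSub_P e D eT heT hp y hq]
  exact ptsSub_le_of_comp (iB ≫ e.hom) (q ≫ e.hom) (f * (t ≫ j)) (by rw [← Category.assoc, h2])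

end bridge

end K498.DomWt7
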