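import Groth.Agent.AGF.K498.DomWt7

/-!
# Highest weight functions on a split reductive group over an algebraically closed field
-/

set_option autoImplicit false
set_option linter.unusedSectionVars false

universe u w

open CategoryTheory MonoidalCategory CartesianMonoidalCategory MonObj GrpObj AlgebraicGeometry
open scoped LaurentPolynomial

namespace K498.DomWt8

open Groth.Agent.Books.AffBridge Groth.Agent.Books.AffBridge2 Groth.Agent.Books.AlgPtsGrp
open Groth.Agent.Sga3B.RG Groth.Agent.Sga3B.RG.BrPts Groth.Agent.Sga3B.RG.BrTorus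
open Groth.Agent.Sga3B.RG.BrDiag Groth.Agent.Sga3B.RG.PbPsi
open Groth.Agent.Sga3B.Parab.BorelPts172
open Groth.Agent.Sga3B Groth.Agent.Sga3B.BorRP478 Groth.Agent.Sga3B.Parab
open K495.Bridge K495.ObsPt K498.DomWt1 K498.DomWt6 K498.DomWt7 K498.SemiInv

section dict

variable {k : Type u} [Field k] [IsAlgClosed k] {A : Type u} [CommRing A] [HopfAlgebra k A]
  [Algebra.FiniteType k A]
  {G : Over (Spec (CommRingCat.of k))} [GrpObj G] [IsAffine G.left] [Smooth G.hom]
  (e : G ≅ SpecOver k A) [IsMonHom e.hom]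

/-- Left invariance. -/
theorem invL_iff_mem {H : Over (Spec (CommRingCat.of k))} [GrpObj H] [IsAffine H.left]
    [Smooth H.hom] (i : H ⟶ G) [IsMonHom i] (f : Γ(G.left, ⊤)) :
    ((i ▷ G) ≫ μ[G]).left.appTop f = (snd H G).left.appTop f ↔
      ∀ v ∈ psub e i, ∀ x : Pt k A, (v * x) (fn e f) = x (fn e f) := by
  rw [invL_iff]
  constructor
  · rintro h _ ⟨y, rfl⟩ x
    have h1 := h ((ptE e k).symm x) y
    rw [ev_fn e, ev_fn e, map_mul, MulEquiv.apply_symm_apply] at h1
    exact h1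
  · intro h x y
    rw [ev_fn e, ev_fn e, map_mul]
    exact h _ ⟨y, rfl⟩ _

variable (D : Red.SplitRed G)
  (eT : D.T ≅ SpecOver k (MonoidAlgebra k (Multiplicative D.M))) [IsMonHom eT.hom]
  (heT : eT.hom ≫ diagTo k D.M = D.split.hom.hom.hom)
  {p : A →ₐc[k] MonoidAlgebra k (Multiplicative D.M)}
  (hp : D.i ≫ e.hom = eT.hom ≫ specMap k (p : A →ₐ[k] _))

include heT hp in
/-- Semi-invariance under the torus. -/
theorem semiR_iff_mem (ω : D.M) (f : Γ(G.left, ⊤)) :
    ((G ◁ D.i) ≫ μ[G]).left.appTop f = (fst G D.T).left.appTop f * (snd G D.T).left.appTop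
      (Red.gmFn (D.split.hom.hom.hom ≫ Red.chi (Spec (CommRingCat.of k)) ω)) ↔
    ∀ (x : Pt k A) (τ : Multiplicative D.M →* kˣ),
      (x * tp p τ) (fn e f) = x (fn e f) * (τ (Multiplicative.ofAdd ω) : k) := by
  have hT : Red.IsTorus D.T := D.maximalTorus.2.2.1
  have h1 : Smooth D.T.hom := TorusAlgClosed.smooth_of_isTorus hT
  have h2 : IsAffine D.T.left := by
    have h3 : IsIso eT.hom.left := (Over.forget _).map_isIso eT.hom
    exact IsAffine.of_isIso eT.hom.left
  rw [semiR_iff]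
  constructor
  · intro h x τ
    have h3 := h ((ptE e k).symm x) (tpt eT τ)
    rw [ev_fn e, ev_fn e, map_mul, MulEquiv.apply_symm_apply, ptE_tpt_i e D eT hp,
      ev_gmFn D.split eT heT] at h3
    exact h3
  · intro h x y
    obtain ⟨τ, rfl⟩ := exists_tpt eT y
    rw [ev_fn e, ev_fn e, map_mul, ptE_tpt_i e D eT hp, ev_gmFn D.split eT heT]
    exact h _ _

end dict

section final

variable {k : Type u} [Field k] [IsAlgClosed k]
    {G : Over (Spec (CommRingCat.of k))} [GrpObj G] [ConnectedSpace ↥G.left] (D : Red.SplitRed G)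
    (bs : D.P.Base)
    {Bo : Over (Spec (CommRingCat.of k))} [GrpObj Bo] {iB : Bo ⟶ G} (hB : Red.IsBorelOver k iB)
    {U : Over (Spec (CommRingCat.of k))} [GrpObj U] {u : U ⟶ Bo} (hU : Par.IsUnipotentRadical u)
    (t : D.T ⟶ Bo) (ht : t ≫ iB = D.i)
    (hpos : ∀ a : D.idx, bs.IsPos a → ∃ v : Red.Ga (Spec (CommRingCat.of k)) ⟶ Bo, v ≫ iB = D.u a)

include hB hU ht hpos in
/-- **Highest weight functions.** -/
theorem main (ω : D.M) (hω : ∀ j ∈ bs.support, 0 ≤ D.P.toLinearMap ω (D.P.coroot j)) :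
    ∃ f₀ : Γ(G.left, ⊤), f₀ ≠ 0 ∧
      ((G ◁ (u ≫ iB)) ≫ μ[G]).left.appTop f₀ = (fst G U).left.appTop f₀ ∧
      ((G ◁ D.i) ≫ μ[G]).left.appTop f₀ =
          (fst G D.T).left.appTop f₀ * (snd G D.T).left.appTop (Red.gmFn (D.split.hom.hom.hom ≫ Red.chi (Spec (CommRingCat.of k)) ω)) ∧
      (((u ≫ iB) ▷ G) ≫ μ[G]).left.appTop f₀ = (snd U G).left.appTop f₀ ∧
      ∀ f : Γ(G.left, ⊤),
        ((G ◁ (u ≫ iB)) ≫ μ[G]).left.appTop f = (fst G U).left.appTop f →
        ((G ◁ D.i) ≫ μ[G]).left.appTop f =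
          (fst G D.T).left.appTop f * (snd G D.T).left.appTop (Red.gmFn (D.split.hom.hom.hom ≫ Red.chi (Spec (CommRingCat.of k)) ω)) →
        (((u ≫ iB) ▷ G) ≫ μ[G]).left.appTop f = (snd U G).left.appTop f →
          ∃ c : k, f = G.hom.appTop ((Scheme.ΓSpecIso (CommRingCat.of k)).inv c) * f₀ := by
  have hG : Red.IsReductiveOver k G := AlgBc.isReductive_iff.1 D.reductive
  have hGa : IsAffine G.left := hG.1
  have hGs : Smooth G.hom := hG.2.1
  have hiB : IsMonHom iB := hB.1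
  have hBcl := hB.2.1
  have hBsm := hB.2.2.1
  have haffB : IsAffine Bo.left := isAffine_of_isAffineHom iB.left
  have hum : IsMonHom u := hU.1
  have hUcl := hU.2.1
  have hUsm := hU.2.2.2.1
  have haffU : IsAffine U.left := isAffine_of_isAffineHom u.left
  obtain ⟨A, _, _, e, he, hft, hred⟩ := exists_data G
  have hdom : IsDomain A := (Groth.Agent.Sga3B.RG.BrRed.isRedPt_of_isReductiveOver
    (Groth.Agent.Sga3B.RG.BrRed2.isReductiveOver_of_iso e hG)).1
  obtain ⟨eT, heTm, heT⟩ := exists_torIso D.split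
  obtain ⟨p, hp, hps⟩ := exists_torMap e D eT
  obtain ⟨mu, hP, hZ⟩ := BorLB3991.exists_mu D hG iB hB t ht
  have hbs := isPos_iff D bs hpos mu hP hZ
  have hstd := BorLB3991.isStd_of_base D mu hP hZ bs hbs
  have hPts := ptsSub_P e D eT heT hp mu hP
  have hBpt : IsBorelPt (Psub (co p mu)) := by
    rw [← hPts]
    exact Groth.Agent.Agf.H614.AlgDict.isBorelPt e hB
  have hpsB : psub e iB = Psub (co p mu) := by
    rw [K496.URDict.psub_eq_ptsSub, hPts]
  have hZt : ∀ z ∈ Zsub (co p mu), ∃ τ, tp p τ = z := fun z hz => exists_tp e D eT heT hp mu hZ hz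
  have hle : ∀ y : D.M →+ ℤ, (∀ a, bs.IsPos a → 0 ≤ y (D.P.root a)) →
      Psub (co p mu) ≤ Psub (co p y) := by
    intro y hy
    rw [← hPts]
    exact ptsSub_le e D eT heT hp bs hstd y hy
  have hUU : ∀ g, g ∈ psub e (u ≫ iB) ↔ g ∈ Usub (co p mu) := by
    intro g
    rw [K496.URDict.mem_psub_iff e hB hU, hpsB]
    constructor
    · rintro ⟨h1, h2⟩
      exact DomWt5.mem_Usub_of_isUnip p mu hps hZt h1 h2
    · intro h1
      exact ⟨Usub_le_Psub _ h1, isUnip_of_mem_Usub h1⟩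
  have hdomw : DomWt1.Semi p mu ω ≠ ⊥ := DomWt4.dominant p mu bs hps torChar_inj
    (fun a ha => (hbs a).1 ha) hZt (fun a => exists_refl e D eT hp heT a) hle
    (fun z hz s g => central p hBpt z (hle z fun a _ => (hz a).ge)
      (hle (-z) fun a _ => by rw [AddMonoidHom.neg_apply, hz a, neg_zero]) s g) hω
  obtain ⟨f₀, h1, h2, h3, h4⟩ := DomWt5.main p mu hps hZt hBpt hdomw
  -- dictionary
  have hr : ∀ f : Γ(G.left, ⊤), ((G ◁ (u ≫ iB)) ≫ μ[G]).left.appTop f = (fst G U).left.appTop f ↔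
      ∀ x : Pt k A, ∀ v ∈ Usub (co p mu), (x * v) (fn e f) = x (fn e f) := by
    intro f
    refine (isRTransInv_iff_mem e (u ≫ iB) f).trans ?_
    constructor
    · intro h x v hv
      exact h x v ((hUU v).2 hv)
    · intro h x v hv
      exact h x v ((hUU v).1 hv)
  have hl : ∀ f : Γ(G.left, ⊤), (((u ≫ iB) ▷ G) ≫ μ[G]).left.appTop f = (snd U G).left.appTop f ↔
      ∀ v ∈ Usub (co p mu), ∀ x : Pt k A, (v * x) (fn e f) = x (fn e f) := by
    intro f
    rw [invL_iff_mem e]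
    constructor
    · intro h v hv x
      exact h v ((hUU v).2 hv) x
    · intro h v hv x
      exact h v ((hUU v).1 hv) x
  refine ⟨(fn e).symm f₀, ?_, ?_, ?_, ?_, ?_⟩
  · intro h0
    apply h2
    rw [← (fn e).apply_symm_apply f₀, h0, map_zero]
  · rw [hr, RingEquiv.apply_symm_apply]
    exact h1.1
  · rw [semiR_iff_mem e D eT heT hp, RingEquiv.apply_symm_apply]
    exact h1.2
  · rw [hl, RingEquiv.apply_symm_apply]
    exact h3
  · intro f hf1 hf2 hf3
    rw [hr] at hf1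
    rw [semiR_iff_mem e D eT heT hp] at hf2
    rw [hl] at hf3
    obtain ⟨c, hc⟩ := h4 (fn e f) ⟨hf1, hf2⟩ hf3
    refine ⟨c, (fn e).injective ?_⟩
    rw [map_mul, K498.Epi.fn_const, RingEquiv.apply_symm_apply, hc, Algebra.smul_def]

end final

end K498.DomWt8
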