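import Groth.Agent.AGF.K498.SubMod

/-!
# Action of a group normalising `H` on the invariants of `H`
-/

set_option autoImplicit false
set_option linter.unusedSectionVars false

universe u v

open CategoryTheory MonoidalCategory CartesianMonoidalCategory MonObj GrpObj AlgebraicGeometry
open scoped TensorProduct

namespace K498.NormInv

open Groth.Agent.Books.AffBridge Groth.Agent.Books.AffBridge2
open Groth.Agent.Sga3B.RG Groth.Agent.Sga3B.RG.BrPts K495.ObsPt K495.Bridge K495.GModPt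

variable {k : Type u} [Field k]
    {G : Over (Spec (CommRingCat.of k))} [GrpObj G]
    {H : Over (Spec (CommRingCat.of k))} [GrpObj H] (i : H ⟶ G) [IsMonHom i]
    {L : Over (Spec (CommRingCat.of k))} [GrpObj L] (j : L ⟶ G) [IsMonHom j]
    {C : Type u} [CommRing C] [HopfAlgebra k C] (e : L ≅ SpecOver k C) [IsMonHom e.hom]
    (hnorm : ∀ (X : Over (Spec (CommRingCat.of k))) (l : X ⟶ L) (h : X ⟶ H),
      ∃ h' : X ⟶ H, (l ≫ j) * (h ≫ i) * (l ≫ j)⁻¹ = h' ≫ i)
    {A : Type u} [CommRing A] [Algebra k A] (ρ : VecGrp.GMod G A) (hρ : ρ.IsMult)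

include hnorm in
/-- The invariants of `H` are stable. -/
theorem stable (p : Pt k C) (x : A) (hx : x ∈ ρ.fixedSubalgebra hρ i) :
    rep e (res j ρ) p x ∈ ρ.fixedSubalgebra hρ i := by
  intro B _ _ h
  obtain ⟨g, rfl⟩ := (ptE e k).surjective p
  let gB : VecGrp.pt k B ⟶ L := VecGrp.ptMap (Algebra.ofId k B) ≫ g
  have h1 : (1 : B) ⊗ₜ[k] rep e (res j ρ) (ptE e k g) x = ρ.ρ B (gB ≫ j) ((1 : B) ⊗ₜ[k] x) := by
    have h2 := ρ.naturality (Algebra.ofId k B) (g ≫ j) ((1 : k) ⊗ₜ[k] x)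
    rw [← res_ρ, ρ_k e, VecGrp.Wmap_tmul, VecGrp.Wmap_tmul, map_one, ← Category.assoc] at h2
    exact h2
  obtain ⟨h', hh'⟩ := hnorm _ gB⁻¹ h
  have h3 : (h ≫ i) * (gB ≫ j) = (gB ≫ j) * (h' ≫ i) := by
    rw [← hh', GrpObj.inv_comp, _root_.inv_inv, _root_.mul_assoc, mul_inv_cancel_left]
  rw [h1, ← LinearEquiv.mul_apply, ← map_mul, h3, map_mul, LinearEquiv.mul_apply, hx B h']

omit [GrpObj H] [IsMonHom i] in
lemma isMult_res (hρ : ρ.IsMult) : (res j ρ).IsMult := fun B _ _ g => hρ B (g ≫ j)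

variable [IsAlgClosed k] [Algebra.FiniteType k C] [_root_.IsReduced C]

include hnorm e in
/-- The action of `L` on the invariants of `H`. -/
theorem exists_action : ∃ (m' : VecGrp.GMod L ↥(ρ.fixedSubalgebra hρ i)) (hm' : m'.IsMult),
    ∀ {N : Over (Spec (CommRingCat.of k))} (a : N ⟶ L),
      (m'.fixedSubalgebra hm' a).map (ρ.fixedSubalgebra hρ i).val =
        ρ.fixedSubalgebra hρ i ⊓ ρ.fixedSubalgebra hρ (a ≫ j) := by
  obtain ⟨m', hm', h⟩ := K498.SubMod.exists_subalg e (res j ρ) (isMult_res j ρ hρ)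
    (ρ.fixedSubalgebra hρ i) (fun p x hx => stable i j e hnorm ρ hρ p x hx)
  refine ⟨m', hm', fun a => ?_⟩
  have key : ∀ x : A, x ∈ (res j ρ).fixedSubalgebra (isMult_res j ρ hρ) a ↔
      x ∈ ρ.fixedSubalgebra hρ (a ≫ j) := by
    intro x
    refine forall_congr' fun B => forall_congr' fun _ => forall_congr' fun _ =>
      forall_congr' fun g => ?_
    rw [res_ρ, Category.assoc]
  ext x
  constructor
  · rintro ⟨y, hy, rfl⟩
    exact ⟨y.2, (key _).1 ((h a y).1 hy)⟩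
  · rintro ⟨h1, h2⟩
    exact ⟨⟨x, h1⟩, (h a ⟨x, h1⟩).2 ((key _).2 h2), rfl⟩

omit [IsAlgClosed k] in
lemma finiteType_map_iff {R : Subalgebra k A} (S : Subalgebra k R) :
    Algebra.FiniteType k ↥(S.map R.val) ↔ Algebra.FiniteType k S := by
  rw [← Subalgebra.fg_iff_finiteType, ← Subalgebra.fg_iff_finiteType]
  exact ⟨fun h => Subalgebra.fg_of_fg_map S R.val Subtype.val_injective h, fun h => h.map _⟩

end K498.NormInv
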