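import Groth.Agent.AGF.K498.OrbDim

/-!
# Semicontinuity of the orbit dimension
-/

set_option autoImplicit false
universe u
open CategoryTheory MonoidalCategory CartesianMonoidalCategory MonObj GrpObj AlgebraicGeometry Limits
open TopologicalSpace

namespace K498.OrbClosed

open Groth.Agent.Books.AlgPts K498.OrbDim

section

variable {S : Scheme.{u}} {G X : Over S} [GrpObj G] (a : AlgGrp.Action G X)

/-- `(g, x) ↦ (g x, x)` -/
noncomputable abbrev F : G ⊗ X ⟶ X ⊗ X := lift a.act (snd G X)

/-- the orbit map is the base change of `(g, x) ↦ (g x, x)` -/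
theorem isPullback_orbitMap (x : 𝟙_ (Over S) ⟶ X) :
    IsPullback (lift (𝟙 G) (toUnit G ≫ x)) (a.orbitMap x) (F a) (lift (𝟙 X) (toUnit X ≫ x)) := by
  have hcomm : lift (𝟙 G) (toUnit G ≫ x) ≫ F a = a.orbitMap x ≫ lift (𝟙 X) (toUnit X ≫ x) := by
    have h1 : a.orbitMap x ≫ toUnit X = toUnit G := toUnit_unique _ _
    rw [comp_lift, comp_lift, lift_snd, Category.comp_id, reassoc_of% h1]
    rfl
  refine ⟨⟨hcomm⟩, ⟨PullbackCone.IsLimit.mk hcomm (fun s => s.fst ≫ fst G X) ?_ ?_ ?_⟩⟩
  · intro s
    have h := s.condition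
    have h1 := congr($h ≫ snd X X)
    simp only [Category.assoc, lift_snd] at h1
    have h2 : s.snd ≫ toUnit X = toUnit _ := toUnit_unique _ _
    rw [reassoc_of% h2] at h1
    have h3 : (s.fst ≫ fst G X) ≫ toUnit G = toUnit _ := toUnit_unique _ _
    rw [comp_lift, Category.comp_id, ← Category.assoc _ (toUnit G) x, h3, ← h1]
    exact (lift_comp_fst_snd s.fst)
  · intro s
    have h := s.condition
    have h1 := congr($h ≫ snd X X)
    simp only [Category.assoc, lift_snd] at h1
    have h2 : s.snd ≫ toUnit X = toUnit _ := toUnit_unique _ _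
    rw [reassoc_of% h2] at h1
    have h0 := congr($h ≫ fst X X)
    simp only [Category.assoc, lift_fst, Category.comp_id] at h0
    rw [K499.ActPts.comp_orbitMap, ← h0]
    congr 1
    rw [← h1]
    exact (lift_comp_fst_snd s.fst)
  · intro s m hm1 hm2
    rw [← hm1, Category.assoc, lift_fst, Category.comp_id]

/-- the orbit map is the base change of `(g, x) ↦ (g x, x)`, on underlying schemes -/
theorem isPullback_orbitMap_left (x : 𝟙_ (Over S) ⟶ X) :
    IsPullback (lift (𝟙 G) (toUnit G ≫ x)).left (a.orbitMap x).left (F a).left (lift (𝟙 X) (toUnit X ≫ x)).left :=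
  (isPullback_orbitMap a x).map (Over.forget S)

end

section

variable {k : Type u} [Field k] [IsAlgClosed k]
  {G X : Over (Spec (CommRingCat.of k))} [GrpObj G] [LocallyOfFiniteType G.hom] [LocallyOfFiniteType X.hom]
  (a : AlgGrp.Action G X)

theorem isClosed_orbitDim_le [QuasiCompact G.hom] (r : ℕ) :
    ∃ Z : Set ↥X.left, IsClosed Z ∧
      ∀ x : 𝟙_ (Over (Spec (CommRingCat.of k))) ⟶ X,
        topologicalKrullDim ↥(closure (Set.range ⇑(a.orbitMap x).left)) ≤ (r : WithBot ℕ∞) ↔ pt x ∈ Z := by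
  obtain ⟨d, hd, -⟩ := Groth.Agent.Fdesc.GrpDimHom.rtd_eq G
  let E : X ⟶ G ⊗ X := lift (toUnit X ≫ 1) (𝟙 X)
  have hlft : LocallyOfFiniteType (F a).left := by
    have h1 : (F a).left ≫ (snd X X).left = (snd G X).left := by
      rw [← Over.comp_left, lift_snd]
    have h2 : LocallyOfFiniteType (snd G X).left := by
      have : LocallyOfFiniteType ((snd G X).left ≫ X.hom) := by
        rw [Over.w]
        change LocallyOfFiniteType (pullback.fst G.hom X.hom ≫ G.hom)
        infer_instance
      exact locallyOfFiniteType_of_comp (snd G X).left X.hom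
    have : LocallyOfFiniteType ((F a).left ≫ (snd X X).left) := by rw [h1]; exact h2
    exact locallyOfFiniteType_of_comp (F a).left (snd X X).left
  have hopen := fun n : ℕ => Groth.Agent.S0402.result (F a).left n
  have key : ∀ x : 𝟙_ (Over (Spec (CommRingCat.of k))) ⟶ X,
      FlatMor.fibreDimAt (a.orbitMap x).left (pt (1 : _ ⟶ G)) = FlatMor.fibreDimAt (F a).left (E.left (pt x)) := by
    intro x
    rw [Groth.Agent.Ega4fib.H172.FibDimBC.fibreDimAt_of_isPullback (isPullback_orbitMap_left a x) (pt (1 : _ ⟶ G)),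
      ← pt_comp, ← pt_comp]
    congr 2
    have h1 : toUnit (𝟙_ (Over (Spec (CommRingCat.of k)))) = 𝟙 _ := toUnit_unique _ _
    have h2 : (1 : 𝟙_ (Over (Spec (CommRingCat.of k))) ⟶ G) ≫ toUnit G = 𝟙 _ := toUnit_unique _ _
    have h3 : x ≫ toUnit X = 𝟙 _ := toUnit_unique _ _
    rw [comp_lift, comp_lift, Category.comp_id, Category.comp_id, reassoc_of% h2, reassoc_of% h3]
  by_cases hdr : r < d
  · refine ⟨(E.left ⁻¹' {z | FlatMor.fibreDimAt (F a).left z ≤ ((d - r - 1 : ℕ) : WithBot ℕ∞)})ᶜ,
      ((hopen _).preimage E.left.continuous).isClosed_compl, fun x => ?_⟩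
    obtain ⟨d', hd', h⟩ := dim_closure_orbit_le_iff a x r
    have : d' = d := by
      rw [hd] at hd'
      exact_mod_cast hd'.symm
    subst this
    rw [h, key x]
    simp only [hdr, true_and]
    rfl
  · refine ⟨Set.univ, isClosed_univ, fun x => ?_⟩
    obtain ⟨d', hd', h⟩ := dim_closure_orbit_le_iff a x r
    have : d' = d := by
      rw [hd] at hd'
      exact_mod_cast hd'.symm
    subst this
    rw [h]
    simp [hdr]

end

end K498.OrbClosed
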