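import Groth.Agent.Ega4fib.H172.FibDimBC
import Groth.Agent.AGF.K499.ActPts
import Groth.Agent.Fdesc.GrpDimHom
import Groth.Agent.S0402
import Groth.Agent.Dual.H375.SmoothDim

/-!
# Dimension of orbit closures and the dimension of the fibres of the orbit map
-/

set_option autoImplicit false
universe u
open CategoryTheory MonoidalCategory CartesianMonoidalCategory MonObj GrpObj AlgebraicGeometry Limits
open TopologicalSpace

namespace K498.OrbDim

open Groth.Agent.Books.AlgPts Groth.Agent.CycB.RelDim Groth.Agent.Fdesc.GrpDimHom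

section Top

/-- a space covered by finitely many closed subsets of dimension `≤ d` has dimension `≤ d` -/
theorem topologicalKrullDim_le_of_closed_cover {X : Type u} [TopologicalSpace X] (Y : Set X) {d : WithBot ℕ∞}
    (S : Finset (Set X)) (hS : ∀ Z ∈ S, IsClosed Z) (hd : ∀ Z ∈ S, topologicalKrullDim Z ≤ d)
    (hY : Y ⊆ ⋃₀ (S : Set (Set X))) : topologicalKrullDim Y ≤ d := by
  rw [Groth.Agent.VarietyB.DimTop.topologicalKrullDim_eq_iSup_irreducibleComponents]
  refine iSup_le fun ⟨Z, hZ⟩ => ?_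
  have hirr : IsIrreducible ((fun y : Y => (y : X)) '' Z) :=
    hZ.1.image _ continuous_subtype_val.continuousOn
  obtain ⟨W, hW, hZW⟩ := isIrreducible_iff_sUnion_isClosed.mp hirr S hS (by
    rintro _ ⟨y, -, rfl⟩
    exact hY y.2)
  refine le_trans ?_ (hd W hW)
  exact Groth.Agent.VarietyB.DimTop.topologicalKrullDim_le_of_isEmbedding (f := fun y : Y => (y : X))
    Topology.IsInducing.subtypeVal Z W (fun y hy => hZW ⟨y, hy, rfl⟩)

end Top

section

variable {k : Type u} [Field k] [IsAlgClosed k]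
  {G X : Over (Spec (CommRingCat.of k))} [GrpObj G] [LocallyOfFiniteType G.hom] [LocallyOfFiniteType X.hom]
  (a : AlgGrp.Action G X) (o : 𝟙_ (Over (Spec (CommRingCat.of k))) ⟶ X)

instance : LocallyOfFiniteType (a.orbitMap o).left := by
  have h : (a.orbitMap o).left ≫ X.hom = G.hom := Over.w _
  have : LocallyOfFiniteType ((a.orbitMap o).left ≫ X.hom) := by rw [h]; infer_instance
  exact locallyOfFiniteType_of_comp (a.orbitMap o).left X.hom

/-- the fibre dimension of the orbit map is constant on rational points -/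
theorem fibreDimAt_orbitMap (g : 𝟙_ (Over (Spec (CommRingCat.of k))) ⟶ G) :
    FlatMor.fibreDimAt (a.orbitMap o).left (pt g) = FlatMor.fibreDimAt (a.orbitMap o).left (pt (1 : _ ⟶ G)) := by
  let L : G ⟶ G := (toUnit G ≫ g) * 𝟙 G
  let L' : G ⟶ G := (toUnit G ≫ g⁻¹) * 𝟙 G
  have hcomp : ∀ (T : Over (Spec (CommRingCat.of k))) (x : T ⟶ G) (h : 𝟙_ (Over (Spec (CommRingCat.of k))) ⟶ G),
      x ≫ ((toUnit G ≫ h) * 𝟙 G) = (toUnit T ≫ h) * x := by
    intro T x h
    have : x ≫ toUnit G = toUnit T := toUnit_unique _ _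
    rw [MonObj.comp_mul, reassoc_of% this, Category.comp_id]
  have h1 : L ≫ L' = 𝟙 G := by
    rw [hcomp, ← _root_.mul_assoc, ← MonObj.comp_mul, inv_mul_cancel, MonObj.comp_one, _root_.one_mul]
  have h2 : L' ≫ L = 𝟙 G := by
    rw [hcomp, ← _root_.mul_assoc, ← MonObj.comp_mul, mul_inv_cancel, MonObj.comp_one, _root_.one_mul]
  have hL : IsIso L := ⟨L', h1, h2⟩
  have hT : IsIso (K499.ActPts.tr a g) := (K499.ActPts.trIso a g).isIso_hom
  have hsq : L ≫ a.orbitMap o = a.orbitMap o ≫ K499.ActPts.tr a g := (K499.ActPts.orbitMap_tr a g o).symm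
  have hsq' : L.left ≫ (a.orbitMap o).left = (a.orbitMap o).left ≫ (K499.ActPts.tr a g).left := by
    rw [← Over.comp_left, hsq, Over.comp_left]
  have hLl : IsIso L.left := inferInstanceAs (IsIso ((Over.forget _).map L))
  have hTl : IsIso (K499.ActPts.tr a g).left := inferInstanceAs (IsIso ((Over.forget _).map (K499.ActPts.tr a g)))
  have hpb : IsPullback L.left (a.orbitMap o).left (a.orbitMap o).left (K499.ActPts.tr a g).left :=
    IsPullback.of_horiz_isIso ⟨hsq'⟩
  have h3 := Groth.Agent.Ega4fib.H172.FibDimBC.fibreDimAt_of_isPullback hpb (pt (1 : _ ⟶ G))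
  rw [h3, ← pt_comp, hcomp]
  congr 2
  have : toUnit (𝟙_ (Over (Spec (CommRingCat.of k)))) = 𝟙 _ := toUnit_unique _ _
  rw [this, Category.id_comp, _root_.mul_one]

/-- the fibre dimension of the orbit map at generic points -/
theorem exists_fibreDim : ∃ n : ℕ, (∀ m : ℕ, FlatMor.fibreDimAt (a.orbitMap o).left (pt (1 : _ ⟶ G)) ≤ m ↔ n ≤ m) ∧
    ∀ ξ : G.left, IsGen ξ → rtd (a.orbitMap o).left ξ = n := by
  have key : ∀ ξ : G.left, IsGen ξ → ∃ n : ℕ, rtd (a.orbitMap o).left ξ = n ∧
      FlatMor.fibreDimAt (a.orbitMap o).left ξ = n := by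
    intro ξ hξ
    obtain ⟨n, hn⟩ := Cardinal.lt_aleph0.1 (rtd_lt_aleph0 (a.orbitMap o).left ξ)
    exact ⟨n, hn, Groth.Agent.Dual.H375.SmoothDim.fibreDimAt_of_generic _ hξ n hn⟩
  have hopen := fun n : ℕ => Groth.Agent.S0402.result (a.orbitMap o).left n
  -- for generic ξ with value n: fibreDimAt e ≤ m ↔ n ≤ m
  have main : ∀ ξ : G.left, IsGen ξ → ∀ n : ℕ, FlatMor.fibreDimAt (a.orbitMap o).left ξ = n →
      ∀ m : ℕ, FlatMor.fibreDimAt (a.orbitMap o).left (pt (1 : _ ⟶ G)) ≤ m ↔ n ≤ m := by
    intro ξ hξ n hn m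
    constructor
    · intro hm
      -- a closed point in the closure of ξ
      obtain ⟨g, hg⟩ := exists_pt_mem (X := G) (U := closure ({ξ} : Set G.left)) ⟨ξ, subset_closure rfl⟩
        isClosed_closure.isLocallyClosed
      have h1 : FlatMor.fibreDimAt (a.orbitMap o).left (pt g) ≤ m := by rw [fibreDimAt_orbitMap]; exact hm
      have h2 : ξ ∈ {x | FlatMor.fibreDimAt (a.orbitMap o).left x ≤ m} :=
        (specializes_iff_mem_closure.2 hg).mem_open (hopen m) h1
      have h3 : FlatMor.fibreDimAt (a.orbitMap o).left ξ ≤ m := h2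
      rw [hn] at h3
      exact_mod_cast h3
    · intro hm
      obtain ⟨g, hg⟩ := exists_pt_mem (X := G) (U := {x | FlatMor.fibreDimAt (a.orbitMap o).left x ≤ m})
        ⟨ξ, by rw [Set.mem_ofPred_eq, hn]; exact_mod_cast hm⟩ (hopen m).isLocallyClosed
      rw [← fibreDimAt_orbitMap a o g]
      exact hg
  obtain ⟨ξ, -, -, hξ⟩ := exists_fibGeneric_specializes G.hom (pt (1 : _ ⟶ G))
  have hξ' : IsGen ξ := (isGen_iff_fibGeneric G.hom ξ).mpr hξ
  obtain ⟨n, hn1, hn2⟩ := key ξ hξ'
  refine ⟨n, main ξ hξ' n hn2, fun ξ₁ hξ₁ => ?_⟩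
  obtain ⟨n₁, hn₁1, hn₁2⟩ := key ξ₁ hξ₁
  have e1 := main ξ hξ' n hn2
  have e2 := main ξ₁ hξ₁ n₁ hn₁2
  have : n = n₁ := le_antisymm ((e1 n₁).1 ((e2 n₁).2 le_rfl)) ((e2 n).1 ((e1 n).2 le_rfl))
  rw [this, hn₁1]

/-- `dim closure(G·x) ≤ r` in terms of the fibre dimension of the orbit map -/
theorem dim_closure_orbit_le_iff [QuasiCompact G.hom] (r : ℕ) : ∃ d : ℕ, topologicalKrullDim G.left = d ∧
    (topologicalKrullDim ↥(closure (Set.range ⇑(a.orbitMap o).left)) ≤ (r : WithBot ℕ∞) ↔
      ¬ (r < d ∧ FlatMor.fibreDimAt (a.orbitMap o).left (pt (1 : _ ⟶ G)) ≤ ((d - r - 1 : ℕ) : WithBot ℕ∞))) := by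
  obtain ⟨d, hd, hd'⟩ := rtd_eq G
  refine ⟨d, hd, ?_⟩
  obtain ⟨n, hn, hn'⟩ := exists_fibreDim a o
  have hcl : ∀ ξ : G.left, IsGen ξ → ∃ c : ℕ, d = c + n ∧
      topologicalKrullDim (closure {(a.orbitMap o).left ξ} : Set X.left) = c := by
    intro ξ hξ
    obtain ⟨c, hc, hc'⟩ := exists_dim_closure X.hom (isAffineOpen_top _) isField_top ((a.orbitMap o).left ξ)
    refine ⟨c, ?_, hc'⟩
    have h1 := rtd_comp (a.orbitMap o).left X.hom ξ
    have h2 : (a.orbitMap o).left ≫ X.hom = G.hom := Over.w _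
    rw [h2, hc, hn' ξ hξ, hd' ξ hξ] at h1
    exact_mod_cast h1
  obtain ⟨ξ₀, -, -, hξ₀⟩ := exists_fibGeneric_specializes G.hom (pt (1 : _ ⟶ G))
  have hξ₀' : IsGen ξ₀ := (isGen_iff_fibGeneric G.hom ξ₀).mpr hξ₀
  obtain ⟨c, hc, hc'⟩ := hcl ξ₀ hξ₀'
  have hdim : topologicalKrullDim ↥(closure (Set.range ⇑(a.orbitMap o).left)) = c := by
    apply le_antisymm
    · have hqc : CompactSpace G.left := by
        have : CompactSpace (Spec (CommRingCat.of k)) := inferInstance
        exact QuasiCompact.compactSpace_of_compactSpace G.hom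
      have hN : IsLocallyNoetherian G.left := LocallyOfFiniteType.isLocallyNoetherian G.hom
      have hN' : IsNoetherian G.left := {}
      have hNS : NoetherianSpace G.left := inferInstance
      have hfin := NoetherianSpace.finite_irreducibleComponents (α := G.left)
      classical
      refine topologicalKrullDim_le_of_closed_cover _
        (hfin.toFinset.image (fun Z => closure ((a.orbitMap o).left '' Z))) ?_ ?_ ?_
      · intro Z hZ
        obtain ⟨Z, -, rfl⟩ := Finset.mem_image.1 hZ
        exact isClosed_closure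
      · intro Z hZ
        obtain ⟨Z, hZ1, rfl⟩ := Finset.mem_image.1 hZ
        have hZ' : Z ∈ irreducibleComponents G.left := by simpa using hZ1
        obtain ⟨ξ, hξ⟩ := QuasiSober.sober hZ'.1 (isClosed_of_mem_irreducibleComponents Z hZ')
        have hgen : IsGen ξ := by
          intro z hz
          have h1 : Z ≤ closure {z} := by
            rw [← hξ.def]
            exact closure_minimal (Set.singleton_subset_iff.2 (specializes_iff_mem_closure.1 hz)) isClosed_closure
          have h2 := hZ'.2 isIrreducible_singleton.closure h1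
          have h3 : z ∈ closure ({ξ} : Set G.left) := by rw [hξ.def]; exact h2 (subset_closure rfl)
          exact Specializes.antisymm hz (specializes_iff_mem_closure.2 h3) |>.eq
        obtain ⟨c₁, hc₁, hc₁'⟩ := hcl ξ hgen
        have : c₁ = c := by omega
        subst this
        rw [← hc₁']
        have heq : closure ((a.orbitMap o).left '' Z) = closure {(a.orbitMap o).left ξ} := by
          rw [← hξ.def]
          apply subset_antisymm
          · apply closure_minimal _ isClosed_closure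
            rw [← Set.image_singleton]
            exact image_closure_subset_closure_image (a.orbitMap o).left.continuous
          · apply closure_mono
            rintro _ rfl
            exact ⟨ξ, subset_closure rfl, rfl⟩
        rw [heq]
      · have hcov : Set.range ⇑(a.orbitMap o).left ⊆
            ⋃ Z ∈ irreducibleComponents G.left, (a.orbitMap o).left '' Z := by
          rintro _ ⟨x, rfl⟩
          simp only [Set.mem_iUnion]
          exact ⟨irreducibleComponent x, irreducibleComponent_mem_irreducibleComponents x, x,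
            mem_irreducibleComponent, rfl⟩
        have h1 : closure (⋃ Z ∈ irreducibleComponents G.left, (a.orbitMap o).left '' Z) =
            ⋃ Z ∈ irreducibleComponents G.left, closure ((a.orbitMap o).left '' Z) :=
          hfin.closure_biUnion _
        refine (closure_mono hcov).trans ?_
        rw [h1]
        intro y hy
        simp only [Set.mem_iUnion] at hy
        obtain ⟨Z, hZ, hy⟩ := hy
        refine ⟨_, ?_, hy⟩
        rw [Finset.coe_image]
        exact ⟨Z, by simpa using hZ, rfl⟩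
    · rw [← hc']
      have hsub : closure {(a.orbitMap o).left ξ₀} ⊆ closure (Set.range ⇑(a.orbitMap o).left) :=
        closure_mono (Set.singleton_subset_iff.2 ⟨ξ₀, rfl⟩)
      exact Groth.Agent.VarietyB.DimTop.topologicalKrullDim_le_of_isEmbedding (f := (id : X.left → X.left))
        Topology.IsInducing.id _ _ (fun y hy => hsub hy)
  rw [hdim, hn]
  have hcr : ((c : ℕ) : WithBot ℕ∞) ≤ (r : WithBot ℕ∞) ↔ c ≤ r := by exact_mod_cast Iff.rfl
  rw [hcr]
  omega

end

end K498.OrbDim
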