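import Groth.Agent.AGF.K498.NormInv
import Groth.Agent.AGF.K496.URDict
import Groth.Agent.AGF.K496.Contain
import Groth.Agent.AGF.K497.URadPt
import Groth.Agent.AGF.K501.RadSch
import Groth.Agent.AGF.K500.Ru
import Groth.Agent.Agf.H623.SurjBorel
import Groth.Agent.Sga3B.Par.LeviProj
import Groth.Agent.Sga3B.AlgBc2
import Groth.Agent.Sga3B.Parab.DynClosed998
import Groth.Agent.AGF.K493.SolvU
import Groth.Agent.Agf.H594.BorIso

/-!
# The unipotent radical of a Borel subgroup of a semidirect product `P = L ⋉ H`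
-/

set_option autoImplicit false
set_option linter.unusedSectionVars false

universe u v

open CategoryTheory MonoidalCategory CartesianMonoidalCategory MonObj GrpObj AlgebraicGeometry
open scoped TensorProduct

namespace K498.ParInv

open Groth.Agent.Books.AffBridge Groth.Agent.Books.AffBridge2
open Groth.Agent.Sga3B.RG Groth.Agent.Sga3B.RG.BrPts K495.ObsPt K495.Bridge K495.GModPt
open Groth.Agent.Sga3B.Parab.BorelPts172 Groth.Agent.Sga3B.Par.LeviProj

variable {k : Type u} [Field k] [IsAlgClosed k]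

/-- A Borel subgroup is one in every intermediate closed subgroup. -/
theorem isBorelOver_of_comp {B Q G : Over (Spec (CommRingCat.of k))} [GrpObj B] [GrpObj Q] [GrpObj G]
    (b : B ⟶ Q) (i : Q ⟶ G) [IsMonHom i] [IsClosedImmersion i.left]
    (h : Red.IsBorelOver k (b ≫ i)) : Red.IsBorelOver k b := by
  obtain ⟨h1, h2, h3, h4, h5, h6⟩ := h
  have hmi : Mono i := Groth.Agent.Sga3B.Parab.DynClosed998.mono_of_isClosedImmersion i
  refine ⟨K493.URad.isMonHom_of_comp b i h1, ?_, h3, h4, h5, ?_⟩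
  · have : IsClosedImmersion (b.left ≫ i.left) := by rw [← Over.comp_left]; exact h2
    exact IsClosedImmersion.of_comp b.left i.left
  · intro B' _ i' _ f hcl hsm hc hs hf
    have hcl' : IsClosedImmersion (i' ≫ i).left := by rw [Over.comp_left]; infer_instance
    exact h6 B' (i' ≫ i) f hcl' hsm hc hs (by rw [← Category.assoc, hf])


section Semi

variable {G P L H B : Over (Spec (CommRingCat.of k))} [GrpObj G] [GrpObj P] [GrpObj L] [GrpObj H]
  [GrpObj B] [IsAffine G.left] [Smooth G.hom]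
  {A : Type u} [CommRing A] [HopfAlgebra k A] [Algebra.FiniteType k A] [_root_.IsReduced A]
  (e : G ≅ SpecOver k A) [IsMonHom e.hom]
  (p : P ⟶ G) [IsMonHom p] [IsClosedImmersion p.left] [Smooth P.hom]
  {l : L ⟶ P} {u : H ⟶ P} (hs : IsSemi l u) (hu : Par.IsUnipotentRadical u)
  (b : B ⟶ P) (hB : Red.IsBorelOver k (b ≫ p))

include hu hB in
/-- The unipotent radical is contained in every Borel subgroup. -/
theorem psub_le_borel [IsMonHom u] [IsMonHom b] : psub e (u ≫ p) ≤ psub e (b ≫ p) := by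
  have h2 := hB.2.1
  have h3 := hB.2.2.1
  have hU := K497.URadPt.isURadIn_psub e p u hu
  have hBp : IsBorelPt (psub e (b ≫ p)) := by
    rw [K496.URDict.psub_eq_ptsSub]
    exact Groth.Agent.Agf.H614.AlgDict.isBorelPt e hB
  have hUc : IsCCS (psub e (u ≫ p)) := K493.SolvU.isCCS_of_isUnip hU.isCl hU.isConn hU.isUnip
  have hle : psub e (b ≫ p) ≤ Subgroup.normalizer (psub e (u ≫ p) : Set (Pt k A)) :=
    (psub_comp_le e p b).trans hU.norm
  have h4 := IsCCS.sup hBp.toIsCCS hUc hle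
  have h5 : psub e (b ≫ p) ≤ clSub (psub e (b ≫ p) ⊔ psub e (u ≫ p)) :=
    le_sup_left.trans (le_clSub _)
  have h6 : psub e (u ≫ p) ≤ clSub (psub e (b ≫ p) ⊔ psub e (u ≫ p)) :=
    le_sup_right.trans (le_clSub _)
  have h7 := hBp.max _ h4 h5
  rw [h7] at h6
  exact h6

omit [IsAlgClosed k] in
lemma map_ptE {P L : Over (Spec (CommRingCat.of k))} [GrpObj P] [GrpObj L]
    {A C : Type u} [CommRing A] [HopfAlgebra k A] [CommRing C] [HopfAlgebra k C]
    (e₀ : P ≅ SpecOver k A) [IsMonHom e₀.hom] (eL : L ≅ SpecOver k C) [IsMonHom eL.hom]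
    (q : P ⟶ L) [IsMonHom q] (φ : C →ₐc[k] A)
    (hφ : q ≫ eL.hom = e₀.hom ≫ specMap k (φ : C →ₐ[k] A)) (z : VecGrp.pt k k ⟶ P) :
    Pt.map φ (ptE e₀ k z) = ptE eL k (z ≫ q) :=
  (ptE_comp eL e₀ q φ hφ z).symm

omit [IsAlgClosed k] in
lemma exists_map_data {P L : Over (Spec (CommRingCat.of k))} [GrpObj P] [GrpObj L]
    {A C : Type u} [CommRing A] [HopfAlgebra k A] [CommRing C] [HopfAlgebra k C]
    (e₀ : P ≅ SpecOver k A) [IsMonHom e₀.hom] (eL : L ≅ SpecOver k C) [IsMonHom eL.hom]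
    (q : P ⟶ L) [IsMonHom q] :
    ∃ φ : C →ₐc[k] A, ∀ z : VecGrp.pt k k ⟶ P, Pt.map φ (ptE e₀ k z) = ptE eL k (z ≫ q) := by
  have h1 : IsMonHom (e₀.inv ≫ q ≫ eL.hom) := inferInstance
  obtain ⟨φ, hφ⟩ := exists_bialgHom_of_isMonHom k (e₀.inv ≫ q ≫ eL.hom)
  exact ⟨φ, map_ptE e₀ eL q φ (by rw [hφ, Iso.hom_inv_id_assoc])⟩

include hB in
/-- The image of a Borel subgroup in the factor `L`. -/
theorem exists_borel_levi (hs : IsSemi l u) [IsAffine L.left] [Smooth L.hom] :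
    ∃ (BL : Over (Spec (CommRingCat.of k))) (_ : GrpObj BL) (iBL : BL ⟶ L),
      Red.IsBorelOver k iBL ∧ ∀ x : VecGrp.pt k k ⟶ L,
        (∃ y : VecGrp.pt k k ⟶ BL, y ≫ iBL = x) ↔
          ∃ z : VecGrp.pt k k ⟶ B, z ≫ b ≫ prL hs = x := by
  have hPaff : IsAffine P.left := isAffine_of_isAffineHom p.left
  obtain ⟨A₀, _, _, e₀, _, _, _⟩ := exists_data P
  obtain ⟨C, _, _, eL, _, _, _⟩ := exists_data L
  obtain ⟨φ, hφ⟩ := exists_map_data e₀ eL (prL hs)
  have hbo := isBorelOver_of_comp b p hB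
  have hbm := hbo.1
  have hbc := hbo.2.1
  have hbs := hbo.2.2.1
  have hlm := hs.monHom_l
  have hsurj : Function.Surjective (Pt.map φ) := by
    intro y
    obtain ⟨x, rfl⟩ := (ptE eL k).surjective y
    exact ⟨ptE e₀ k (x ≫ l), by rw [hφ, fac_l_prL]⟩
  have hBp : IsBorelPt (psub e₀ b) := by
    rw [K496.URDict.psub_eq_ptsSub]
    exact Groth.Agent.Agf.H614.AlgDict.isBorelPt e₀ hbo
  have hBL := Groth.Agent.Agf.H623.SurjBorel.isBorelPt_map φ hsurj hBp
  obtain ⟨BL, _, c, hc, hcb, hceq⟩ := hBL.exists_scheme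
  have hc1 := hcb.2.1
  have hc2 := hcb.2.2.1
  have hinv : IsMonHom eL.symm.hom := inferInstanceAs (IsMonHom eL.inv)
  have h5 : Red.IsBorelOver k (c ≫ eL.inv) :=
    Groth.Agent.Agf.H594.BorIso.isBorelOver_comp_iso c eL.symm hcb
  have h6 := h5.1
  have h7 := h5.2.1
  refine ⟨BL, inferInstance, c ≫ eL.inv, h5, fun x => ?_⟩
  have h8 : ptsSub ((c ≫ eL.inv) ≫ eL.hom) = ptsSub c :=
    K493.SolvU.ptsSub_congr (by rw [Category.assoc, Iso.inv_hom_id, Category.comp_id])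
  rw [← ptE_mem_psub eL, K496.URDict.psub_eq_ptsSub, h8, hceq, Subgroup.mem_map]
  constructor
  · rintro ⟨_, ⟨z, rfl⟩, hz⟩
    rw [hφ] at hz
    exact ⟨z, by rw [← Category.assoc]; exact (ptE eL k).injective hz⟩
  · rintro ⟨z, rfl⟩
    exact ⟨ptE e₀ k (z ≫ b), ⟨z, rfl⟩, by rw [hφ, Category.assoc]⟩

include hu hB in
/-- The unipotent radical of a Borel subgroup of `P = L ⋉ H`. -/
theorem mem_iff (hs : IsSemi l u) [IsAffine L.left] [Smooth L.hom]
    {BL : Over (Spec (CommRingCat.of k))} [GrpObj BL] {iBL : BL ⟶ L} (hBL : Red.IsBorelOver k iBL)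
    (hpts : ∀ x : VecGrp.pt k k ⟶ L, (∃ y : VecGrp.pt k k ⟶ BL, y ≫ iBL = x) ↔
          ∃ z : VecGrp.pt k k ⟶ B, z ≫ b ≫ prL hs = x)
    {U : Over (Spec (CommRingCat.of k))} [GrpObj U] {w : U ⟶ B} (hw : Par.IsUnipotentRadical w)
    {V : Over (Spec (CommRingCat.of k))} [GrpObj V] {v : V ⟶ BL} (hv : Par.IsUnipotentRadical v)
    [IsMonHom b] [IsMonHom w] [IsMonHom v] [IsMonHom iBL] [IsMonHom l] [IsMonHom u] (g : Pt k A) :
    g ∈ psub e (w ≫ b ≫ p) ↔
      ∃ x ∈ psub e (v ≫ iBL ≫ l ≫ p), ∃ y ∈ psub e (u ≫ p), g = x * y := by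
  have hPaff : IsAffine P.left := isAffine_of_isAffineHom p.left
  obtain ⟨C, _, _, eL, _, _, _⟩ := exists_data L
  obtain ⟨ψ, hψ⟩ := exists_map_data eL e (l ≫ p)
  obtain ⟨C', _, _, e', _, π, _, _, hπs, hπ⟩ := exists_hom_data e p
  obtain ⟨φ, hφ⟩ := exists_map_data e' eL (prL hs)
  have hbo := isBorelOver_of_comp b p hB
  have h0 := psub_le_borel e p hu b hB
  have hU := K497.URadPt.isURadIn_psub e p u hu
  have h1 := K496.URDict.mem_psub_iff e hB hw
  have h2 := K496.URDict.mem_psub_iff eL hBL hv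
  have h0' : psub e (u ≫ p) ≤ psub e (w ≫ b ≫ p) := fun y hy => (h1 y).2 ⟨h0 hy, hU.isUnip y hy⟩
  have h3 : psub e (v ≫ iBL ≫ l ≫ p) ≤ psub e (w ≫ b ≫ p) := by
    rintro _ ⟨y, rfl⟩
    have hy : ptE eL k (y ≫ v ≫ iBL) ∈ psub eL (v ≫ iBL) := ⟨y, rfl⟩
    obtain ⟨-, hy2⟩ := (h2 _).1 hy
    obtain ⟨z, hz⟩ := (hpts (y ≫ v ≫ iBL)).1 ⟨y ≫ v, by rw [Category.assoc]⟩
    obtain ⟨h', hh'⟩ := exists_eq hs (z ≫ b)
    have h4 : ptE e k (y ≫ v ≫ iBL ≫ l ≫ p) = ptE e k (z ≫ b ≫ p) * (ptE e k (h' ≫ u ≫ p))⁻¹ := by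
      rw [eq_mul_inv_iff_mul_eq, ← map_mul]
      congr 1
      have h5 : (z ≫ b) ≫ prL hs ≫ l = y ≫ v ≫ iBL ≫ l := by
        rw [Category.assoc, ← Category.assoc b, ← Category.assoc z, hz]
        simp only [Category.assoc]
      rw [← Category.assoc z b p, hh', MonObj.mul_comp, h5]
      simp only [Category.assoc]
    refine (h1 _).2 ⟨?_, ?_⟩
    · rw [h4]
      exact mul_mem ⟨z, rfl⟩ (inv_mem (h0 ⟨h', rfl⟩))
    · have := Groth.Agent.Sga3B.RG.IsUnip.map ψ hy2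
      rw [hψ] at this
      simpa only [Category.assoc] using this
  constructor
  · intro hg
    obtain ⟨⟨z, rfl⟩, hgu⟩ := (h1 g).1 hg
    obtain ⟨h', hh'⟩ := exists_eq hs (z ≫ b)
    have h5 := map_ptE e' e p π hπ (z ≫ b)
    have h6 : IsUnip (ptE e' k (z ≫ b)) := by
      rw [← isUnip_map_iff hπs, h5, Category.assoc]
      exact hgu
    have h7 := Groth.Agent.Sga3B.RG.IsUnip.map φ h6
    rw [hφ] at h7
    have h8 : ptE eL k ((z ≫ b) ≫ prL hs) ∈ psub eL (v ≫ iBL) := by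
      refine (h2 _).2 ⟨?_, h7⟩
      rw [ptE_mem_psub]
      exact (hpts _).2 ⟨z, by rw [Category.assoc]⟩
    rw [ptE_mem_psub] at h8
    obtain ⟨y, hy⟩ := h8
    refine ⟨ptE e k (y ≫ v ≫ iBL ≫ l ≫ p), ⟨y, rfl⟩, ptE e k (h' ≫ u ≫ p), ⟨h', rfl⟩, ?_⟩
    rw [← map_mul]
    congr 1
    have h9 : (z ≫ b) ≫ prL hs ≫ l = y ≫ v ≫ iBL ≫ l := by
      rw [← Category.assoc (z ≫ b), ← hy]
      simp only [Category.assoc]
    rw [← Category.assoc z b p, hh', MonObj.mul_comp, h9]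
    simp only [Category.assoc]
  · rintro ⟨x, hx, y, hy, rfl⟩
    exact mul_mem (h3 hx) (h0' hy)

include e hu hB in
/-- The invariants of the unipotent radical of a Borel subgroup of `P = L ⋉ H`. -/
theorem fixed_eq (hs : IsSemi l u) [IsAffine L.left] [Smooth L.hom]
    {BL : Over (Spec (CommRingCat.of k))} [GrpObj BL] {iBL : BL ⟶ L} (hBL : Red.IsBorelOver k iBL)
    (hpts : ∀ x : VecGrp.pt k k ⟶ L, (∃ y : VecGrp.pt k k ⟶ BL, y ≫ iBL = x) ↔
          ∃ z : VecGrp.pt k k ⟶ B, z ≫ b ≫ prL hs = x)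
    {U : Over (Spec (CommRingCat.of k))} [GrpObj U] {w : U ⟶ B} (hw : Par.IsUnipotentRadical w)
    {V : Over (Spec (CommRingCat.of k))} [GrpObj V] {v : V ⟶ BL} (hv : Par.IsUnipotentRadical v)
    {R : Type u} [CommRing R] [Algebra k R] (m : VecGrp.GMod G R) (hm : m.IsMult) :
    m.fixedSubalgebra hm (w ≫ b ≫ p) =
      m.fixedSubalgebra hm (u ≫ p) ⊓ m.fixedSubalgebra hm (v ≫ iBL ≫ l ≫ p) := by
  have hbo := isBorelOver_of_comp b p hB
  have i1 : IsMonHom b := hbo.1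
  have i2 : IsMonHom w := hw.1
  have i3 : IsMonHom v := hv.1
  have i4 : IsMonHom iBL := hBL.1
  have i5 : IsMonHom l := hs.monHom_l
  have i6 : IsMonHom u := hu.1
  have c1 : IsClosedImmersion b.left := hbo.2.1
  have c2 : IsClosedImmersion w.left := hw.2.1
  have c3 : IsClosedImmersion v.left := hv.2.1
  have c4 : IsClosedImmersion iBL.left := hBL.2.1
  have c6 : IsClosedImmersion u.left := hu.2.1
  have a0 : IsAffine P.left := isAffine_of_isAffineHom p.left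
  have a1 : IsAffine B.left := isAffine_of_isAffineHom b.left
  have a2 : IsAffine U.left := isAffine_of_isAffineHom w.left
  have a4 : IsAffine BL.left := isAffine_of_isAffineHom iBL.left
  have a3 : IsAffine V.left := isAffine_of_isAffineHom v.left
  have a6 : IsAffine H.left := isAffine_of_isAffineHom u.left
  have s2 : Smooth U.hom := hw.2.2.2.1
  have s3 : Smooth V.hom := hv.2.2.2.1
  have s6 : Smooth H.hom := hu.2.2.2.1
  ext x
  rw [Algebra.mem_inf, mem_fixedSubalgebra_iff_psub e, mem_fixedSubalgebra_iff_psub e,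
    mem_fixedSubalgebra_iff_psub e]
  constructor
  · intro h
    refine ⟨fun g hg => h g ?_, fun g hg => h g ?_⟩
    · exact (mem_iff e p hu b hB hs hBL hpts hw hv g).2 ⟨1, one_mem _, g, hg, by rw [_root_.one_mul]⟩
    · exact (mem_iff e p hu b hB hs hBL hpts hw hv g).2 ⟨g, hg, 1, one_mem _, by rw [_root_.mul_one]⟩
  · rintro ⟨h1, h2⟩ g hg
    obtain ⟨y, hy, z, hz, rfl⟩ := (mem_iff e p hu b hB hs hBL hpts hw hv g).1 hg
    rw [map_mul, Module.End.mul_apply, h1 z hz, h2 y hy]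

end Semi

omit [IsAlgClosed k] in
lemma fixed_iso {G H H' : Over (Spec (CommRingCat.of k))} [GrpObj G] [GrpObj H] [GrpObj H']
    (ε : H ≅ H') (i : H' ⟶ G) {R : Type u} [CommRing R] [Algebra k R] (m : VecGrp.GMod G R)
    (hm : m.IsMult) : m.fixedSubalgebra hm (ε.hom ≫ i) = m.fixedSubalgebra hm i := by
  ext x
  constructor
  · intro h B _ _ g
    have := h B (g ≫ ε.inv)
    rwa [Category.assoc, Iso.inv_hom_id_assoc] at this
  · intro h B _ _ g
    have := h B (g ≫ ε.hom)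
    rwa [Category.assoc] at this

end K498.ParInv
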