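import Groth.Agent.Sga3B.RG.BrDiag
import Groth.Prelude.Def_W4bk4grossh1223Act

/-!
# Affine test objects `pt k B` and algebra maps
-/

set_option autoImplicit false

universe u v

open CategoryTheory MonoidalCategory CartesianMonoidalCategory MonObj GrpObj AlgebraicGeometry
open scoped TensorProduct

namespace K498.Pts

open VecGrp

variable {k : Type u} [CommRing k]

lemma exists_eq_ptMap {B B' : Type u} [CommRing B] [Algebra k B] [CommRing B'] [Algebra k B']
    (f : pt k B' ⟶ pt k B) : ∃ φ : B →ₐ[k] B', f = ptMap φ := by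
  obtain ⟨g, hg⟩ := Spec.map_surjective f.left
  have h1 : f.left ≫ Spec.map (CommRingCat.ofHom (algebraMap k B)) =
      Spec.map (CommRingCat.ofHom (algebraMap k B')) := Over.w f
  rw [← hg, ← Spec.map_comp] at h1
  have h2 := Spec.map_injective h1
  have h3 : ∀ r : k, g.hom (algebraMap k B r) = algebraMap k B' r := fun r =>
    congrArg (fun q : CommRingCat.of k ⟶ CommRingCat.of B' => q.hom r) h2
  refine ⟨{ g.hom with commutes' := h3 }, ?_⟩
  apply Over.OverMorphism.ext
  exact hg.symm

lemma ptMap_injective {B B' : Type u} [CommRing B] [Algebra k B] [CommRing B'] [Algebra k B']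
    {φ ψ : B →ₐ[k] B'} (h : ptMap φ = ptMap ψ) : φ = ψ := by
  have h1 : (ptMap φ).left = (ptMap ψ).left := by rw [h]
  have h2 := Spec.map_injective h1
  have h3 : φ.toRingHom = ψ.toRingHom := by
    have := congrArg (fun q : CommRingCat.of B ⟶ CommRingCat.of B' => q.hom) h2
    exact this
  ext b
  exact congrArg (fun q : B →+* B' => q b) h3

lemma ptMap_comp {B B' B'' : Type u} [CommRing B] [Algebra k B] [CommRing B'] [Algebra k B']
    [CommRing B''] [Algebra k B''] (φ : B →ₐ[k] B') (ψ : B' →ₐ[k] B'') :
    ptMap ψ ≫ ptMap φ = ptMap (ψ.comp φ) := by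
  apply Over.OverMorphism.ext
  change Spec.map _ ≫ Spec.map _ = Spec.map _
  rw [← Spec.map_comp, ← CommRingCat.ofHom_comp]
  rfl

lemma ptMap_id (B : Type u) [CommRing B] [Algebra k B] : ptMap (AlgHom.id k B) = 𝟙 (pt k B) := by
  apply Over.OverMorphism.ext
  exact Spec.map_id _

theorem exists_iso_pt (X : Over (Spec (CommRingCat.of k))) [IsAffine X.left] :
    ∃ (R : Type u) (_ : CommRing R) (_ : Algebra k R), Nonempty (X ≅ pt k R) :=
  Groth.Agent.Sga3B.RG.BrDiag.exists_specOver X

/-- A morphism of group schemes with affine source is a homomorphism as soon as it is so on points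
with values in `R`-algebras. -/
theorem isMonHom_of_pt {G H : Over (Spec (CommRingCat.of k))} [GrpObj G] [GrpObj H]
    [IsAffine G.left] (f : G ⟶ H)
    (h : ∀ (B : Type u) [CommRing B] [Algebra k B] (x y : pt k B ⟶ G),
      (x * y) ≫ f = (x ≫ f) * (y ≫ f)) : IsMonHom f :=
  Groth.Agent.Sga3B.RG.BrDiag.isMonHom_of_specOver_points f h

/-- Morphisms out of an affine scheme are determined by affine points. -/
theorem hom_ext_pt {X Y : Over (Spec (CommRingCat.of k))} [IsAffine X.left] {f g : X ⟶ Y}
    (h : ∀ (B : Type u) [CommRing B] [Algebra k B] (x : pt k B ⟶ X), x ≫ f = x ≫ g) : f = g := by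
  obtain ⟨R, _, _, ⟨e⟩⟩ := exists_iso_pt X
  rw [← cancel_epi e.inv]
  exact h R e.inv

lemma finiteType_of_iso {R : Type u} [CommRing R] [Algebra k R] {X : Over (Spec (CommRingCat.of k))}
    [LocallyOfFiniteType X.hom] (e : X ≅ pt k R) : Algebra.FiniteType k R := by
  have h1 : LocallyOfFiniteType (pt k R).hom := by
    have h2 : (pt k R).hom = e.inv.left ≫ X.hom := (Over.w e.inv).symm
    rw [h2]
    have h4 : IsIso e.inv.left := inferInstanceAs (IsIso ((Over.forget _).map e.inv))
    infer_instance
  have h3 : LocallyOfFiniteType (Spec.map (CommRingCat.ofHom (algebraMap k R))) := h1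
  rw [HasRingHomProperty.Spec_iff (P := @LocallyOfFiniteType)] at h3
  exact RingHom.finiteType_algebraMap.1 h3

lemma isDomain_of_iso {R : Type u} [CommRing R] [Algebra k R] {X : Over (Spec (CommRingCat.of k))}
    [IsIntegral X.left] (e : X ≅ pt k R) : IsDomain R := by
  have h4 : IsIso e.inv.left := inferInstanceAs (IsIso ((Over.forget _).map e.inv))
  have h6 : Nonempty X.left := inferInstance
  have h5 : Nonempty (pt k R).left := ⟨e.hom.left h6.some⟩
  have h1 : IsIntegral (pt k R).left :=
    isIntegral_of_isOpenImmersion e.inv.left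
  have h2 : IsIntegral (Spec (CommRingCat.of R)) := h1
  exact (affine_isIntegral_iff (CommRingCat.of R)).1 h2

end K498.Pts
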