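import Groth.Prelude.Def_W4bk4grossh1223Act
import Mathlib.Algebra.TrivSqZeroExt.Basic
import Mathlib.LinearAlgebra.TensorProduct.Prod
import Mathlib.RingTheory.Finiteness.Finsupp

/-!
# The square-zero algebra `A ⊕ M` of a compatible pair of rational actions

For rational actions `ρA` on a `k`-algebra `A` (multiplicative) and `ρM` on an `A`-module `M` (compatible),
`GModE` is the rational action on `TrivSqZeroExt A M`; it is multiplicative, and its invariants under a subgroup are
the pairs of invariants.  Consequences relate finite generation of `A ⊕ M` as an algebra to that of `M` as a module.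
-/

set_option autoImplicit false
universe u
open CategoryTheory MonObj AlgebraicGeometry
open scoped TensorProduct

namespace K498.SqZero

section

variable {k : Type u} [Field k] {G H : Over (Spec (CommRingCat.of k))} [GrpObj G]
  {A : Type u} [CommRing A] [Algebra k A]
  {M : Type u} [AddCommGroup M] [Module A M] [Module k M] [IsScalarTower k A M]
  [Module Aᵐᵒᵖ M] [IsCentralScalar A M] [IsScalarTower k Aᵐᵒᵖ M]

variable (k A M) in
/-- `A ⊕ M` as the product module -/
def toProd : TrivSqZeroExt A M ≃ₗ[k] A × M where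
  toFun x := (x.fst, x.snd)
  invFun x := (x.1, x.2)
  map_add' _ _ := rfl
  map_smul' _ _ := rfl
  left_inv _ := rfl
  right_inv _ := rfl

variable (k A M) in
/-- `B ⊗ (A ⊕ M) ≃ (B ⊗ A) × (B ⊗ M)` -/
noncomputable def Phi (B : Type u) [CommRing B] [Algebra k B] :
    B ⊗[k] (TrivSqZeroExt A M) ≃ₗ[B] (B ⊗[k] A) × (B ⊗[k] M) :=
  (TensorProduct.AlgebraTensorModule.congr (LinearEquiv.refl B B) (toProd k A M)).trans
    (TensorProduct.prodRight k B B A M)

variable {B : Type u} [CommRing B] [Algebra k B] {B' : Type u} [CommRing B'] [Algebra k B']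

theorem Phi_tmul (b : B) (x : TrivSqZeroExt A M) :
    Phi k A M B (b ⊗ₜ x) = (b ⊗ₜ x.fst, b ⊗ₜ x.snd) := rfl

theorem Phi_Wmap (φ : B →ₐ[k] B') (x : B ⊗[k] (TrivSqZeroExt A M)) :
    Phi k A M B' (VecGrp.Wmap φ x) = (VecGrp.Wmap φ (Phi k A M B x).1, VecGrp.Wmap φ (Phi k A M B x).2) := by
  induction x using TensorProduct.induction_on with
  | zero => rw [map_zero, map_zero, map_zero, Prod.fst_zero, Prod.snd_zero, map_zero, map_zero]; rfl
  | tmul b x => rfl
  | add x y hx hy => rw [map_add, map_add, hx, hy, map_add, Prod.fst_add, Prod.snd_add, map_add, map_add]; rfl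

theorem Phi_mul_fst (x y : B ⊗[k] (TrivSqZeroExt A M)) :
    (Phi k A M B (x * y)).1 = (Phi k A M B x).1 * (Phi k A M B y).1 := by
  induction x using TensorProduct.induction_on with
  | zero => rw [zero_mul, map_zero, Prod.fst_zero, zero_mul]
  | tmul b x =>
    induction y using TensorProduct.induction_on with
    | zero => rw [mul_zero, map_zero, Prod.fst_zero, mul_zero]
    | tmul c y =>
      rw [Algebra.TensorProduct.tmul_mul_tmul, Phi_tmul, Phi_tmul, Phi_tmul, Algebra.TensorProduct.tmul_mul_tmul,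
        TrivSqZeroExt.fst_mul]
    | add y z hy hz => rw [mul_add, map_add, Prod.fst_add, hy, hz, map_add, Prod.fst_add, mul_add]
  | add x z hx hz => rw [add_mul, map_add, Prod.fst_add, hx, hz, map_add, Prod.fst_add, add_mul]

theorem smulW_tmul (b c : B) (a : A) (m : M) :
    VecGrp.GMod.smulW k A M B (b ⊗ₜ a) (c ⊗ₜ m) = (b * c) ⊗ₜ (a • m) := rfl

theorem Phi_mul_snd (x y : B ⊗[k] (TrivSqZeroExt A M)) :
    (Phi k A M B (x * y)).2 = VecGrp.GMod.smulW k A M B (Phi k A M B x).1 (Phi k A M B y).2 +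
      VecGrp.GMod.smulW k A M B (Phi k A M B y).1 (Phi k A M B x).2 := by
  induction x using TensorProduct.induction_on with
  | zero => simp
  | tmul b x =>
    induction y using TensorProduct.induction_on with
    | zero => simp
    | tmul c y =>
      rw [Algebra.TensorProduct.tmul_mul_tmul, Phi_tmul, Phi_tmul, Phi_tmul, smulW_tmul, smulW_tmul,
        TrivSqZeroExt.snd_mul, op_smul_eq_smul, TensorProduct.tmul_add, mul_comm c b]
    | add y z hy hz =>
      rw [mul_add, map_add, Prod.snd_add, hy, hz, map_add, Prod.fst_add, Prod.snd_add, map_add, map_add,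
        LinearMap.add_apply]
      abel
  | add x z hx hz =>
    rw [add_mul, map_add, Prod.snd_add, hx, hz, map_add, Prod.fst_add, Prod.snd_add, map_add, map_add,
        LinearMap.add_apply]
    abel

/-- the action on `A ⊕ M` -/
noncomputable def GModE (ρA : VecGrp.GMod G A) (ρM : VecGrp.GMod G M) : VecGrp.GMod G (TrivSqZeroExt A M) where
  ρ B _ _ :=
    { toFun := fun g => (Phi k A M B).trans (((ρA.ρ B g).prodCongr (ρM.ρ B g)).trans (Phi k A M B).symm)
      map_one' := by
        ext x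
        simp only [map_one, LinearEquiv.trans_apply]
        change (Phi k A M B).symm (Phi k A M B x) = x
        simp
      map_mul' := fun g h => by
        ext x
        simp only [map_mul, LinearEquiv.trans_apply, LinearEquiv.mul_apply, LinearEquiv.apply_symm_apply]
        rfl }
  naturality {B B'} _ _ _ _ φ g x := by
    change VecGrp.Wmap φ ((Phi k A M B).symm (ρA.ρ B g (Phi k A M B x).1, ρM.ρ B g (Phi k A M B x).2)) =
      (Phi k A M B').symm (ρA.ρ B' (VecGrp.ptMap φ ≫ g) (Phi k A M B' (VecGrp.Wmap φ x)).1,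
        ρM.ρ B' (VecGrp.ptMap φ ≫ g) (Phi k A M B' (VecGrp.Wmap φ x)).2)
    rw [LinearEquiv.eq_symm_apply, Phi_Wmap, Phi_Wmap, LinearEquiv.apply_symm_apply, ← ρA.naturality, ← ρM.naturality]

theorem Phi_ρ (ρA : VecGrp.GMod G A) (ρM : VecGrp.GMod G M) (g : VecGrp.pt k B ⟶ G)
    (x : B ⊗[k] (TrivSqZeroExt A M)) :
    Phi k A M B ((GModE ρA ρM).ρ B g x) = (ρA.ρ B g (Phi k A M B x).1, ρM.ρ B g (Phi k A M B x).2) :=
  (Phi k A M B).apply_symm_apply _

theorem GModE_isMult {ρA : VecGrp.GMod G A} (hρ : ρA.IsMult) {ρM : VecGrp.GMod G M}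
    (hc : VecGrp.GMod.IsCompat ρA ρM) : (GModE ρA ρM).IsMult := by
  intro B _ _ g
  constructor
  · intro x y
    apply (Phi k A M B).injective
    apply Prod.ext
    · rw [Phi_mul_fst, Phi_ρ, Phi_ρ, Phi_ρ, Phi_mul_fst]
      exact (hρ B g).1 _ _
    · rw [Phi_mul_snd, Phi_ρ, Phi_ρ, Phi_ρ, Phi_mul_snd]
      change ρM.ρ B g (_ + _) = _
      rw [map_add, hc B g, hc B g]
  · apply (Phi k A M B).injective
    rw [Phi_ρ, Algebra.TensorProduct.one_def, Phi_tmul]
    apply Prod.ext
    · change ρA.ρ B g ((1 : B) ⊗ₜ[k] (1 : A)) = (1 : B) ⊗ₜ[k] (1 : A)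
      rw [← Algebra.TensorProduct.one_def]
      exact (hρ B g).2
    · change ρM.ρ B g ((1 : B) ⊗ₜ[k] (0 : M)) = (1 : B) ⊗ₜ[k] (0 : M)
      rw [TensorProduct.tmul_zero, map_zero]

theorem mem_fixedUnder_GModE {ρA : VecGrp.GMod G A} {ρM : VecGrp.GMod G M} (i : H ⟶ G) (x : TrivSqZeroExt A M) :
    x ∈ (GModE ρA ρM).fixedUnder i ↔ x.fst ∈ ρA.fixedUnder i ∧ x.snd ∈ ρM.fixedUnder i := by
  constructor
  · intro h
    refine ⟨fun B _ _ g => ?_, fun B _ _ g => ?_⟩
    · have h1 := congrArg (fun z => (Phi k A M B z).1) (h B g)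
      simp only [Phi_ρ] at h1
      exact h1
    · have h1 := congrArg (fun z => (Phi k A M B z).2) (h B g)
      simp only [Phi_ρ] at h1
      exact h1
  · rintro ⟨h1, h2⟩ B _ _ g
    apply (Phi k A M B).injective
    rw [Phi_ρ]
    exact Prod.ext (h1 B g) (h2 B g)

end

section Gen

variable {k : Type u} [Field k]
  {A : Type u} [CommRing A] [Algebra k A]
  {M : Type u} [AddCommGroup M] [Module A M] [Module k M] [IsScalarTower k A M]
  [Module Aᵐᵒᵖ M] [IsCentralScalar A M] [IsScalarTower k Aᵐᵒᵖ M]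

/-- the subalgebra `A₀ ⊕ N` of `A ⊕ M` -/
def subalg (A₀ : Subalgebra k A) (N : Submodule A₀ M) : Subalgebra k (TrivSqZeroExt A M) where
  carrier := {x | x.fst ∈ A₀ ∧ x.snd ∈ N}
  mul_mem' {x y} hx hy := by
    refine ⟨A₀.mul_mem hx.1 hy.1, ?_⟩
    rw [TrivSqZeroExt.snd_mul, op_smul_eq_smul]
    exact N.add_mem (N.smul_mem (⟨x.fst, hx.1⟩ : A₀) hy.2) (N.smul_mem (⟨y.fst, hy.1⟩ : A₀) hx.2)
  add_mem' {x y} hx hy := ⟨A₀.add_mem hx.1 hy.1, N.add_mem hx.2 hy.2⟩
  algebraMap_mem' c := ⟨A₀.algebraMap_mem c, N.zero_mem⟩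

theorem snd_mem_span {A₀ : Subalgebra k A} {s : Set (TrivSqZeroExt A M)} (hs : ∀ x ∈ s, x.fst ∈ A₀)
    {x : TrivSqZeroExt A M} (hx : x ∈ Algebra.adjoin k s) :
    x.snd ∈ Submodule.span A₀ (TrivSqZeroExt.snd '' s) := by
  have h : Algebra.adjoin k s ≤ subalg A₀ (Submodule.span A₀ (TrivSqZeroExt.snd '' s)) :=
    Algebra.adjoin_le fun y hy => ⟨hs y hy, Submodule.subset_span ⟨y, hy, rfl⟩⟩
  exact (h hx).2

/-- if the algebra `A ⊕ M` is of finite type then the module `M` is finite -/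
theorem finite_of_finiteType (h : Algebra.FiniteType k (TrivSqZeroExt A M)) : Module.Finite A M := by
  classical
  obtain ⟨s, hs⟩ := h.out
  refine ⟨⟨s.image TrivSqZeroExt.snd, ?_⟩⟩
  rw [eq_top_iff]
  rintro m -
  have hm : (TrivSqZeroExt.inr m : TrivSqZeroExt A M) ∈ Algebra.adjoin k (s : Set (TrivSqZeroExt A M)) := by
    rw [hs]; trivial
  have h1 := snd_mem_span (A₀ := (⊤ : Subalgebra k A)) (fun _ _ => Algebra.mem_top) hm
  rw [TrivSqZeroExt.snd_inr] at h1
  rw [Finset.coe_image]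
  refine Submodule.span_induction (p := fun y _ => y ∈ Submodule.span A _) ?_ ?_ ?_ ?_ h1
  · intro x hx
    exact Submodule.subset_span hx
  · exact Submodule.zero_mem _
  · intro x y _ _ hx hy
    exact Submodule.add_mem _ hx hy
  · intro a x _ hx
    exact Submodule.smul_mem _ (a : A) hx

/-- if `A` is of finite type and `M` is finite over `A` then the algebra `A ⊕ M` is of finite type -/
theorem finiteType_of_finite [Algebra.FiniteType k A] [Module.Finite A M] :
    Algebra.FiniteType k (TrivSqZeroExt A M) := by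
  let f : A × M →ₗ[A] TrivSqZeroExt A M :=
      { toFun := fun x => (x.1, x.2)
        map_add' := fun _ _ => rfl
        map_smul' := fun _ _ => rfl }
  have : Module.Finite A (TrivSqZeroExt A M) :=
    Module.Finite.of_surjective f (fun x => ⟨(x.fst, x.snd), rfl⟩)
  have : IsScalarTower k A (TrivSqZeroExt A M) := inferInstance
  exact Algebra.FiniteType.trans (S := A) inferInstance inferInstance

end Gen

section Inv

variable {k : Type u} [Field k] {G H : Over (Spec (CommRingCat.of k))} [GrpObj G]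
  {A : Type u} [CommRing A] [Algebra k A] (ρA : VecGrp.GMod G A) (hρ : ρA.IsMult)
  {M : Type u} [AddCommGroup M] [Module A M] [Module k M] [IsScalarTower k A M]
  (ρM : VecGrp.GMod G M) (hc : VecGrp.GMod.IsCompat ρA ρM) (i : H ⟶ G)

section

variable [Module Aᵐᵒᵖ M] [IsCentralScalar A M] [IsScalarTower k Aᵐᵒᵖ M]

include hρ in
/-- if the invariants of `A ⊕ M` are a finitely generated algebra then `M^H` is a finitely generated `A^H`-module -/
theorem exists_span_of_adjoinFG
    (h : VecGrp.AdjoinFG k ((GModE ρA ρM).fixedUnder i : Set (TrivSqZeroExt A M))) :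
    ∃ s : Finset M, (↑s : Set M) ⊆ ρM.fixedUnder i ∧
      ρM.fixedUnder i ≤ (Submodule.span ↥(ρA.fixedSubalgebra hρ i) (↑s : Set M)).restrictScalars k := by
  classical
  obtain ⟨s, hs1, hs2⟩ := h
  refine ⟨s.image TrivSqZeroExt.snd, ?_, ?_⟩
  · intro m hm
    rw [Finset.coe_image] at hm
    obtain ⟨x, hx, rfl⟩ := hm
    exact ((mem_fixedUnder_GModE i x).1 (hs1 hx)).2
  · intro m hm
    have h1 : (TrivSqZeroExt.inr m : TrivSqZeroExt A M) ∈ (GModE ρA ρM).fixedUnder i := by
      rw [mem_fixedUnder_GModE]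
      exact ⟨Submodule.zero_mem _, hm⟩
    have h2 := snd_mem_span (A₀ := ρA.fixedSubalgebra hρ i)
      (fun x hx => ((mem_fixedUnder_GModE i x).1 (hs1 hx)).1) (hs2 h1)
    rw [Finset.coe_image]
    exact h2

/-- the invariants of `A ⊕ M` are a finitely generated algebra if `A^H` is and `M^H` is a finitely generated
`A^H`-module -/
theorem finiteType_fixedSubalgebra_GModE (hfg : Algebra.FiniteType k ↥(ρA.fixedSubalgebra hρ i))
    (s : Finset M) (hs : (↑s : Set M) ⊆ ρM.fixedUnder i)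
    (hs' : ρM.fixedUnder i ≤ (Submodule.span ↥(ρA.fixedSubalgebra hρ i) (↑s : Set M)).restrictScalars k) :
    Algebra.FiniteType k ↥((GModE ρA ρM).fixedSubalgebra (GModE_isMult hρ hc) i) := by
  classical
  let A₀ := ρA.fixedSubalgebra hρ i
  let E₀ := (GModE ρA ρM).fixedSubalgebra (GModE_isMult hρ hc) i
  -- `E₀` is an `A₀`-algebra through `inl`
  let jj : A₀ →ₐ[k] E₀ := ((TrivSqZeroExt.inlAlgHom k A M).comp A₀.val).codRestrict E₀ (fun a =>
    (mem_fixedUnder_GModE i _).2 ⟨a.2, Submodule.zero_mem _⟩)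
  let _ : Algebra A₀ E₀ := jj.toRingHom.toAlgebra
  have : IsScalarTower k A₀ E₀ := IsScalarTower.of_algebraMap_eq (fun c => (jj.commutes c).symm)
  have hsmul : ∀ (a : A₀) (x : E₀), ((a • x : E₀) : TrivSqZeroExt A M) = (a : A) • (x : TrivSqZeroExt A M) := by
    intro a x
    rw [Algebra.smul_def]
    change (TrivSqZeroExt.inl (a : A) : TrivSqZeroExt A M) * (x : TrivSqZeroExt A M) = _
    exact TrivSqZeroExt.inl_mul_eq_smul _ _
  let e : {m : M // m ∈ s} → E₀ := fun m => ⟨TrivSqZeroExt.inr (m : M),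
    (mem_fixedUnder_GModE i _).2 ⟨Submodule.zero_mem _, hs m.2⟩⟩
  have : Module.Finite A₀ E₀ := by
    refine ⟨⟨insert 1 (Finset.univ.image e), ?_⟩⟩
    rw [eq_top_iff]
    rintro ⟨x, hx⟩ -
    obtain ⟨h1, h2⟩ := (mem_fixedUnder_GModE i x).1 hx
    have hdec : (⟨x, hx⟩ : E₀) = (⟨x.fst, h1⟩ : A₀) • (1 : E₀) +
        ⟨TrivSqZeroExt.inr x.snd, (mem_fixedUnder_GModE i _).2 ⟨Submodule.zero_mem _, h2⟩⟩ := by
      apply Subtype.ext
      change x = ((_ : E₀) : TrivSqZeroExt A M) + (TrivSqZeroExt.inr x.snd : TrivSqZeroExt A M)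
      rw [hsmul]
      apply TrivSqZeroExt.ext
      · rw [TrivSqZeroExt.fst_add, TrivSqZeroExt.fst_smul, TrivSqZeroExt.fst_inr, add_zero]
        change x.fst = x.fst • (1 : TrivSqZeroExt A M).fst
        rw [TrivSqZeroExt.fst_one, smul_eq_mul, _root_.mul_one]
      · rw [TrivSqZeroExt.snd_add, TrivSqZeroExt.snd_smul, TrivSqZeroExt.snd_inr]
        change x.snd = x.fst • (1 : TrivSqZeroExt A M).snd + x.snd
        rw [TrivSqZeroExt.snd_one, smul_zero, zero_add]
    rw [hdec]
    refine Submodule.add_mem _ (Submodule.smul_mem _ _ (Submodule.subset_span (by simp))) ?_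
    have h3 : x.snd ∈ Submodule.span A₀ (s : Set M) := hs' h2
    refine Submodule.span_induction (p := fun m _ => ∀ hm : m ∈ ρM.fixedUnder i,
      (⟨TrivSqZeroExt.inr m, (mem_fixedUnder_GModE i _).2 ⟨Submodule.zero_mem _, hm⟩⟩ : E₀) ∈
        Submodule.span A₀ _) ?_ ?_ ?_ ?_ h3 h2
    · intro m hm _
      exact Submodule.subset_span (by
        rw [Finset.coe_insert, Finset.coe_image]
        exact Or.inr ⟨⟨m, hm⟩, Finset.mem_coe.2 (Finset.mem_univ _), rfl⟩)
    · intro _
      have h0 : (⟨TrivSqZeroExt.inr (0 : M), (mem_fixedUnder_GModE i _).2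
          ⟨Submodule.zero_mem _, Submodule.zero_mem _⟩⟩ : E₀) = 0 := Subtype.ext (TrivSqZeroExt.inr_zero A)
      rw [h0]
      exact Submodule.zero_mem _
    · intro m m' hm hm' ih ih' _
      have hfix : ∀ m ∈ Submodule.span A₀ (s : Set M), m ∈ ρM.fixedUnder i := by
        intro m hm
        refine Submodule.span_induction (p := fun m _ => m ∈ ρM.fixedUnder i) (fun x hx => hs hx)
          (Submodule.zero_mem _) (fun _ _ _ _ hx hy => Submodule.add_mem _ hx hy) ?_ hm
        intro a x _ hx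
        have h4 : (TrivSqZeroExt.inl (a : A) * TrivSqZeroExt.inr x : TrivSqZeroExt A M) ∈ E₀ :=
          E₀.mul_mem ((mem_fixedUnder_GModE i _).2 ⟨a.2, Submodule.zero_mem _⟩)
            ((mem_fixedUnder_GModE i _).2 ⟨Submodule.zero_mem _, hx⟩)
        rw [TrivSqZeroExt.inl_mul_inr] at h4
        exact ((mem_fixedUnder_GModE i _).1 h4).2
      have h5 : (⟨TrivSqZeroExt.inr (m + m'), (mem_fixedUnder_GModE i _).2
          ⟨Submodule.zero_mem _, ‹_›⟩⟩ : E₀) =
          ⟨TrivSqZeroExt.inr m, (mem_fixedUnder_GModE i _).2 ⟨Submodule.zero_mem _, hfix m hm⟩⟩ +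
          ⟨TrivSqZeroExt.inr m', (mem_fixedUnder_GModE i _).2 ⟨Submodule.zero_mem _, hfix m' hm'⟩⟩ :=
        Subtype.ext (TrivSqZeroExt.inr_add A m m')
      rw [h5]
      exact Submodule.add_mem _ (ih (hfix m hm)) (ih' (hfix m' hm'))
    · intro a m hm ih _
      have hfix : ∀ m ∈ Submodule.span A₀ (s : Set M), m ∈ ρM.fixedUnder i := by
        intro m hm
        refine Submodule.span_induction (p := fun m _ => m ∈ ρM.fixedUnder i) (fun x hx => hs hx)
          (Submodule.zero_mem _) (fun _ _ _ _ hx hy => Submodule.add_mem _ hx hy) ?_ hm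
        intro a x _ hx
        have h4 : (TrivSqZeroExt.inl (a : A) * TrivSqZeroExt.inr x : TrivSqZeroExt A M) ∈ E₀ :=
          E₀.mul_mem ((mem_fixedUnder_GModE i _).2 ⟨a.2, Submodule.zero_mem _⟩)
            ((mem_fixedUnder_GModE i _).2 ⟨Submodule.zero_mem _, hx⟩)
        rw [TrivSqZeroExt.inl_mul_inr] at h4
        exact ((mem_fixedUnder_GModE i _).1 h4).2
      have h5 : (⟨TrivSqZeroExt.inr (a • m), (mem_fixedUnder_GModE i _).2
          ⟨Submodule.zero_mem _, ‹_›⟩⟩ : E₀) =
          a • ⟨TrivSqZeroExt.inr m, (mem_fixedUnder_GModE i _).2 ⟨Submodule.zero_mem _, hfix m hm⟩⟩ := by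
        apply Subtype.ext
        rw [hsmul]
        exact TrivSqZeroExt.inr_smul A (a : A) m
      rw [h5]
      exact Submodule.smul_mem _ _ (ih (hfix m hm))
  exact Algebra.FiniteType.trans (S := A₀) hfg inferInstance

end

/-- `M^G` is a finitely generated `A^G`-module when invariants on finitely generated algebras are finitely
generated -/
theorem exists_span_of_reductiveInvariantsFG
    (hG : VecGrp.IsReductiveGrp k G) (thmA : VecGrp.ReductiveInvariantsFG k)
    [Algebra.FiniteType k A] [Module.Finite A M] (hc : VecGrp.GMod.IsCompat ρA ρM) :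
    ∃ s : Finset M, (↑s : Set M) ⊆ ρM.fixedUnder (𝟙 G) ∧
      ρM.fixedUnder (𝟙 G) ≤ (Submodule.span ↥(ρA.fixedSubalgebra hρ (𝟙 G)) (↑s : Set M)).restrictScalars k := by
  let _ : Module Aᵐᵒᵖ M := Module.compHom M ((RingHom.id A).fromOpposite mul_comm)
  have : IsCentralScalar A M := ⟨fun _ _ => rfl⟩
  have : IsScalarTower k Aᵐᵒᵖ M := ⟨fun c a m => by
    change (MulOpposite.unop (c • a)) • m = c • (MulOpposite.unop a) • m
    rw [MulOpposite.unop_smul, smul_assoc]⟩
  exact exists_span_of_adjoinFG ρA hρ ρM (𝟙 G)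
    (thmA G hG _ (GModE ρA ρM) (GModE_isMult hρ hc) finiteType_of_finite)

end Inv

end K498.SqZero
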