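import Groth.Agent.AGF.K498.SqZero

/-!
# Finite generation of modules and of their invariants under a maximal unipotent subgroup, from the algebra case
-/

set_option autoImplicit false
universe u
open CategoryTheory MonObj AlgebraicGeometry
open scoped TensorProduct

namespace K498.SqZero

theorem adjoinFG_of_finiteType {k : Type u} [Field k] {A : Type u} [CommRing A] [Algebra k A] (S : Subalgebra k A)
    (h : Algebra.FiniteType k S) : VecGrp.AdjoinFG k (S : Set A) := by
  classical
  have h1 : S.FG := S.fg_iff_finiteType.2 h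
  obtain ⟨s, hs⟩ := h1
  refine ⟨s, ?_, ?_⟩
  · rw [← hs]; exact Algebra.subset_adjoin
  · rw [hs]

/-- `M` is finite over `A` iff `M^H` is a finitely generated `A^H`-module, if for all algebras finite generation of
`A` and `A^H` are equivalent -/
theorem moduleFinite_iff {k : Type u} [Field k] {G H : Over (Spec (CommRingCat.of k))} [GrpObj G] (i : H ⟶ G)
    (h208 : ∀ (A : Type u) [CommRing A] [Algebra k A] [Algebra.FiniteType k A] (ρ : VecGrp.GMod G A) (hρ : ρ.IsMult),
      Algebra.FiniteType k ↥(ρ.fixedSubalgebra hρ i))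
    (h225 : ∀ (A : Type u) [CommRing A] [Algebra k A] (ρ : VecGrp.GMod G A) (hρ : ρ.IsMult),
      Algebra.FiniteType k ↥(ρ.fixedSubalgebra hρ i) → Algebra.FiniteType k A)
    (A : Type u) [CommRing A] [Algebra k A] [Algebra.FiniteType k A] (ρA : VecGrp.GMod G A) (hρ : ρA.IsMult)
    (M : Type u) [AddCommGroup M] [Module A M] [Module k M] [IsScalarTower k A M] (ρM : VecGrp.GMod G M)
    (hc : VecGrp.GMod.IsCompat ρA ρM) :
    Module.Finite A M ↔
      ∃ s : Finset M, (↑s : Set M) ⊆ ρM.fixedUnder i ∧
        ρM.fixedUnder i ≤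
          (Submodule.span ↥(ρA.fixedSubalgebra hρ i) (↑s : Set M)).restrictScalars k := by
  let _ : Module Aᵐᵒᵖ M := Module.compHom M ((RingHom.id A).fromOpposite mul_comm)
  have : IsCentralScalar A M := ⟨fun _ _ => rfl⟩
  have : IsScalarTower k Aᵐᵒᵖ M := ⟨fun c a m => by
    change (MulOpposite.unop (c • a)) • m = c • (MulOpposite.unop a) • m
    rw [MulOpposite.unop_smul, smul_assoc]⟩
  constructor
  · intro hM
    have : Algebra.FiniteType k (TrivSqZeroExt A M) := finiteType_of_finite
    exact exists_span_of_adjoinFG ρA hρ ρM i (adjoinFG_of_finiteType _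
      (h208 (TrivSqZeroExt A M) (GModE ρA ρM) (GModE_isMult hρ hc)))
  · rintro ⟨s, hs, hs'⟩
    exact finite_of_finiteType (k := k) (h225 _ (GModE ρA ρM) (GModE_isMult hρ hc)
      (finiteType_fixedSubalgebra_GModE ρA hρ ρM hc i (h208 A ρA hρ) s hs hs'))

end K498.SqZero
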