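import Groth.Agent.AGF.K498.SqZero2

/-!
# Finiteness of modules from finiteness of invariants
-/

set_option autoImplicit false
universe u
open CategoryTheory MonoidalCategory CartesianMonoidalCategory MonObj GrpObj AlgebraicGeometry
open scoped TensorProduct

namespace K498.SqZero

section triv

variable (k : Type u) [Field k] (G : Over (Spec (CommRingCat.of k))) [GrpObj G]
  (A : Type u) [CommRing A] [Algebra k A]

/-- The trivial action. -/
noncomputable def trivGMod : VecGrp.GMod G A where
  ρ B _ _ := { toFun := fun _ => LinearEquiv.refl B _, map_one' := rfl, map_mul' := fun _ _ => rfl }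
  naturality := fun _ _ _ => rfl

lemma trivGMod_isMult : (trivGMod k G A).IsMult := fun _ _ _ _ => ⟨fun _ _ => rfl, rfl⟩

lemma trivGMod_isCompat {V : Type u} [AddCommGroup V] [Module k V] (ρ : VecGrp.GMod G V) :
    VecGrp.GMod.IsCompat (trivGMod k G k) ρ := by
  intro B _ _ g x y
  change ρ.ρ B g (VecGrp.GMod.smulW k k V B x y) = VecGrp.GMod.smulW k k V B x (ρ.ρ B g y)
  induction x using TensorProduct.induction_on with
  | zero => simp
  | add x x' hx hx' => rw [map_add, LinearMap.add_apply, map_add, hx, hx', LinearMap.add_apply]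
  | tmul b a =>
    have h1 : ∀ y : B ⊗[k] V, VecGrp.GMod.smulW k k V B (b ⊗ₜ a) y = (a • b) • y := by
      intro y
      induction y using TensorProduct.induction_on with
      | zero => simp
      | add y y' hy hy' => rw [map_add, hy, hy', smul_add]
      | tmul c v =>
        have h2 : VecGrp.GMod.smulW k k V B (b ⊗ₜ a) (c ⊗ₜ v) = (b * c) ⊗ₜ (a • v) := rfl
        rw [h2, TensorProduct.smul_tmul', TensorProduct.tmul_smul, TensorProduct.smul_tmul',
          smul_eq_mul, smul_mul_assoc]
    rw [h1, h1, map_smul]

end triv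

variable {k : Type u} [Field k] {G H : Over (Spec (CommRingCat.of k))} [GrpObj G]

/-- A rational module is finite-dimensional if its invariants are. -/
theorem finite_iff (i : H ⟶ G)
    (h208 : ∀ (A : Type u) [CommRing A] [Algebra k A] [Algebra.FiniteType k A] (ρ : VecGrp.GMod G A) (hρ : ρ.IsMult),
      Algebra.FiniteType k ↥(ρ.fixedSubalgebra hρ i))
    (h225 : ∀ (A : Type u) [CommRing A] [Algebra k A] (ρ : VecGrp.GMod G A) (hρ : ρ.IsMult),
      Algebra.FiniteType k ↥(ρ.fixedSubalgebra hρ i) → Algebra.FiniteType k A)
    (V : Type u) [AddCommGroup V] [Module k V] (ρ : VecGrp.GMod G V) :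
    Module.Finite k V ↔ Module.Finite k ↥(ρ.fixedUnder i) := by
  constructor
  · intro h
    exact Module.Finite.of_injective (ρ.fixedUnder i).subtype (ρ.fixedUnder i).injective_subtype
  · intro h
    rw [moduleFinite_iff i h208 h225 k (trivGMod k G k) (trivGMod_isMult k G k) V ρ
      (trivGMod_isCompat k G ρ)]
    obtain ⟨s, hs⟩ := (Submodule.fg_iff_finiteDimensional _).2 h
    refine ⟨s, ?_, ?_⟩
    · rw [← hs]; exact Submodule.subset_span
    · rw [← hs, Submodule.span_le]
      intro x hx
      exact Submodule.subset_span hx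

end K498.SqZero
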