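import Groth.Agent.AGF.K495.GModPt2

/-!
# Stable subspaces of rational modules are rational modules
-/

set_option autoImplicit false
set_option linter.unusedSectionVars false

universe u v

open CategoryTheory MonoidalCategory CartesianMonoidalCategory MonObj GrpObj AlgebraicGeometry
open scoped TensorProduct

namespace K498.SubMod

open Groth.Agent.Books.AffBridge Groth.Agent.Books.AffBridge2
open Groth.Agent.Sga3B.RG Groth.Agent.Sga3B.RG.BrPts K495.ObsPt K495.Bridge K495.GModPt

variable {k : Type u} [Field k] [IsAlgClosed k] {C : Type u} [CommRing C] [HopfAlgebra k C]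
  [Algebra.FiniteType k C] [_root_.IsReduced C]
  {H : Over (Spec (CommRingCat.of k))} [GrpObj H] (e : H ≅ SpecOver k C) [IsMonHom e.hom]
  {M : Type u} [AddCommGroup M] [Module k M]

omit [IsAlgClosed k] [Algebra.FiniteType k C] [_root_.IsReduced C] [HopfAlgebra k C] [CommRing C] in
lemma baseChange_injective (W : Submodule k M) (B : Type u) [CommRing B] [Algebra k B] :
    Function.Injective (W.subtype.baseChange B) :=
  Module.Flat.lTensor_preserves_injective_linearMap W.subtype W.injective_subtype

/-- The restriction of a rational module to a stable subspace. -/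
theorem exists_sub (m : VecGrp.GMod H M) (W : Submodule k M)
    (hW : ∀ p : Pt k C, ∀ x ∈ W, rep e m p x ∈ W) :
    ∃ m' : VecGrp.GMod H W, (∀ p x, (rep e m' p x : M) = rep e m p x) ∧
      ∀ (B : Type u) [CommRing B] [Algebra k B] (h : VecGrp.pt k B ⟶ H) (x : B ⊗[k] W),
        W.subtype.baseChange B (m'.ρ B h x) = m.ρ B h (W.subtype.baseChange B x) := by
  obtain ⟨m', hm'⟩ := exists_gmod_of_rat e ((rep e m).subrepresentation W hW) (by
    intro x
    have h1 := coact_mem_baseChange W e (m := m) (x := x) (fun p => hW p x x.2)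
    obtain ⟨t, ht⟩ := h1
    refine ⟨t, fun p => ?_⟩
    apply Subtype.ext
    have h2 : W.subtype (evT W p.ofConv t) = evT M p.ofConv (W.subtype.baseChange C t) :=
      (evT_baseChange p.ofConv W.subtype t).symm
    refine Eq.trans ?_ h2.symm
    have h3 : W.subtype.baseChange C t = coact e m x := ht
    rw [h3, ← rep_apply]
    rfl)
  have h1 : ∀ p x, (rep e m' p x : M) = rep e m p x := by
    intro p x
    rw [hm']
    rfl
  exact ⟨m', h1, (equivariant_iff e m' m W.subtype).2 h1⟩

omit [IsAlgClosed k] [Algebra.FiniteType k C] [_root_.IsReduced C] [HopfAlgebra k C] [CommRing C] in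
/-- Invariants of the restriction. -/
theorem mem_fixedUnder_sub {m : VecGrp.GMod H M} {W : Submodule k M} {m' : VecGrp.GMod H W}
    (h : ∀ (B : Type u) [CommRing B] [Algebra k B] (h : VecGrp.pt k B ⟶ H) (x : B ⊗[k] W),
        W.subtype.baseChange B (m'.ρ B h x) = m.ρ B h (W.subtype.baseChange B x))
    {N : Over (Spec (CommRingCat.of k))} (i : N ⟶ H) (x : W) :
    x ∈ m'.fixedUnder i ↔ (x : M) ∈ m.fixedUnder i := by
  refine forall_congr' fun B => forall_congr' fun _ => forall_congr' fun _ => forall_congr' fun g => ?_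
  rw [← (baseChange_injective W B).eq_iff, h, LinearMap.baseChange_tmul]
  rfl

/-- The restriction of a multiplicative action to a stable subalgebra. -/
theorem exists_subalg {A : Type u} [CommRing A] [Algebra k A] (m : VecGrp.GMod H A) (hm : m.IsMult)
    (R : Subalgebra k A) (hR : ∀ p : Pt k C, ∀ x ∈ R, rep e m p x ∈ R) :
    ∃ (m' : VecGrp.GMod H R) (hm' : m'.IsMult),
      ∀ {N : Over (Spec (CommRingCat.of k))} (i : N ⟶ H) (x : R),
        x ∈ m'.fixedSubalgebra hm' i ↔ (x : A) ∈ m.fixedSubalgebra hm i := by
  obtain ⟨m', h1, h2⟩ := exists_sub e m (Subalgebra.toSubmodule R) hR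
  have h3 := (isMult_iff e m).1 hm
  let m'' : VecGrp.GMod H R := m'
  have hm'' : m''.IsMult := by
    rw [isMult_iff e]
    intro p
    refine ⟨fun x y => ?_, ?_⟩
    · apply Subtype.ext
      exact (h1 p (x * y)).trans (((h3 p).1 x y).trans (congrArg₂ (· * ·) (h1 p x).symm (h1 p y).symm))
    · apply Subtype.ext
      exact (h1 p (1 : R)).trans (h3 p).2
  refine ⟨m'', hm'', fun i x => ?_⟩
  exact mem_fixedUnder_sub h2 i x

end K498.SubMod
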