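import Mathlib.RingTheory.UniqueFactorizationDomain.Basic
import Mathlib.RingTheory.TensorProduct.Quotient
import Groth.Agent.Fdesc.TensorDomain
import Groth.Agent.Sga3B.RG.Nullst

/-!
# Units and primes of `R ⊗ A` over an algebraically closed field
-/

set_option autoImplicit false

universe u v w

open TensorProduct

namespace K498.UfdAlg

variable {k : Type u} [Field k] [IsAlgClosed k] {R : Type v} [CommRing R] [Algebra k R]
  {A : Type w} [CommRing A] [Algebra k A]

/-- evaluation of the first factor at a point -/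
noncomputable def evL (A : Type w) [CommRing A] [Algebra k A] (x : R →ₐ[k] k) : R ⊗[k] A →ₐ[k] A :=
  (Algebra.TensorProduct.lid k A).toAlgHom.comp (Algebra.TensorProduct.map x (AlgHom.id k A))

omit [IsAlgClosed k] in
@[simp] lemma evL_tmul (x : R →ₐ[k] k) (r : R) (a : A) : evL A x (r ⊗ₜ a) = x r • a := by
  simp [evL]

/-- If the units of `A` are scalars, then the units of `R ⊗ A` come from `R`. -/
theorem exists_of_isUnit [Algebra.FiniteType k R] [IsReduced R] [Nontrivial A]
    (hu : ∀ x : Aˣ, (x : A) ∈ Set.range (algebraMap k A)) (w : R ⊗[k] A) (hw : IsUnit w) :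
    ∃ r : R, w = r ⊗ₜ[k] (1 : A) := by
  let V := A ⧸ (LinearMap.range (Algebra.linearMap k A))
  let π : A →ₗ[k] V := Submodule.mkQ _
  have h0 : LinearMap.lTensor R π w = 0 := by
    refine Groth.Agent.Sga3B.RG.tensor_eq_zero_of_rTensor
      (F := {f | ∃ x : R →ₐ[k] k, f = x.toLinearMap}) ?_ _ ?_
    · intro v hv
      exact Groth.Agent.Sga3B.RG.eq_zero_of_forall_algHom (K := k) fun x => hv _ ⟨x, rfl⟩
    · rintro _ ⟨x, rfl⟩
      have h1 : (TensorProduct.lid k V) (LinearMap.rTensor V x.toLinearMap (LinearMap.lTensor R π w)) =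
          π (evL A x w) := by
        clear hw
        induction w using TensorProduct.induction_on with
        | zero => simp
        | tmul r a => simp
        | add y z hy hz => rw [map_add, map_add, map_add, hy, hz, map_add, map_add]
      rw [h1]
      obtain ⟨c, hc⟩ := hu (hw.map (evL A x)).unit
      rw [IsUnit.unit_spec] at hc
      exact (Submodule.Quotient.mk_eq_zero _).2 ⟨c, hc⟩
  have hex : Function.Exact (LinearMap.lTensor R (Algebra.linearMap k A)) (LinearMap.lTensor R π) := by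
    apply lTensor_exact R (f := Algebra.linearMap k A) (g := π)
    · rw [LinearMap.exact_iff, Submodule.ker_mkQ]
    · exact Submodule.mkQ_surjective _
  obtain ⟨y, hy⟩ := (hex w).1 h0
  refine ⟨TensorProduct.rid k R y, ?_⟩
  rw [← hy]
  clear hy h0 hw
  induction y using TensorProduct.induction_on with
  | zero => simp
  | tmul r c =>
    rw [LinearMap.lTensor_tmul, TensorProduct.rid_tmul, TensorProduct.smul_tmul,
      Algebra.linearMap_apply, Algebra.algebraMap_eq_smul_one]
  | add y z hy hz => rw [map_add, hy, hz, map_add, TensorProduct.add_tmul]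

/-- `1 ⊗ p` is prime in `R ⊗ A` for `p` prime. -/
theorem prime_tmul [IsDomain R] [IsDomain A] {p : A} (hp : Prime p) :
    Prime ((1 : R) ⊗ₜ[k] p) := by
  have hinj : Function.Injective (Algebra.TensorProduct.includeRight : A →ₐ[k] R ⊗[k] A) :=
    Algebra.TensorProduct.includeRight_injective (FaithfulSMul.algebraMap_injective k R)
  have h0 : (1 : R) ⊗ₜ[k] p ≠ 0 := by
    intro h
    apply hp.ne_zero
    apply hinj
    rw [map_zero]
    exact h
  rw [← Ideal.span_singleton_prime h0]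
  have h1 : (Ideal.span {p}).IsPrime := (Ideal.span_singleton_prime hp.ne_zero).2 hp
  have h2 : IsDomain (A ⧸ Ideal.span {p}) := Ideal.Quotient.isDomain _
  have h3 : IsDomain (R ⊗[k] (A ⧸ Ideal.span {p})) :=
    Groth.Agent.Fdesc.TensorDomain.isDomain_tensorProduct
  have h4 : RingHom.ker (Algebra.TensorProduct.map (AlgHom.id k R)
      (Ideal.Quotient.mkₐ k (Ideal.span {p}))) = Ideal.span {(1 : R) ⊗ₜ[k] p} := by
    rw [Algebra.TensorProduct.lTensor_ker _ (Ideal.Quotient.mkₐ_surjective k _)]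
    have h5 : RingHom.ker (Ideal.Quotient.mkₐ k (Ideal.span {p})) = Ideal.span {p} := Ideal.mk_ker
    rw [h5, Ideal.map_span, Set.image_singleton]
    rfl
  rw [← h4]
  exact RingHom.ker_isPrime _

/-- The key lemma: a prime factor of an invariant is a semi-invariant. -/
theorem exists_of_dvd [Algebra.FiniteType k R] [IsDomain R] [IsDomain A] [UniqueFactorizationMonoid A]
    (hu : ∀ x : Aˣ, (x : A) ∈ Set.range (algebraMap k A))
    (ε : R →ₐ[k] k) (σ : R ⊗[k] A ≃+* R ⊗[k] A)
    (hε : ∀ a : A, evL A ε (σ (1 ⊗ₜ a)) = a) {f p : A} (hf : f ≠ 0) (hfi : σ (1 ⊗ₜ f) = 1 ⊗ₜ f)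
    (hp : Prime p) (hpf : p ∣ f) : ∃ r : R, σ (1 ⊗ₜ p) = r ⊗ₜ p := by
  classical
  have hdom : IsDomain (R ⊗[k] A) := Groth.Agent.Fdesc.TensorDomain.isDomain_tensorProduct
  have hσp : Prime (σ ((1 : R) ⊗ₜ[k] p)) := by
    rw [MulEquiv.prime_iff]
    exact prime_tmul hp
  -- `σ p` divides `f`
  have h1 : σ ((1 : R) ⊗ₜ[k] p) ∣ (1 : R) ⊗ₜ[k] f := by
    rw [← hfi]
    apply map_dvd
    obtain ⟨g, rfl⟩ := hpf
    exact ⟨(1 : R) ⊗ₜ g, by rw [Algebra.TensorProduct.tmul_mul_tmul, mul_one]⟩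
  obtain ⟨s, hs, hsf⟩ := UniqueFactorizationMonoid.exists_prime_factors f hf
  let j : A →ₐ[k] R ⊗[k] A := Algebra.TensorProduct.includeRight
  have h2 : σ ((1 : R) ⊗ₜ[k] p) ∣ (s.map j).prod := by
    rw [← map_multiset_prod]
    refine h1.trans ?_
    exact map_dvd j hsf.symm.dvd
  obtain ⟨z, hz, hzd⟩ := hσp.exists_mem_multiset_dvd h2
  obtain ⟨q, hq, rfl⟩ := Multiset.mem_map.1 hz
  have h3 : Associated (σ ((1 : R) ⊗ₜ[k] p)) ((1 : R) ⊗ₜ[k] q) :=
    hσp.associated_of_dvd (prime_tmul (hs q hq)) hzd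
  obtain ⟨w, hw⟩ := h3.symm
  obtain ⟨r, hr⟩ := exists_of_isUnit (R := R) hu (w : R ⊗[k] A) w.isUnit
  rw [hr, Algebra.TensorProduct.tmul_mul_tmul, one_mul, mul_one] at hw
  -- evaluate at the identity
  have h4 : p = ε r • q := by
    rw [← hε p, ← hw, evL_tmul]
  have h5 : ε r ≠ 0 := by
    intro h
    rw [h, zero_smul] at h4
    exact hp.ne_zero h4
  refine ⟨(ε r)⁻¹ • r, ?_⟩
  rw [← hw]
  conv_rhs => rw [h4]
  rw [TensorProduct.tmul_smul, TensorProduct.smul_tmul', smul_smul, mul_inv_cancel₀ h5, one_smul]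

end K498.UfdAlg
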