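import Groth.Agent.AGF.K498.Pts
import Groth.Agent.AGF.K498.UfdAlg
import Groth.Agent.AGF.K498.Frac
import Groth.Agent.Sga3.H811.Pts
import Groth.Agent.Sga3B.CellDim

/-!
# Unique factorisation in rings of invariants (groups without characters)
-/

set_option autoImplicit false

universe u v

open CategoryTheory MonoidalCategory CartesianMonoidalCategory MonObj GrpObj AlgebraicGeometry
open scoped TensorProduct

namespace K498.Ufd

open VecGrp K498.Pts K498.UfdAlg Groth.Agent.Sga3.H811.Pts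

variable {k : Type u} [Field k] {G : Over (Spec (CommRingCat.of k))} [GrpObj G]
  {A : Type u} [CommRing A] [Algebra k A]

lemma tmul_injective {A : Type u} [CommRing A] [IsDomain A] [Algebra k A] {B : Type u} [CommRing B]
    [Algebra k B] {p : A} (hp : p ≠ 0) {b b' : B} (h : b ⊗ₜ[k] p = b' ⊗ₜ[k] p) : b = b' := by
  have h1 : (b ⊗ₜ[k] (1 : A)) = b' ⊗ₜ[k] (1 : A) := by
    apply K498.Frac.mul_right_cancel_one_tmul hp
    rw [Algebra.TensorProduct.tmul_mul_tmul, Algebra.TensorProduct.tmul_mul_tmul, _root_.mul_one,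
      _root_.mul_one, _root_.one_mul, h]
  exact Algebra.TensorProduct.includeLeft_injective (S := k) (FaithfulSMul.algebraMap_injective k A) h1

variable (ρ : VecGrp.GMod G A)

/-- If the universal point multiplies `1 ⊗ p` by `r`, then the value of `r` is a character. -/
theorem exists_char [IsAffine G.left] [IsDomain A] {R : Type u} [CommRing R] [Algebra k R]
    (e : G ≅ pt k R) {p : A} (hp : p ≠ 0) {r : R} (h : ρ.ρ R e.inv ((1 : R) ⊗ₜ[k] p) = r ⊗ₜ[k] p) :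
    ∃ χ : G ⟶ Red.Gm (Spec (CommRingCat.of k)), IsMonHom χ ∧
      (Scheme.ΓSpecIso (CommRingCat.of R)).hom (Red.gmFn (e.inv ≫ χ)) = r := by
  -- value at a point
  have key : ∀ (B : Type u) [CommRing B] [Algebra k B] (φ : R →ₐ[k] B),
      ρ.ρ B (ptMap φ ≫ e.inv) ((1 : B) ⊗ₜ[k] p) = φ r ⊗ₜ[k] p := by
    intro B _ _ φ
    have h1 := ρ.naturality φ e.inv ((1 : R) ⊗ₜ[k] p)
    rw [h, Wmap_tmul, Wmap_tmul, map_one] at h1
    exact h1.symm
  have hmul : ∀ (B : Type u) [CommRing B] [Algebra k B] (φ ψ θ : R →ₐ[k] B),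
      (ptMap φ ≫ e.inv) * (ptMap ψ ≫ e.inv) = ptMap θ ≫ e.inv → θ r = φ r * ψ r := by
    intro B _ _ φ ψ θ hθ
    have h1 := key B θ
    rw [← hθ, map_mul, LinearEquiv.mul_apply, key B ψ] at h1
    have h2 : ψ r ⊗ₜ[k] p = ψ r • ((1 : B) ⊗ₜ[k] p) := by
      rw [TensorProduct.smul_tmul', smul_eq_mul, _root_.mul_one]
    rw [h2, map_smul, key B φ, TensorProduct.smul_tmul', smul_eq_mul] at h1
    rw [_root_.mul_comm]
    exact (tmul_injective hp h1).symm
  have hpt : ∀ (B : Type u) [CommRing B] [Algebra k B] (g : pt k B ⟶ G), ∃ φ : R →ₐ[k] B,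
      g = ptMap φ ≫ e.inv := by
    intro B _ _ g
    obtain ⟨φ, hφ⟩ := exists_eq_ptMap (g ≫ e.hom)
    exact ⟨φ, by rw [← hφ, Category.assoc, Iso.hom_inv_id, Category.comp_id]⟩
  have hone : ∀ (B : Type u) [CommRing B] [Algebra k B] (φ : R →ₐ[k] B), ptMap φ ≫ e.inv = 1 → φ r = 1 := by
    intro B _ _ φ hφ
    have h1 := key B φ
    rw [hφ, map_one] at h1
    exact (tmul_injective hp h1).symm
  have hunit : IsUnit r := by
    obtain ⟨ψ, hψ⟩ := hpt R e.inv⁻¹
    obtain ⟨θ, hθ⟩ := hpt R 1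
    have h1 := hmul R (AlgHom.id k R) ψ θ (by
      rw [← hψ, ← hθ, ptMap_id, Category.id_comp, mul_inv_cancel])
    rw [hone R θ hθ.symm] at h1
    exact IsUnit.of_mul_eq_one _ h1.symm
  let z : Γ((pt k R).left, ⊤)ˣ := Units.map (Scheme.ΓSpecIso (CommRingCat.of R)).inv.hom.toMonoidHom hunit.unit
  have hz : (z : Γ((pt k R).left, ⊤)) = (Scheme.ΓSpecIso (CommRingCat.of R)).inv r := rfl
  refine ⟨e.hom ≫ gmPt (pt k R) z, ?_, ?_⟩
  · refine isMonHom_of_pt _ fun B _ _ x y => ?_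
    obtain ⟨φ, rfl⟩ := hpt B x
    obtain ⟨ψ, rfl⟩ := hpt B y
    obtain ⟨θ, hθ⟩ := hpt B ((ptMap φ ≫ e.inv) * (ptMap ψ ≫ e.inv))
    rw [hθ]
    simp only [Category.assoc, Iso.inv_hom_id_assoc]
    apply gmFn_injective
    rw [gmFn_mul, gmFn_comp, gmFn_comp, gmFn_comp, gmFn_gmPt, hz]
    have h3 : ∀ φ : R →ₐ[k] B, (ptMap φ).left.appTop ((Scheme.ΓSpecIso (CommRingCat.of R)).inv r) =
        (Scheme.ΓSpecIso (CommRingCat.of B)).inv (φ r) := by
      intro φ
      have h4 := Scheme.ΓSpecIso_inv_naturality (CommRingCat.ofHom φ.toRingHom)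
      exact (congrArg (fun q : CommRingCat.of R ⟶ _ => q.hom r) h4).symm
    rw [h3, h3, h3, hmul B φ ψ θ hθ, map_mul]
  · rw [Iso.inv_hom_id_assoc, gmFn_gmPt, hz]
    exact congrArg (fun q : CommRingCat.of R ⟶ _ => q.hom r) (Scheme.ΓSpecIso (CommRingCat.of R)).inv_hom_id

/-- A prime factor of an invariant is invariant. -/
theorem mem_fixed_of_dvd [IsAlgClosed k] [IsAffine G.left] [Smooth G.hom] [ConnectedSpace G.left]
    (hχ : ∀ χ : G ⟶ Red.Gm (Spec (CommRingCat.of k)), IsMonHom χ → χ = 1)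
    [IsDomain A] [UniqueFactorizationMonoid A]
    (hunits : ∀ x : Aˣ, (x : A) ∈ Set.range (algebraMap k A)) (hρ : ρ.IsMult)
    {f p : A} (hf : f ≠ 0) (hfi : f ∈ ρ.fixedSubalgebra hρ (𝟙 G)) (hp : Prime p) (hpf : p ∣ f) :
    p ∈ ρ.fixedSubalgebra hρ (𝟙 G) := by
  obtain ⟨R, _, _, ⟨e⟩⟩ := exists_iso_pt G
  have hint : IsIntegral G.left := Groth.Agent.Sga3B.CellDim.isIntegral_of_connected_grp G
  have h1 : Algebra.FiniteType k R := finiteType_of_iso e
  have h2 : IsDomain R := isDomain_of_iso e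
  obtain ⟨ε, hε⟩ := exists_eq_ptMap ((1 : pt k k ⟶ G) ≫ e.hom)
  have hε' : ptMap ε ≫ e.inv = 1 := by
    rw [← hε, Category.assoc, Iso.hom_inv_id, Category.comp_id]
  let σ : R ⊗[k] A ≃+* R ⊗[k] A :=
    { (ρ.ρ R e.inv).toAddEquiv with map_mul' := (hρ R e.inv).1 }
  have hσ : ∀ x, σ x = ρ.ρ R e.inv x := fun _ => rfl
  obtain ⟨r, hr⟩ := exists_of_dvd (R := R) hunits ε σ (by
    intro a
    have h3 := ρ.naturality ε e.inv ((1 : R) ⊗ₜ[k] a)
    rw [hε', map_one] at h3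
    have h4 : ∀ x : R ⊗[k] A, evL A ε x = TensorProduct.lid k A (Wmap ε x) := by
      intro x
      induction x using TensorProduct.induction_on with
      | zero => simp
      | tmul r a => simp
      | add x y hx hy => rw [map_add, map_add, map_add, hx, hy]
    rw [h4, hσ, h3]
    change TensorProduct.lid k A (Wmap ε ((1 : R) ⊗ₜ[k] a)) = a
    simp) hf (by
    rw [hσ]
    have := hfi R e.inv
    rwa [Category.comp_id] at this) hp hpf
  obtain ⟨χ, hm, hχr⟩ := exists_char ρ e hp.ne_zero hr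
  have h5 : r = 1 := by
    rw [hχ χ hm, MonObj.comp_one, gmFn_one, map_one] at hχr
    exact hχr.symm
  intro B _ _ g
  obtain ⟨φ, hφ⟩ := exists_eq_ptMap (g ≫ e.hom)
  have h6 : g ≫ 𝟙 G = ptMap φ ≫ e.inv := by
    rw [← hφ, Category.assoc, Iso.hom_inv_id]
  have h7 := ρ.naturality φ e.inv ((1 : R) ⊗ₜ[k] p)
  rw [← hσ, hr, h5, Wmap_tmul, map_one] at h7
  rw [h6]
  exact h7.symm

/-- The ring of invariants is a unique factorisation domain. -/
theorem ufd_fixed [IsAlgClosed k] [IsAffine G.left] [Smooth G.hom] [ConnectedSpace G.left]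
    (hχ : ∀ χ : G ⟶ Red.Gm (Spec (CommRingCat.of k)), IsMonHom χ → χ = 1)
    [IsDomain A] [UniqueFactorizationMonoid A]
    (hunits : ∀ x : Aˣ, (x : A) ∈ Set.range (algebraMap k A)) (hρ : ρ.IsMult) :
    UniqueFactorizationMonoid ↥(ρ.fixedSubalgebra hρ (𝟙 G)) := by
  classical
  apply UniqueFactorizationMonoid.of_exists_prime_factors
  intro f hf
  have hf0 : (f : A) ≠ 0 := fun h => hf (Subtype.ext h)
  obtain ⟨s, hs, hsf⟩ := UniqueFactorizationMonoid.exists_prime_factors (f : A) hf0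
  have hmem : ∀ q ∈ s, q ∈ ρ.fixedSubalgebra hρ (𝟙 G) := by
    intro q hq
    exact mem_fixed_of_dvd ρ hχ hunits hρ hf0 f.2 (hs q hq)
      ((Multiset.dvd_prod hq).trans hsf.dvd)
  -- lift `s`
  obtain ⟨t, ht⟩ : ∃ t : Multiset ↥(ρ.fixedSubalgebra hρ (𝟙 G)),
      t.map (ρ.fixedSubalgebra hρ (𝟙 G)).val = s := by
    refine ⟨s.attach.map fun q => ⟨q.1, hmem q.1 q.2⟩, ?_⟩
    rw [Multiset.map_map]
    exact Multiset.attach_map_val s
  have hprod : ((t.prod : ↥(ρ.fixedSubalgebra hρ (𝟙 G))) : A) = s.prod := by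
    rw [← ht]
    exact map_multiset_prod (ρ.fixedSubalgebra hρ (𝟙 G)).val t
  have hdvd : ∀ x y : ↥(ρ.fixedSubalgebra hρ (𝟙 G)), (x : A) ≠ 0 → (x : A) ∣ y → x ∣ y := by
    rintro x y hx ⟨z, hz⟩
    refine ⟨⟨z, K498.Frac.mem_fixedSubalgebra_of_mul ρ hρ (𝟙 G) hx x.2 y.2 (by rw [_root_.mul_comm, hz])⟩,
      Subtype.ext hz⟩
  refine ⟨t, ?_, ?_⟩
  · intro q hq
    have h1 : Prime (q : A) := hs _ (by rw [← ht]; exact Multiset.mem_map_of_mem _ hq)
    refine ⟨fun h => h1.ne_zero (by rw [h]; rfl), fun h => h1.not_isUnit (h.map (ρ.fixedSubalgebra hρ (𝟙 G)).val), ?_⟩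
    intro x y hxy
    have h2 : (q : A) ∣ x * y := by
      obtain ⟨z, hz⟩ := hxy
      exact ⟨z, congrArg Subtype.val hz⟩
    rcases h1.dvd_or_dvd h2 with h3 | h3
    · exact Or.inl (hdvd _ _ h1.ne_zero h3)
    · exact Or.inr (hdvd _ _ h1.ne_zero h3)
  · apply associated_of_dvd_dvd
    · apply hdvd
      · rw [hprod]
        intro h
        exact hf0 (by rw [h] at hsf; exact (Associated.symm hsf).eq_zero_iff.2 rfl)
      · rw [hprod]; exact hsf.dvd
    · apply hdvd _ _ hf0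
      rw [hprod]; exact hsf.symm.dvd

end K498.Ufd
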